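import Mathlib

/-!
# Group-theoretic lemmas for local blocks with cyclic defect groups (helper82)
-/

set_option autoImplicit false

namespace Cfsg.Agent.Lib.Helper82

namespace NilAbel

variable {G : Type*} [Group G]

/-- In a finite cyclic group a subgroup is determined by its order. -/
theorem subgroup_eq_of_card_eq_cyclic {H : Type*} [Group H] [Finite H] [IsCyclic H]
    (C₁ C₂ : Subgroup H) (h : Nat.card C₁ = Nat.card C₂) : C₁ = C₂ := by
  classical
  have : Fintype H := Fintype.ofFinite H
  have key : ∀ C : Subgroup H, (C : Set H) = {a : H | a ^ Nat.card C = 1} := by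
    intro C
    have hpos : 0 < Nat.card C := Nat.card_pos
    apply Set.eq_of_subset_of_ncard_le
    · intro x hx
      have := pow_card_eq_one' (G := C) (x := ⟨x, hx⟩)
      exact congrArg Subtype.val this
    · have h1 : ({a : H | a ^ Nat.card C = 1} : Set H).ncard ≤ Nat.card C := by
        rw [Set.ncard_eq_toFinset_card', Set.toFinset_ofPred]
        exact IsCyclic.card_pow_eq_one_le hpos
      have h2 : (C : Set H).ncard = Nat.card C := (Nat.card_coe_set_eq (C : Set H)).symm
      rw [h2]
      exact h1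
    · exact Set.toFinite _
  apply SetLike.coe_injective
  rw [key C₁, key C₂, h]

/-- Subgroups of the same order of a finite cyclic subgroup are equal. -/
theorem eq_of_card_eq_of_le_cyclic [Finite G] {P C₁ C₂ : Subgroup G} (hP : IsCyclic P)
    (h1 : C₁ ≤ P) (h2 : C₂ ≤ P) (hc : Nat.card C₁ = Nat.card C₂) : C₁ = C₂ := by
  have e1 : Nat.card (C₁.subgroupOf P) = Nat.card C₁ :=
    Nat.card_congr (Subgroup.subgroupOfEquivOfLe h1).toEquiv
  have e2 : Nat.card (C₂.subgroupOf P) = Nat.card C₂ :=
    Nat.card_congr (Subgroup.subgroupOfEquivOfLe h2).toEquiv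
  have := subgroup_eq_of_card_eq_cyclic (C₁.subgroupOf P) (C₂.subgroupOf P)
    (by rw [e1, e2, hc])
  rw [Subgroup.subgroupOf_inj] at this
  rwa [inf_eq_left.mpr h1, inf_eq_left.mpr h2] at this

/-- The normalizer of a finite cyclic subgroup normalizes each of its subgroups. -/
theorem map_conj_eq_of_le_cyclic [Finite G] {P Q : Subgroup G} (hP : IsCyclic P) (hQP : Q ≤ P)
    {t : G} (ht : t ∈ Subgroup.normalizer (P : Set G)) :
    Q.map (MulAut.conj t).toMonoidHom = Q := by
  have h1 : Q.map (MulAut.conj t).toMonoidHom ≤ P := by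
    rintro _ ⟨q, hq, rfl⟩
    show t * q * t⁻¹ ∈ P
    exact (Subgroup.mem_normalizer_iff.mp ht q).mp (hQP hq)
  apply eq_of_card_eq_of_le_cyclic hP h1 hQP
  exact Subgroup.card_map_of_injective (MulAut.conj t).injective

theorem mem_normalizer_of_le_cyclic [Finite G] {P Q : Subgroup G} (hP : IsCyclic P)
    (hQP : Q ≤ P) {t : G} (ht : t ∈ Subgroup.normalizer (P : Set G)) :
    t ∈ Subgroup.normalizer (Q : Set G) := by
  have h1 := map_conj_eq_of_le_cyclic hP hQP ht
  have h2 := map_conj_eq_of_le_cyclic hP hQP (Subgroup.inv_mem _ ht)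
  rw [Subgroup.mem_normalizer_iff]
  intro q
  constructor
  · intro hq
    rw [← h1]
    exact ⟨q, hq, rfl⟩
  · intro hq
    have : t⁻¹ * (t * q * t⁻¹) * t⁻¹⁻¹ ∈ Q.map (MulAut.conj t⁻¹).toMonoidHom := ⟨_, hq, rfl⟩
    rw [h2] at this
    have h3 : t⁻¹ * (t * q * t⁻¹) * t⁻¹⁻¹ = q := by group
    rwa [h3] at this

/-- Second isomorphism theorem for relative indices, with `T` only normalizing `C`. -/
theorem relIndex_sup_of_le_normalizer {T C : Subgroup G}
    (hTN : T ≤ Subgroup.normalizer (C : Set G)) : C.relIndex (T ⊔ C) = C.relIndex T := by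
  set N := Subgroup.normalizer (C : Set G) with hN
  have hCN : C ≤ N := Subgroup.le_normalizer
  have hsup : T ⊔ C ≤ N := sup_le hTN hCN
  have : (C.subgroupOf N).Normal := Subgroup.normal_in_normalizer
  have h1 := Subgroup.relIndex_sup_right (H := T.subgroupOf N) (K := C.subgroupOf N)
  rw [← Subgroup.subgroupOf_sup hTN hCN, Subgroup.relIndex_subgroupOf hsup,
    Subgroup.relIndex_subgroupOf hTN] at h1
  exact h1

end NilAbel

end Cfsg.Agent.Lib.Helper82
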