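import Cfsg.Agent.Lib.Helper78.WBO
import Cfsg.Agent.Lib.Helper75.Clifford
import Cfsg.Agent.Lib.Helper77.Deflation

/-!
# Blocks and inflation from quotients by normal `p`-subgroups (helper82)

* `blockCoeff_eq_zero_of_pSingular` : Osima's `p`-regular support (from helper78's weak block
  orthogonality).
* `sameBlock_of_forall_support` : two irreducible characters lie in the same block as soon as
  their central characters agree mod `M` at all elements where the idempotent coefficient of the
  block of the first one is not in the local ideal.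
* `sameBlock_iff_pRegular` : blocks are determined by central characters on `p`-regular classes.
* `centralChar_comp_mk` / `sameBlock_comp_mk` : central characters of inflations.
* `exists_mem_block_forall_mem_eq` : every block contains a character with a given normal
  `p`-subgroup in its kernel.
-/

set_option autoImplicit false
set_option linter.style.haveILetI false

namespace Cfsg.Agent.Lib.Helper82

open Cfsg Cfsg.Agent.Lib.Helper16 Cfsg.Agent.Lib.Helper78
open scoped ComplexConjugate

section Support

variable {G : Type*} [Group G] [Fintype G]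

/-- Osima: the block idempotent is supported on `p`-regular elements. -/
theorem blockCoeff_eq_zero_of_pSingular {p : ℕ} [Fact p.Prime] {M : Ideal AlgInt}
    (hM : IsPModular p M) {B : Set (IrrCharacter G)} (hB : IsPBlock M B) (y : G)
    (hy : p ∣ orderOf y) : blockCoeff B y = 0 := by
  have h1 := weak_block_orthogonality hM hB 1 y
    (by rw [orderOf_one]; exact (Fact.out : p.Prime).one_lt.ne' ∘ Nat.dvd_one.mp) hy
  unfold blockCoeff
  rw [h1, mul_zero]

/-- Two irreducible characters lie in the same block as soon as their central characters agree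
mod `M` wherever the idempotent coefficient of the block of the first is not in the local ideal. -/
theorem sameBlock_of_forall_support {p : ℕ} [Fact p.Prime] {M : Ideal AlgInt}
    (hM : IsPModular p M) (χ ψ : IrrCharacter G)
    (h : ∀ g : G, MemLocalIdeal M (blockCoeff (blockOf M (χ : G → ℂ)) g) ∨
      MemLocalIdeal M (centralChar (χ : G → ℂ) g - centralChar (ψ : G → ℂ) g)) :
    SameBlock M (χ : G → ℂ) (ψ : G → ℂ) := by
  classical
  haveI := isPModular_isPrime hM
  have hMtop : M ≠ ⊤ := (isPModular_isPrime hM).ne_top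
  set B := blockOf M (χ : G → ℂ) with hB
  have hBblock : IsPBlock M B := isPBlock_blockOf χ
  by_contra hne
  have hψ : ψ ∉ B := hne
  set z := blockElt B with hz
  have hzc := blockElt_mem_center B
  have h1 : omega (χ : G → ℂ) z = 1 := by
    rw [hz, omega_blockElt, if_pos (self_mem_blockOf hMtop χ)]
  have h0 : omega (ψ : G → ℂ) z = 0 := by
    rw [hz, omega_blockElt, if_neg hψ]
  rw [omega_eq_sum_classes _ (irr_conj χ) hzc] at h1
  rw [omega_eq_sum_classes _ (irr_conj ψ) hzc] at h0
  have hdiff : MemLocalIdeal M (1 : ℂ) := by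
    have : (1 : ℂ) = ∑ c : ConjClasses G, z.coeff (classRep c) *
        (centralChar (χ : G → ℂ) (classRep c) - centralChar (ψ : G → ℂ) (classRep c)) := by
      simp only [mul_sub, Finset.sum_sub_distrib]
      rw [h1, h0, sub_zero]
    rw [this]
    apply memLocalIdeal_sum
    intro c _
    rw [hz, coeff_blockElt]
    have hlr : MemLocalRing M (centralChar (χ : G → ℂ) (classRep c) -
        centralChar (ψ : G → ℂ) (classRep c)) :=
      memLocalRing_sub
        (memLocalRing_of_isIntegral hMtop (Cfsg.Agent.Lib.Helper79.isIntegral_centralChar χ _))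
        (memLocalRing_of_isIntegral hMtop (Cfsg.Agent.Lib.Helper79.isIntegral_centralChar ψ _))
    rcases h (classRep c) with h2 | h2
    · exact memLocalIdeal_mul_right h2 hlr
    · exact memLocalIdeal_mul_left (blockCoeff_memLocalRing hBblock _) h2
  exact one_not_memLocalIdeal hdiff

/-- Blocks are determined by the central characters on `p`-regular elements. -/
theorem sameBlock_iff_pRegular {p : ℕ} [Fact p.Prime] {M : Ideal AlgInt}
    (hM : IsPModular p M) (χ ψ : IrrCharacter G) :
    SameBlock M (χ : G → ℂ) (ψ : G → ℂ) ↔ ∀ g : G, ¬ p ∣ orderOf g →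
      MemLocalIdeal M (centralChar (χ : G → ℂ) g - centralChar (ψ : G → ℂ) g) := by
  have hMtop : M ≠ ⊤ := (isPModular_isPrime hM).ne_top
  constructor
  · intro h g _
    exact h g
  · intro h
    apply sameBlock_of_forall_support hM
    intro g
    by_cases hg : p ∣ orderOf g
    · left
      rw [blockCoeff_eq_zero_of_pSingular hM (isPBlock_blockOf χ) g hg]
      exact memLocalIdeal_zero hMtop
    · right
      exact h g hg

end Support

section Inflation

variable {G : Type*} [Group G] (N : Subgroup G) [N.Normal]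

/-- The centralizer of `g` lies in the preimage of the centralizer of its image. -/
theorem centralizer_le_comap (g : G) :
    Subgroup.centralizer ({g} : Set G) ≤
      (Subgroup.centralizer ({(g : G ⧸ N)} : Set (G ⧸ N))).comap (QuotientGroup.mk' N) := by
  intro x hx
  rw [Subgroup.mem_comap, Subgroup.mem_centralizer_singleton_iff]
  rw [Subgroup.mem_centralizer_singleton_iff] at hx
  show (QuotientGroup.mk' N x) * (g : G ⧸ N) = (g : G ⧸ N) * (QuotientGroup.mk' N x)
  have := congrArg (QuotientGroup.mk' N) hx
  simpa using this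

/-- The class size of `g` is a multiple of the class size of its image. -/
theorem index_centralizer_eq_mul (g : G) :
    (Subgroup.centralizer ({g} : Set G)).index =
      (Subgroup.centralizer ({g} : Set G)).relIndex
        ((Subgroup.centralizer ({(g : G ⧸ N)} : Set (G ⧸ N))).comap (QuotientGroup.mk' N)) *
      (Subgroup.centralizer ({(g : G ⧸ N)} : Set (G ⧸ N))).index := by
  rw [← Subgroup.index_comap_of_surjective _ (QuotientGroup.mk'_surjective N)]
  exact (Subgroup.relIndex_mul_index (centralizer_le_comap N g)).symm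

/-- Central characters of inflated functions. -/
theorem centralChar_comp_mk (χ : G ⧸ N → ℂ) (g : G) :
    centralChar (χ ∘ (QuotientGroup.mk : G → G ⧸ N)) g =
      (((Subgroup.centralizer ({g} : Set G)).relIndex
        ((Subgroup.centralizer ({(g : G ⧸ N)} : Set (G ⧸ N))).comap (QuotientGroup.mk' N)) : ℕ) : ℂ) *
      centralChar χ (g : G ⧸ N) := by
  unfold centralChar
  rw [index_centralizer_eq_mul N g]
  simp only [Function.comp_apply, QuotientGroup.mk_one, Nat.cast_mul]
  ring

/-- Inflation preserves `SameBlock`. -/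
theorem sameBlock_comp_mk {M : Ideal AlgInt} (hMtop : M ≠ ⊤) [M.IsPrime] {χ ψ : G ⧸ N → ℂ}
    (h : SameBlock M χ ψ) :
    SameBlock M (χ ∘ (QuotientGroup.mk : G → G ⧸ N)) (ψ ∘ (QuotientGroup.mk : G → G ⧸ N)) := by
  intro g
  rw [centralChar_comp_mk, centralChar_comp_mk, ← mul_sub]
  exact memLocalIdeal_mul_left (memLocalRing_natCast hMtop _) (h _)

end Inflation

section Kernel

open Cfsg.Agent.Lib.Helper75

universe u

variable {G : Type u} [Group G] [Fintype G] (N : Subgroup G) [N.Normal] [Fintype N]

/-- If the restriction of an irreducible character to a normal subgroup contains the trivial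
character, then the normal subgroup lies in the kernel. -/
theorem forall_mem_eq_of_sum_ne_zero {θ : G → ℂ} (hθ : IsIrrCharacter G θ)
    (hsum : ∑ n : N, θ (n : G) ≠ 0) : ∀ n ∈ N, θ n = θ 1 := by
  classical
  have h1 : IsIrrCharacter N (fun _ : N => (1 : ℂ)) := isIrrCharacter_one
  have hconst : classInner (fun n : N => θ n) (fun _ : N => (1 : ℂ)) ≠ 0 := by
    unfold classInner
    simp only [map_one, mul_one]
    apply mul_ne_zero _ hsum
    apply inv_ne_zero
    exact_mod_cast (Nat.card_pos (α := N)).ne'
  have hcl := clifford_finset N hθ h1 hconst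
  have horb : conjOrbit N (fun _ : N => (1 : ℂ)) = {⟨fun _ : N => (1 : ℂ), h1⟩} := by
    ext φ
    rw [mem_conjOrbit, Finset.mem_singleton]
    constructor
    · rintro ⟨g, hg⟩
      apply Subtype.ext
      rw [← hg]
      rfl
    · intro hφ
      exact ⟨1, by rw [hφ]; rfl⟩
  rw [horb, Finset.sum_singleton] at hcl
  intro n hn
  have e1 := congrFun hcl ⟨n, hn⟩
  have e2 := congrFun hcl ⟨1, N.one_mem⟩
  simp only [Pi.smul_apply, smul_eq_mul, mul_one] at e1 e2
  rw [e1, e2]

/-- Every block contains a character having a given normal `p`-subgroup in its kernel. -/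
theorem exists_mem_block_forall_mem_eq {p : ℕ} [Fact p.Prime] {M : Ideal AlgInt}
    (hM : IsPModular p M) (hN : IsPGroup p N) {B : Set (IrrCharacter G)} (hB : IsPBlock M B) :
    ∃ θ ∈ B, ∀ n ∈ N, (θ : G → ℂ) n = (θ : G → ℂ) 1 := by
  classical
  have hMtop : M ≠ ⊤ := (isPModular_isPrime hM).ne_top
  by_contra hcon
  push Not at hcon
  set F := Finset.univ.filter (fun χ : IrrCharacter G => χ ∈ B) with hF
  have hzero : ∀ θ ∈ F, ∑ n : N, (θ : G → ℂ) (n : G) = 0 := by
    intro θ hθ
    by_contra hne
    obtain ⟨n, hn, hn'⟩ := hcon θ (Finset.mem_filter.mp hθ).2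
    exact hn' (forall_mem_eq_of_sum_ne_zero N θ.2 hne n hn)
  -- the double sum
  have hreal : ∀ θ : IrrCharacter G, conj ((θ : G → ℂ) 1) = (θ : G → ℂ) 1 := by
    intro θ
    rw [IsCharacter.apply_one_eq_charDegree (IsIrrCharacter.isCharacter θ.2), Complex.conj_natCast]
  have hsing : ∀ n : N, n ≠ 1 → ∑ θ ∈ F, (θ : G → ℂ) (n : G) * (θ : G → ℂ) 1 = 0 := by
    intro n hn
    have hy : p ∣ orderOf (n : G) := by
      obtain ⟨k, hk⟩ := (IsPGroup.iff_orderOf.mp hN) n
      rw [Subgroup.orderOf_coe, hk]
      rcases k with _ | k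
      · exfalso
        rw [pow_zero, orderOf_eq_one_iff] at hk
        exact hn hk
      · exact dvd_pow_self p (Nat.succ_ne_zero k)
    have h1 := weak_block_orthogonality_sum hM hB 1 (n : G)
      (by rw [orderOf_one]; exact (Fact.out : p.Prime).one_lt.ne' ∘ Nat.dvd_one.mp) hy
    rw [← h1]
    refine Finset.sum_congr rfl fun θ _ => ?_
    rw [hreal]
  have htotal : ∑ θ ∈ F, (θ : G → ℂ) 1 * ∑ n : N, (θ : G → ℂ) (n : G) = 0 := by
    apply Finset.sum_eq_zero
    intro θ hθ
    rw [hzero θ hθ, mul_zero]
  have htotal2 : ∑ θ ∈ F, (θ : G → ℂ) 1 * ∑ n : N, (θ : G → ℂ) (n : G) =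
      ∑ θ ∈ F, (θ : G → ℂ) 1 * (θ : G → ℂ) 1 := by
    simp_rw [Finset.mul_sum]
    rw [Finset.sum_comm]
    rw [Finset.sum_eq_single (1 : N)]
    · rfl
    · intro n _ hn
      rw [← hsing n hn]
      refine Finset.sum_congr rfl fun θ _ => ?_
      ring
    · intro h; exact absurd (Finset.mem_univ _) h
  rw [htotal2] at htotal
  -- but the sum of squares of degrees is positive
  obtain ⟨θ₀, hθ₀⟩ := IsPBlock_nonempty hMtop hB
  have hθ₀F : θ₀ ∈ F := Finset.mem_filter.mpr ⟨Finset.mem_univ _, hθ₀⟩
  have hpos : (0 : ℝ) < ∑ θ ∈ F, ((charDegree (θ : G → ℂ) : ℝ)) ^ 2 := by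
    apply Finset.sum_pos'
    · intro θ _; positivity
    · refine ⟨θ₀, hθ₀F, ?_⟩
      have := IsIrrCharacter.charDegree_pos θ₀.2
      positivity
  have hcast : ∑ θ ∈ F, (θ : G → ℂ) 1 * (θ : G → ℂ) 1 =
      ((∑ θ ∈ F, ((charDegree (θ : G → ℂ) : ℝ)) ^ 2 : ℝ) : ℂ) := by
    push_cast
    refine Finset.sum_congr rfl fun θ _ => ?_
    rw [IsCharacter.apply_one_eq_charDegree (IsIrrCharacter.isCharacter θ.2), sq]
  rw [hcast] at htotal
  have : (∑ θ ∈ F, ((charDegree (θ : G → ℂ) : ℝ)) ^ 2 : ℝ) = 0 := by exact_mod_cast htotal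
  exact hpos.ne' this

end Kernel

end Cfsg.Agent.Lib.Helper82
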