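import Mathlib
import Cfsg.Agent.Lib.Helper78.SubsectionNorm2

/-!
# Contributions of a subsection: the analytic identities

For a `p`-element `u` with centralizer `H`, a block `b` of `H` inducing the block `B` of `G`, and
an irreducible character `χ` of `G`, `secPart u H b χ` is the `b`-part of `c ↦ χ(u c)`, and
`secM p u H b χ ψ = |H|⁻¹ ∑_{s ∈ H p-regular} secPart χ s * conj (secPart ψ s)` the contribution of
the subsection `(u, b)`.  The matrix of contributions is a Hermitian idempotent of trace `l(b)`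
supported on `B × B`, whence `∑_{χ, ψ ∈ B} |m_{χ ψ}|² = l(b)`.
-/

set_option autoImplicit false
set_option linter.unusedSectionVars false
set_option linter.style.haveILetI false

namespace Cfsg.Agent.Lib.Helper82

open Cfsg MonoidAlgebra Finset Cfsg.Agent.Lib.Helper16 Cfsg.Agent.Lib.Helper78
open scoped ComplexConjugate

section Kernel

variable {G : Type*} [Group G] [Fintype G] {M : Ideal AlgInt}

/-- The `(u, b)`-part of a function `χ` on `G`: the `b`-part of `c ↦ χ (u c)` on `H`. -/
noncomputable def secPart (u : G) (H : Subgroup G) [Fintype H] (b : Set (IrrCharacter H))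
    (χ : G → ℂ) : H → ℂ :=
  blockPart b (fun c : H => χ (u * (c : G)))

open scoped Classical in
/-- The kernel identity at two points. -/
theorem sum_irr_secPart_mul_conj {p : ℕ} [Fact p.Prime] (u : G)
    (hu : ∃ k : ℕ, orderOf u = p ^ k) (H : Subgroup G)
    (hH : ∀ g : G, g ∈ H ↔ Commute u g)
    [Fintype H]
    {e : Set (IrrCharacter H)}
    (s s' : H)
    (he : ∀ c : H, p ∣ orderOf c → blockKernel e s c = 0)
    (he' : ∀ c : H, p ∣ orderOf c → blockKernel e s' c = 0) :
    ∑ χ : IrrCharacter G,
      secPart u H e (χ : G → ℂ) s * conj (secPart u H e (χ : G → ℂ) s') = blockKernel e s s' := by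
  unfold secPart
  obtain ⟨N, hN⟩ : ∃ N : ℂ, N = (Nat.card (H) : ℂ) :=
    ⟨_, rfl⟩
  have hN0 : N ≠ 0 := by
    rw [hN]
    exact_mod_cast Nat.card_pos.ne'
  have hNc : conj N⁻¹ = N⁻¹ := by rw [hN, map_inv₀, Complex.conj_natCast]
  -- expand
  have hexp : ∀ χ : IrrCharacter G,
      blockPart e (fun c : H =>
        (χ : G → ℂ) (u * (c : G))) s *
      conj (blockPart e (fun c : H =>
        (χ : G → ℂ) (u * (c : G))) s') =
      N⁻¹ * N⁻¹ * ∑ c : H,
        ∑ c' : H,
          blockKernel e s c * conj (blockKernel e s' c') *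
            ((χ : G → ℂ) (u * (c : G)) * conj ((χ : G → ℂ) (u * (c' : G)))) := by
    intro χ
    rw [blockPart_eq_sum_blockKernel, blockPart_eq_sum_blockKernel, ← hN, map_mul, hNc, map_sum]
    rw [mul_mul_mul_comm, Finset.sum_mul_sum]
    congr 1
    apply Finset.sum_congr rfl
    intro c _
    apply Finset.sum_congr rfl
    intro c' _
    rw [map_mul]
    ring
  rw [Finset.sum_congr rfl (fun χ _ => hexp χ), ← Finset.mul_sum]
  -- replace the orthogonality sums
  have hrepl : ∀ c c' : H,
      blockKernel e s c * conj (blockKernel e s' c') *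
        ∑ χ : IrrCharacter G, (χ : G → ℂ) (u * (c : G)) * conj ((χ : G → ℂ) (u * (c' : G))) =
      blockKernel e s c * conj (blockKernel e s' c') *
        ∑ ξ : IrrCharacter (H),
          (ξ : H → ℂ) c *
            conj ((ξ : H → ℂ) c') := by
    intro c c'
    by_cases hc : p ∣ orderOf c
    · rw [he c hc, zero_mul, zero_mul, zero_mul]
    · by_cases hc' : p ∣ orderOf c'
      · rw [he' c' hc', map_zero, mul_zero, zero_mul, zero_mul]
      · rw [sum_irr_section_eq_gen u hu H hH c c' hc hc']
  have hswap : ∑ χ : IrrCharacter G,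
      ∑ c : H,
        ∑ c' : H,
          blockKernel e s c * conj (blockKernel e s' c') *
            ((χ : G → ℂ) (u * (c : G)) * conj ((χ : G → ℂ) (u * (c' : G)))) =
      ∑ c : H,
        ∑ c' : H,
          blockKernel e s c * conj (blockKernel e s' c') *
            ∑ ξ : IrrCharacter (H),
              (ξ : H → ℂ) c *
                conj ((ξ : H → ℂ) c') := by
    rw [Finset.sum_comm]
    apply Finset.sum_congr rfl
    intro c _
    rw [Finset.sum_comm]
    apply Finset.sum_congr rfl
    intro c' _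
    rw [← Finset.mul_sum]
    exact hrepl c c'
  rw [hswap]
  -- collect
  have hcollect : ∑ c : H,
      ∑ c' : H,
        blockKernel e s c * conj (blockKernel e s' c') *
          ∑ ξ : IrrCharacter (H),
            (ξ : H → ℂ) c *
              conj ((ξ : H → ℂ) c') =
      ∑ ξ : IrrCharacter (H),
        (∑ c : H, blockKernel e s c *
          (ξ : H → ℂ) c) *
        conj (∑ c' : H, blockKernel e s' c' *
          (ξ : H → ℂ) c') := by
    have hR : ∀ ξ : IrrCharacter (H),
        (∑ c : H, blockKernel e s c *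
          (ξ : H → ℂ) c) *
        conj (∑ c' : H, blockKernel e s' c' *
          (ξ : H → ℂ) c') =
        ∑ c : H,
          ∑ c' : H,
            blockKernel e s c * conj (blockKernel e s' c') *
              ((ξ : H → ℂ) c *
                conj ((ξ : H → ℂ) c')) := by
      intro ξ
      rw [map_sum, Finset.sum_mul_sum]
      apply Finset.sum_congr rfl
      intro c _
      apply Finset.sum_congr rfl
      intro c' _
      rw [map_mul]
      ring
    rw [Finset.sum_congr rfl (fun ξ _ => hR ξ)]
    symm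
    rw [Finset.sum_comm]
    apply Finset.sum_congr rfl
    intro c _
    rw [Finset.sum_comm]
    apply Finset.sum_congr rfl
    intro c' _
    rw [Finset.mul_sum]
  rw [hcollect]
  simp_rw [sum_blockKernel_mul_irr]
  unfold blockKernel
  rw [Finset.sum_filter, Finset.mul_sum]
  apply Finset.sum_congr rfl
  intro ξ _
  split_ifs with hξ
  · rw [map_mul, ← Nat.card_eq_fintype_card, ← hN]
    have : conj N = N := by rw [hN, Complex.conj_natCast]
    rw [this]
    field_simp
  · simp


theorem isClassFunction_secTwist (u : G) (H : Subgroup G) (hH : ∀ g : G, g ∈ H ↔ Commute u g)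
    {ϑ : G → ℂ} (hϑ : IsClassFunction G ϑ) :
    IsClassFunction H (fun c : H => ϑ (u * (c : G))) := by
  intro c d
  have hd : Commute u (d : G) := (hH d).mp d.2
  have h1 := hϑ (u * (c : G)) (d : G)
  simp only [Subgroup.coe_mul, Subgroup.coe_inv]
  rw [← h1]
  congr 1
  rw [mul_assoc (d : G), ← mul_assoc (d : G) u, ← hd.eq]
  group

/-- The second main theorem for a subgroup `H` with `g ∈ H ↔ Commute u g`. -/
theorem secPart_eq_zero_of_not_mem {p : ℕ} [Fact p.Prime] (hM : IsPModular p M) (u : G)
    (hu : ∃ k : ℕ, orderOf u = p ^ k) (H : Subgroup G)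
    (hH : ∀ g : G, g ∈ H ↔ Commute u g) [Fintype H]
    {B : Set (IrrCharacter G)} {e : Set (IrrCharacter H)}
    (hind : IsInducedBlock M H e B)
    (χ : IrrCharacter G) (hχ : χ ∉ B) (s : H) (hs : ¬ p ∣ orderOf s) :
    secPart u H e (χ : G → ℂ) s = 0 := by
  haveI hMp : M.IsPrime := isPModular_isPrime hM
  have huH : u ∈ H := (hH u).mpr (Commute.refl u)
  have hpp : IsPPart p (((⟨u, huH⟩ : H) * s : H) : G) u :=
    isPPart_mul_of_mem_gen u hu H hH s hs
  have hC : Subgroup.centralizer ({u} : Set G) ≤ H := by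
    intro g hg
    rw [Subgroup.mem_centralizer_iff] at hg
    exact (hH g).mpr (hg u (Set.mem_singleton u))
  have key := smt_idempotent hM H hind (⟨u, huH⟩ * s) hpp hC χ hχ
  unfold secPart
  rw [blockPart_eq_sum_blockCoeff e (isClassFunction_secTwist u H hH (isClassFunction_irr χ)) s,
    ← key]
  apply Finset.sum_congr rfl
  intro k _
  have hk : Commute u (k : G) := (hH k).mp k.2
  simp only [Subgroup.coe_mul]
  have e1 : u * ((k : G) * (s : G)) = (k : G) * (u * (s : G)) := by
    rw [← mul_assoc, hk.eq, mul_assoc]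
  rw [e1]

end Kernel

section Contrib

variable {G : Type*} [Group G] [Fintype G] {M : Ideal AlgInt}

open scoped Classical in
/-- The contribution of the subsection `(u, b)` to the pair `(χ, ψ)`. -/
noncomputable def secM (p : ℕ) (u : G) (H : Subgroup G) [Fintype H] (b : Set (IrrCharacter H))
    (χ ψ : G → ℂ) : ℂ :=
  (Nat.card H : ℂ)⁻¹ * ∑ s ∈ Finset.univ.filter (fun s : H => ¬ p ∣ orderOf s),
    secPart u H b χ s * conj (secPart u H b ψ s)

theorem secM_conj (p : ℕ) (u : G) (H : Subgroup G) [Fintype H] (b : Set (IrrCharacter H))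
    (χ ψ : G → ℂ) : conj (secM p u H b χ ψ) = secM p u H b ψ χ := by
  unfold secM
  rw [map_mul, map_inv₀, Complex.conj_natCast, map_sum]
  congr 1
  apply Finset.sum_congr rfl
  intro s _
  rw [map_mul, Complex.conj_conj, mul_comm]

open scoped Classical in
/-- The reproducing property of the block kernel on the `b`-part of a function. -/
theorem sum_pRegular_blockKernel_mul_blockPart {H : Type*} [Group H] [Fintype H]
    {p : ℕ} [Fact p.Prime] (hM : IsPModular p M)
    {e : Set (IrrCharacter H)} (he : IsPBlock M e) (ϑ : H → ℂ) {x : H} (hx : ¬ p ∣ orderOf x) :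
    ∑ y ∈ Finset.univ.filter (fun y : H => ¬ p ∣ orderOf y),
      blockKernel e x y * blockPart e ϑ y = (Fintype.card H : ℂ) * blockPart e ϑ x := by
  simp_rw [blockPart_apply, Finset.mul_sum]
  rw [Finset.sum_comm]
  apply Finset.sum_congr rfl
  intro ξ hξ
  simp only [Finset.mem_filter, Finset.mem_univ, true_and] at hξ
  have h1 := sum_pRegular_blockKernel_mul_irr hM he ξ hx
  rw [if_pos hξ] at h1
  have h2 : ∀ y : H, blockKernel e x y * (classInner ϑ (ξ : H → ℂ) * (ξ : H → ℂ) y) =
      classInner ϑ (ξ : H → ℂ) * (blockKernel e x y * (ξ : H → ℂ) y) := fun y => by ring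
  simp_rw [h2]
  rw [← Finset.mul_sum, h1]
  ring

open scoped Classical in
/-- The matrix of contributions is idempotent: `∑_ψ |m_{χ ψ}|² = m_{χ χ}`. -/
theorem sum_secM_mul_conj {p : ℕ} [Fact p.Prime] (hM : IsPModular p M) (u : G)
    (hu : ∃ k : ℕ, orderOf u = p ^ k) (H : Subgroup G)
    (hH : ∀ g : G, g ∈ H ↔ Commute u g) [Fintype H]
    {e : Set (IrrCharacter H)} (he : IsPBlock M e) (χ : G → ℂ) :
    ∑ ψ : IrrCharacter G, secM p u H e χ (ψ : G → ℂ) * conj (secM p u H e χ (ψ : G → ℂ)) =
      secM p u H e χ χ := by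
  obtain ⟨N, hN⟩ : ∃ N : ℂ, N = (Nat.card H : ℂ) := ⟨_, rfl⟩
  have hN0 : N ≠ 0 := by
    rw [hN]
    exact_mod_cast Nat.card_pos.ne'
  have hNc : conj N⁻¹ = N⁻¹ := by rw [hN, map_inv₀, Complex.conj_natCast]
  set R := Finset.univ.filter (fun s : H => ¬ p ∣ orderOf s) with hR
  set f := secPart u H e χ with hf
  -- expand one term
  have hterm : ∀ ψ : IrrCharacter G,
      secM p u H e χ (ψ : G → ℂ) * conj (secM p u H e χ (ψ : G → ℂ)) =
      N⁻¹ * N⁻¹ * ∑ s' ∈ R, ∑ s ∈ R, conj (f s') * f s *
        (secPart u H e (ψ : G → ℂ) s' * conj (secPart u H e (ψ : G → ℂ) s)) := by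
    intro ψ
    unfold secM
    rw [← hN, ← hR, ← hf, map_mul, hNc, map_sum, mul_mul_mul_comm, mul_comm (∑ s ∈ R, _),
      Finset.sum_mul_sum]
    congr 1
    apply Finset.sum_congr rfl
    intro s' _
    apply Finset.sum_congr rfl
    intro s _
    rw [map_mul, Complex.conj_conj]
    ring
  rw [Finset.sum_congr rfl (fun ψ _ => hterm ψ), ← Finset.mul_sum]
  -- sum over ψ inside
  have hswap : ∑ ψ : IrrCharacter G, ∑ s' ∈ R, ∑ s ∈ R, conj (f s') * f s *
        (secPart u H e (ψ : G → ℂ) s' * conj (secPart u H e (ψ : G → ℂ) s)) =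
      ∑ s' ∈ R, ∑ s ∈ R, conj (f s') * f s * blockKernel e s' s := by
    rw [Finset.sum_comm]
    apply Finset.sum_congr rfl
    intro s' hs'
    rw [Finset.sum_comm]
    apply Finset.sum_congr rfl
    intro s hs
    rw [← Finset.mul_sum]
    congr 1
    simp only [hR, Finset.mem_filter, Finset.mem_univ, true_and] at hs hs'
    exact sum_irr_secPart_mul_conj u hu H hH s' s
      (fun c hc => blockKernel_eq_zero_right hM he hs' hc)
      (fun c hc => blockKernel_eq_zero_right hM he hs hc)
  rw [hswap]
  have hinner : ∀ s' ∈ R, ∑ s ∈ R, conj (f s') * f s * blockKernel e s' s =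
      conj (f s') * (N * f s') := by
    intro s' hs'
    simp only [hR, Finset.mem_filter, Finset.mem_univ, true_and] at hs'
    have h1 := sum_pRegular_blockKernel_mul_blockPart hM he
      (fun c : H => χ (u * (c : G))) hs'
    rw [← Nat.card_eq_fintype_card, ← hN] at h1
    have h2 : ∀ s : H, conj (f s') * f s * blockKernel e s' s =
        conj (f s') * (blockKernel e s' s * f s) := fun s => by ring
    simp_rw [h2]
    rw [← Finset.mul_sum]
    congr 1
  rw [Finset.sum_congr rfl hinner]
  unfold secM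
  rw [← hN, ← hR, ← hf, Finset.mul_sum, Finset.mul_sum]
  apply Finset.sum_congr rfl
  intro s' _
  field_simp

open scoped Classical in
/-- The trace of the matrix of contributions is the rank of `e`. -/
theorem sum_secM_self {p : ℕ} [Fact p.Prime] (hM : IsPModular p M) (u : G)
    (hu : ∃ k : ℕ, orderOf u = p ^ k) (H : Subgroup G)
    (hH : ∀ g : G, g ∈ H ↔ Commute u g) [Fintype H]
    {e : Set (IrrCharacter H)} (he : IsPBlock M e) :
    ∑ χ : IrrCharacter G, secM p u H e (χ : G → ℂ) (χ : G → ℂ) = (blockRank p e : ℂ) := by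
  have hN0 : (Nat.card H : ℂ) ≠ 0 := by exact_mod_cast Nat.card_pos.ne'
  unfold secM
  rw [← Finset.mul_sum, Finset.sum_comm]
  have h1 : ∀ s ∈ Finset.univ.filter (fun s : H => ¬ p ∣ orderOf s),
      ∑ χ : IrrCharacter G, secPart u H e (χ : G → ℂ) s * conj (secPart u H e (χ : G → ℂ) s) =
        blockKernel e s s := by
    intro s hs
    simp only [Finset.mem_filter, Finset.mem_univ, true_and] at hs
    exact sum_irr_secPart_mul_conj u hu H hH s s
      (fun c hc => blockKernel_eq_zero_right hM he hs hc)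
      (fun c hc => blockKernel_eq_zero_right hM he hs hc)
  rw [Finset.sum_congr rfl h1]
  have h2 := card_mul_blockRank hM he
  rw [inv_mul_eq_iff_eq_mul₀ hN0, h2, Finset.sum_filter]
  apply Finset.sum_congr rfl
  intro s _
  rw [finsum_mem_eq_sum_of_subset (t := Finset.univ.filter (fun ξ : IrrCharacter H => ξ ∈ e))
    _ (by intro χ hχ; simpa using hχ.1) (by intro χ hχ; simpa using hχ)]
  split_ifs with hs
  · symm
    apply Finset.sum_eq_zero
    intro ξ _
    rw [pRegularPart_apply_of_singular p _ hs, zero_mul]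
  · unfold blockKernel
    apply Finset.sum_congr rfl
    intro ξ _
    rw [pRegularPart_apply_of_regular p _ hs, IsCharacter.inv (IsIrrCharacter.isCharacter ξ.2)]

/-- Contributions vanish outside the induced block (right argument). -/
theorem secM_eq_zero_of_not_mem_right {p : ℕ} [Fact p.Prime] (hM : IsPModular p M) (u : G)
    (hu : ∃ k : ℕ, orderOf u = p ^ k) (H : Subgroup G)
    (hH : ∀ g : G, g ∈ H ↔ Commute u g) [Fintype H]
    {B : Set (IrrCharacter G)} {e : Set (IrrCharacter H)}
    (hind : IsInducedBlock M H e B) (χ : G → ℂ) (ψ : IrrCharacter G) (hψ : ψ ∉ B) :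
    secM p u H e χ (ψ : G → ℂ) = 0 := by
  classical
  unfold secM
  rw [Finset.sum_eq_zero, mul_zero]
  intro s hs
  simp only [Finset.mem_filter, Finset.mem_univ, true_and] at hs
  rw [secPart_eq_zero_of_not_mem hM u hu H hH hind ψ hψ s hs, map_zero, mul_zero]

theorem secM_eq_zero_of_not_mem_left {p : ℕ} [Fact p.Prime] (hM : IsPModular p M) (u : G)
    (hu : ∃ k : ℕ, orderOf u = p ^ k) (H : Subgroup G)
    (hH : ∀ g : G, g ∈ H ↔ Commute u g) [Fintype H]
    {B : Set (IrrCharacter G)} {e : Set (IrrCharacter H)}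
    (hind : IsInducedBlock M H e B) (χ : IrrCharacter G) (hχ : χ ∉ B) (ψ : G → ℂ) :
    secM p u H e (χ : G → ℂ) ψ = 0 := by
  rw [← secM_conj, secM_eq_zero_of_not_mem_right hM u hu H hH hind ψ χ hχ, map_zero]

open scoped Classical in
/-- **The norm identity**: `∑_{χ, ψ ∈ B} |m_{χ ψ}|² = l(e)`. -/
theorem sum_block_secM_normSq {p : ℕ} [Fact p.Prime] (hM : IsPModular p M) (u : G)
    (hu : ∃ k : ℕ, orderOf u = p ^ k) (H : Subgroup G)
    (hH : ∀ g : G, g ∈ H ↔ Commute u g) [Fintype H]
    {B : Set (IrrCharacter G)} {e : Set (IrrCharacter H)}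
    (hind : IsInducedBlock M H e B) :
    ∑ χ ∈ Finset.univ.filter (fun χ : IrrCharacter G => χ ∈ B),
      ∑ ψ ∈ Finset.univ.filter (fun ψ : IrrCharacter G => ψ ∈ B),
        secM p u H e (χ : G → ℂ) (ψ : G → ℂ) * conj (secM p u H e (χ : G → ℂ) (ψ : G → ℂ)) =
      (blockRank p e : ℂ) := by
  have he : IsPBlock M e := hind.1
  rw [← sum_secM_self hM u hu H hH he]
  rw [Finset.sum_filter]
  apply Finset.sum_congr rfl
  intro χ _
  split_ifs with hχ
  · rw [← sum_secM_mul_conj hM u hu H hH he (χ : G → ℂ), Finset.sum_filter]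
    apply Finset.sum_congr rfl
    intro ψ _
    split_ifs with hψ
    · rfl
    · rw [secM_eq_zero_of_not_mem_right hM u hu H hH hind _ ψ hψ, zero_mul]
  · rw [secM_eq_zero_of_not_mem_left hM u hu H hH hind χ hχ]

end Contrib

end Cfsg.Agent.Lib.Helper82
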