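import Mathlib

/-!
# A norm inequality for integer combinations of roots of unity

For integers `c i` and `n`-th roots of unity `μ i`, put `A j = ∑ i, c i * μ i ^ j`.  If `A j ≠ 0`
for all `j` prime to `n`, then `∑_{j < n, (j, n) = 1} |A j|² ≥ φ(n)`: the product of the `A j` is the
resultant of the `n`-th cyclotomic polynomial and an integer polynomial, a nonzero integer, and the
inequality of arithmetic and geometric means applies.
-/

set_option autoImplicit false

namespace Cfsg.Agent.Lib.Helper82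

open Polynomial

/-- The product of the values of an integer polynomial at the primitive `n`-th roots of unity is an
integer. -/
theorem exists_int_prod_primitiveRoots_eval (n : ℕ) (hn : 0 < n) (P : ℤ[X]) :
    ∃ z : ℤ, ∏ ω ∈ primitiveRoots n ℂ, (P.map (Int.castRingHom ℂ)).eval ω = (z : ℂ) := by
  have : NeZero n := ⟨hn.ne'⟩
  have : NeZero ((n : ℕ) : ℂ) := ⟨by exact_mod_cast hn.ne'⟩
  refine ⟨resultant (cyclotomic n ℤ) P (cyclotomic n ℤ).natDegree P.natDegree, ?_⟩
  have h1 := resultant_eq_prod_eval (cyclotomic n ℂ) (P.map (Int.castRingHom ℂ)) P.natDegree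
    natDegree_map_le (IsAlgClosed.splits _)
  rw [(cyclotomic.monic n ℂ).leadingCoeff, one_pow, one_mul,
    cyclotomic.roots_eq_primitiveRoots_val] at h1
  have h2 : ((primitiveRoots n ℂ).val.map (P.map (Int.castRingHom ℂ)).eval).prod =
      ∏ ω ∈ primitiveRoots n ℂ, (P.map (Int.castRingHom ℂ)).eval ω := rfl
  rw [h2] at h1
  rw [← h1]
  have h3 : cyclotomic n ℂ = (cyclotomic n ℤ).map (Int.castRingHom ℂ) :=
    (map_cyclotomic_int n ℂ).symm
  have h4 : (cyclotomic n ℂ).natDegree = (cyclotomic n ℤ).natDegree := by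
    rw [natDegree_cyclotomic, natDegree_cyclotomic]
  rw [h4, h3, resultant_map_map]
  simp

/-- Arithmetic–geometric mean: nonnegative reals with product at least one have sum at least their
number. -/
theorem card_le_sum_of_one_le_prod {ι : Type*} (s : Finset ι) (x : ι → ℝ)
    (hpos : ∀ i ∈ s, 0 < x i) (hprod : 1 ≤ ∏ i ∈ s, x i) :
    (s.card : ℝ) ≤ ∑ i ∈ s, x i := by
  have h1 : ∀ i ∈ s, Real.log (x i) ≤ x i - 1 := fun i hi =>
    Real.log_le_sub_one_of_pos (hpos i hi)
  have h2 : Real.log (∏ i ∈ s, x i) = ∑ i ∈ s, Real.log (x i) :=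
    Real.log_prod (fun i hi => (hpos i hi).ne')
  have h3 : 0 ≤ Real.log (∏ i ∈ s, x i) := Real.log_nonneg hprod
  have h4 : ∑ i ∈ s, Real.log (x i) ≤ ∑ i ∈ s, (x i - 1) := Finset.sum_le_sum h1
  rw [Finset.sum_sub_distrib, Finset.sum_const, nsmul_eq_mul, mul_one] at h4
  linarith

/-- **The norm inequality.** -/
theorem totient_le_sum_normSq (n : ℕ) (hn : 0 < n) {ι : Type*} (s : Finset ι) (c : ι → ℤ)
    (μ : ι → ℂ) (hμ : ∀ i ∈ s, μ i ^ n = 1)
    (hne : ∀ j : ℕ, j.Coprime n → ∑ i ∈ s, (c i : ℂ) * μ i ^ j ≠ 0) :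
    (n.totient : ℝ) ≤ ∑ j ∈ (Finset.range n).filter (fun j => j.Coprime n),
      Complex.normSq (∑ i ∈ s, (c i : ℂ) * μ i ^ j) := by
  classical
  have : NeZero n := ⟨hn.ne'⟩
  obtain ⟨ζ, hζ⟩ : ∃ ζ : ℂ, IsPrimitiveRoot ζ n := ⟨_, Complex.isPrimitiveRoot_exp n hn.ne'⟩
  -- exponents
  have hexp : ∀ i : ι, ∃ e : ℕ, i ∈ s → ζ ^ e = μ i := by
    intro i
    by_cases hi : i ∈ s
    · obtain ⟨e, -, he⟩ := hζ.eq_pow_of_pow_eq_one (hμ i hi)
      exact ⟨e, fun _ => he⟩
    · exact ⟨0, fun h => absurd h hi⟩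
  choose e he using hexp
  set P : ℤ[X] := ∑ i ∈ s, C (c i) * X ^ e i with hP
  have heval : ∀ ω : ℂ, (P.map (Int.castRingHom ℂ)).eval ω = ∑ i ∈ s, (c i : ℂ) * ω ^ e i := by
    intro ω
    rw [hP, Polynomial.map_sum, eval_finsetSum]
    apply Finset.sum_congr rfl
    intro i _
    simp
  set A : ℕ → ℂ := fun j => ∑ i ∈ s, (c i : ℂ) * μ i ^ j with hA
  have hAj : ∀ j : ℕ, A j = (P.map (Int.castRingHom ℂ)).eval (ζ ^ j) := by
    intro j
    rw [heval]
    apply Finset.sum_congr rfl
    intro i hi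
    rw [← he i hi, ← pow_mul, ← pow_mul, mul_comm (e i) j]
  set J := (Finset.range n).filter (fun j => j.Coprime n) with hJ
  -- the product is an integer
  obtain ⟨z, hz⟩ := exists_int_prod_primitiveRoots_eval n hn P
  have hprod : ∏ j ∈ J, A j = (z : ℂ) := by
    rw [← hz]
    refine Finset.prod_bij (fun j _ => ζ ^ j) ?_ ?_ ?_ ?_
    · intro j hj
      simp only [hJ, Finset.mem_filter, Finset.mem_range] at hj
      rw [mem_primitiveRoots hn]
      exact hζ.pow_of_coprime j hj.2
    · intro i hi j hj H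
      simp only [hJ, Finset.mem_filter, Finset.mem_range] at hi hj
      exact hζ.pow_inj hi.1 hj.1 H
    · intro ω hω
      rw [mem_primitiveRoots hn, hζ.isPrimitiveRoot_iff] at hω
      obtain ⟨i, hin, hi, H⟩ := hω
      exact ⟨i, by simp only [hJ, Finset.mem_filter, Finset.mem_range]; exact ⟨hin, hi⟩, H⟩
    · intro j _
      exact hAj j
  have hAne : ∀ j ∈ J, A j ≠ 0 := by
    intro j hj
    simp only [hJ, Finset.mem_filter, Finset.mem_range] at hj
    exact hne j hj.2
  have hz0 : z ≠ 0 := by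
    intro h0
    rw [h0, Int.cast_zero, Finset.prod_eq_zero_iff] at hprod
    obtain ⟨j, hj, hj0⟩ := hprod
    exact hAne j hj hj0
  have hcard : J.card = n.totient := by
    rw [hJ, Nat.totient_eq_card_coprime]
    congr 1
    ext j
    simp only [Finset.mem_filter, Finset.mem_range, Nat.coprime_comm]
  rw [← hcard]
  apply card_le_sum_of_one_le_prod
  · intro j hj
    exact Complex.normSq_pos.mpr (hAne j hj)
  · rw [← map_prod, hprod, Complex.normSq_intCast]
    have : (1 : ℤ) ≤ z * z := by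
      have h1 : 0 < z * z := mul_self_pos.mpr hz0
      omega
    exact_mod_cast this

end Cfsg.Agent.Lib.Helper82
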