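import Mathlib
import Cfsg.Agent.Lib.Helper79.BrauerFeit

/-!
# Reduced contributions of a block

For a block `B` of defect `d` in a group of order `p^a m`, the contribution integers
`contrib p χ ψ` (`ψ ∈ B`) and the degrees `ψ(1)` are divisible by `p^(a-d)`; the quotients
`blockQ`, `blockU` satisfy the rank-one congruence `Q(χ,ψ) U(ψ') ≡ Q(χ,ψ') U(ψ)` modulo `p`, and
`Q(ψ,ψ)`, `U(ψ)` are prime to `p` for `ψ` of height zero.
-/

set_option autoImplicit false
set_option linter.unusedSectionVars false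

namespace Cfsg.Agent.Lib.Helper82

open Cfsg Cfsg.Agent.Lib.Helper16 Cfsg.Agent.Lib.Helper78 Cfsg.Agent.Lib.Helper79
open scoped ComplexConjugate

universe u

variable {G : Type u} [Group G] [Fintype G] {p : ℕ} [Fact p.Prime] {M : Ideal AlgInt}

/-- The exponent `a - d` of a block. -/
noncomputable def coDefect (p : ℕ) (B : Set (IrrCharacter G)) : ℕ :=
  (Nat.card G).factorization p - blockDefect p B

omit [Fact p.Prime] in
theorem coDefect_eq_sInf {B : Set (IrrCharacter G)} (hne : B.Nonempty) :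
    coDefect p B =
      sInf ((fun ψ : IrrCharacter G => (charDegree (ψ : G → ℂ)).factorization p) '' B) := by
  have := card_factorization_eq_sInf_add_blockDefect (p := p) hne
  unfold coDefect
  omega

omit [Fact p.Prime] in
theorem coDefect_add_blockDefect {B : Set (IrrCharacter G)} (hne : B.Nonempty) :
    coDefect p B + blockDefect p B = (Nat.card G).factorization p := by
  have := card_factorization_eq_sInf_add_blockDefect (p := p) hne
  unfold coDefect
  omega

omit [Fact p.Prime] in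
theorem factorization_eq_coDefect_add_blockHeight {B : Set (IrrCharacter G)} {χ : IrrCharacter G}
    (hχ : χ ∈ B) :
    (charDegree (χ : G → ℂ)).factorization p = coDefect p B + blockHeight p B (χ : G → ℂ) := by
  rw [coDefect_eq_sInf ⟨χ, hχ⟩]
  exact factorization_eq_sInf_add_blockHeight hχ

omit [Fact p.Prime] in
theorem pow_coDefect_dvd_charDegree {B : Set (IrrCharacter G)} {χ : IrrCharacter G}
    (hχ : χ ∈ B) : p ^ coDefect p B ∣ charDegree (χ : G → ℂ) := by
  have h1 := factorization_eq_coDefect_add_blockHeight (p := p) hχ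
  exact dvd_trans (pow_dvd_pow p (by omega)) (Nat.ordProj_dvd _ p)

theorem pow_coDefect_dvd_contrib (hM : IsPModular p M) {B : Set (IrrCharacter G)}
    (χ : IrrCharacter G) {ψ : IrrCharacter G} (hψ : ψ ∈ B) :
    ((p : ℤ) ^ coDefect p B) ∣ contrib p χ ψ := by
  have h1 := factorization_eq_coDefect_add_blockHeight (p := p) hψ
  exact dvd_trans (pow_dvd_pow (p : ℤ) (by omega)) (pow_dvd_contrib_right hM χ ψ)

/-- The reduced contribution. -/
noncomputable def blockQ (p : ℕ) (B : Set (IrrCharacter G)) (χ ψ : IrrCharacter G) : ℤ :=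
  contrib p χ ψ / (p : ℤ) ^ coDefect p B

/-- The reduced degree. -/
noncomputable def blockU (p : ℕ) (B : Set (IrrCharacter G)) (ψ : IrrCharacter G) : ℤ :=
  ((charDegree (ψ : G → ℂ) / p ^ coDefect p B : ℕ) : ℤ)

theorem blockQ_spec (hM : IsPModular p M) {B : Set (IrrCharacter G)}
    (χ : IrrCharacter G) {ψ : IrrCharacter G} (hψ : ψ ∈ B) :
    (p : ℤ) ^ coDefect p B * blockQ p B χ ψ = contrib p χ ψ :=
  Int.mul_ediv_cancel' (pow_coDefect_dvd_contrib hM χ hψ)

omit [Fact p.Prime] in
theorem blockU_spec {B : Set (IrrCharacter G)} {ψ : IrrCharacter G} (hψ : ψ ∈ B) :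
    (p : ℤ) ^ coDefect p B * blockU p B ψ = (charDegree (ψ : G → ℂ) : ℤ) := by
  unfold blockU
  have := Nat.mul_div_cancel' (pow_coDefect_dvd_charDegree (p := p) hψ)
  exact_mod_cast this

theorem blockQ_symm (hM : IsPModular p M) (B : Set (IrrCharacter G)) (χ ψ : IrrCharacter G) :
    blockQ p B χ ψ = blockQ p B ψ χ := by
  unfold blockQ
  rw [contrib_symm hM]

omit [Fact p.Prime] in
theorem blockU_ne_zero {B : Set (IrrCharacter G)} {ψ : IrrCharacter G} (hψ : ψ ∈ B) :
    blockU p B ψ ≠ 0 := by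
  intro h0
  have h1 := blockU_spec (p := p) hψ
  rw [h0, mul_zero] at h1
  have := irr_charDegree_pos ψ
  omega

/-- **The rank-one congruence.** -/
theorem blockQ_congr (hM : IsPModular p M) {B : Set (IrrCharacter G)} (hB : IsPBlock M B)
    (χ : IrrCharacter G) {ψ ψ' : IrrCharacter G} (hψ : ψ ∈ B) (hψ' : ψ' ∈ B) :
    (p : ℤ) ∣ blockQ p B χ ψ * blockU p B ψ' - blockQ p B χ ψ' * blockU p B ψ := by
  have hp : p.Prime := Fact.out
  have hMp : M.IsPrime := isPModular_isPrime hM
  have hMtop : M ≠ ⊤ := hMp.ne_top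
  rw [← memLocalIdeal_intCast_iff hM]
  have h1 := classInner_tld_div_congr hM χ ψ ψ' (sameBlock_of_mem hB hψ hψ')
  rw [contrib_spec hM, contrib_spec hM, irr_apply_one_eq_charDegree,
    irr_apply_one_eq_charDegree] at h1
  have hpe : ((p : ℂ) ^ coDefect p B) ≠ 0 := pow_ne_zero _ (by exact_mod_cast hp.ne_zero)
  have hU : (blockU p B ψ : ℂ) ≠ 0 := by exact_mod_cast blockU_ne_zero (p := p) hψ
  have hU' : (blockU p B ψ' : ℂ) ≠ 0 := by exact_mod_cast blockU_ne_zero (p := p) hψ'
  have e1 : (contrib p χ ψ : ℂ) = (p : ℂ) ^ coDefect p B * (blockQ p B χ ψ : ℂ) := by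
    exact_mod_cast (congrArg (fun z : ℤ => (z : ℂ)) (blockQ_spec hM χ hψ)).symm
  have e2 : (contrib p χ ψ' : ℂ) = (p : ℂ) ^ coDefect p B * (blockQ p B χ ψ' : ℂ) := by
    exact_mod_cast (congrArg (fun z : ℤ => (z : ℂ)) (blockQ_spec hM χ hψ')).symm
  have e3 : ((charDegree (ψ : G → ℂ) : ℕ) : ℂ) = (p : ℂ) ^ coDefect p B * (blockU p B ψ : ℂ) := by
    have := (congrArg (fun z : ℤ => (z : ℂ)) (blockU_spec (p := p) hψ)).symm
    push_cast at this
    exact_mod_cast this
  have e4 : ((charDegree (ψ' : G → ℂ) : ℕ) : ℂ) =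
      (p : ℂ) ^ coDefect p B * (blockU p B ψ' : ℂ) := by
    have := (congrArg (fun z : ℤ => (z : ℂ)) (blockU_spec (p := p) hψ')).symm
    push_cast at this
    exact_mod_cast this
  rw [e1, e2, e3, e4] at h1
  have h2 := memLocalIdeal_mul_left
    (memLocalRing_mul (memLocalRing_intCast hMtop (blockU p B ψ))
      (memLocalRing_intCast hMtop (blockU p B ψ'))) h1
  have e5 : (blockU p B ψ : ℂ) * (blockU p B ψ' : ℂ) *
      ((p : ℂ) ^ coDefect p B * (blockQ p B χ ψ : ℂ) / ((p : ℂ) ^ coDefect p B * (blockU p B ψ : ℂ)) -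
        (p : ℂ) ^ coDefect p B * (blockQ p B χ ψ' : ℂ) /
          ((p : ℂ) ^ coDefect p B * (blockU p B ψ' : ℂ))) =
      ((blockQ p B χ ψ * blockU p B ψ' - blockQ p B χ ψ' * blockU p B ψ : ℤ) : ℂ) := by
    push_cast
    field_simp
  rw [e5] at h2
  exact h2

omit [Fact p.Prime] in
/-- The reduced degree of a character of height zero is prime to `p`. -/
theorem not_dvd_blockU (hp : p.Prime) {B : Set (IrrCharacter G)} {ψ : IrrCharacter G} (hψ : ψ ∈ B)
    (h0 : blockHeight p B (ψ : G → ℂ) = 0) : ¬ (p : ℤ) ∣ blockU p B ψ := by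
  have h1 := factorization_eq_coDefect_add_blockHeight (p := p) hψ
  rw [h0, add_zero] at h1
  unfold blockU
  rw [← h1]
  have := Nat.not_dvd_ordCompl hp (irr_charDegree_pos ψ).ne'
  intro h
  exact this (by exact_mod_cast h)

/-- The reduced self-contribution of a character of height zero is prime to `p`. -/
theorem not_dvd_blockQ_self (hM : IsPModular p M) {B : Set (IrrCharacter G)} (hB : IsPBlock M B)
    {ψ : IrrCharacter G} (hψ : ψ ∈ B) (h0 : blockHeight p B (ψ : G → ℂ) = 0) :
    ¬ (p : ℤ) ∣ blockQ p B ψ ψ := by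
  have hp : p.Prime := Fact.out
  have h1 := factorization_eq_coDefect_add_blockHeight (p := p) hψ
  rw [h0, add_zero] at h1
  have h2 := ((blockHeight_eq_zero_iff_contrib hM hB hψ).2.mp h0) ψ hψ
  rw [h1, ← blockQ_spec hM ψ hψ, pow_succ] at h2
  intro h
  exact h2 (mul_dvd_mul_left _ h)

end Cfsg.Agent.Lib.Helper82
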