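import Mathlib

/-!
# An abstract rank-one computation

The arithmetic core of Brauer's theorem that the contributions of a major subsection to two
characters of height zero are units: the matrices `ρ` (over the local block `b`) and `c` (over the
block `B`) are of rank one modulo `p`, they are intertwined by the matrix `n` of restriction
multiplicities, and the vector `n u` is a unit at a character of height zero of `b`.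
-/

set_option autoImplicit false

namespace Cfsg.Agent.Lib.Helper82

theorem rankOne_ne_zero {F : Type*} [Field F] {X Y : Type*} (sX : Finset X) (sY : Finset Y)
    (n : X → Y → F) (ρ : Y → Y → F) (c : X → X → F) (u : X → F) (v : Y → F)
    (hρ : ∀ ξ ∈ sY, ∀ ξ' ∈ sY, ρ ξ ξ' = ρ ξ' ξ)
    (h1 : ∀ ξ ∈ sY, ∀ ψ ∈ sX, ∑ ξ' ∈ sY, ρ ξ ξ' * n ψ ξ' = ∑ ψ' ∈ sX, c ψ ψ' * n ψ' ξ)
    (h2 : ∀ ψ ∈ sX, ∀ ψ' ∈ sX, ∀ ψ'' ∈ sX, c ψ ψ' * u ψ'' = c ψ ψ'' * u ψ')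
    (h3 : ∀ ξ ∈ sY, ∀ ξ' ∈ sY, ∀ ξ'' ∈ sY, ρ ξ ξ' * v ξ'' = ρ ξ ξ'' * v ξ')
    {ξ₀ : Y} (hξ₀ : ξ₀ ∈ sY) (hv : v ξ₀ ≠ 0) (hρ0 : ρ ξ₀ ξ₀ ≠ 0)
    (hw : ∑ ψ' ∈ sX, n ψ' ξ₀ * u ψ' ≠ 0)
    {χ ψ : X} (hχ : χ ∈ sX) (hψ : ψ ∈ sX) (hcχ : c χ χ ≠ 0) (hcψ : c ψ ψ ≠ 0) :
    ∑ ξ ∈ sY, ∑ ξ' ∈ sY, n χ ξ * ρ ξ ξ' * n ψ ξ' ≠ 0 := by
  set T : Y → X → F := fun ξ φ => ∑ ξ' ∈ sY, ρ ξ ξ' * n φ ξ' with hT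
  set V : X → F := fun φ => ∑ ξ' ∈ sY, v ξ' * n φ ξ' with hV
  -- step 1
  have step1 : ∀ φ ∈ sX, c φ φ ≠ 0 → T ξ₀ φ ≠ 0 := by
    intro φ hφ hcφ h0
    have e1 : u φ * T ξ₀ φ = c φ φ * ∑ ψ' ∈ sX, n ψ' ξ₀ * u ψ' := by
      rw [hT]
      simp only
      rw [h1 ξ₀ hξ₀ φ hφ, Finset.mul_sum, Finset.mul_sum]
      apply Finset.sum_congr rfl
      intro ψ' hψ'
      have := h2 φ hφ ψ' hψ' φ hφ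
      calc u φ * (c φ ψ' * n ψ' ξ₀) = (c φ ψ' * u φ) * n ψ' ξ₀ := by ring
        _ = (c φ φ * u ψ') * n ψ' ξ₀ := by rw [this]
        _ = c φ φ * (n ψ' ξ₀ * u ψ') := by ring
    rw [h0, mul_zero] at e1
    exact (mul_ne_zero hcφ hw) e1.symm
  -- step 2
  have step2 : ∀ φ ∈ sX, v ξ₀ * T ξ₀ φ = ρ ξ₀ ξ₀ * V φ := by
    intro φ hφ
    rw [hT, hV]
    simp only
    rw [Finset.mul_sum, Finset.mul_sum]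
    apply Finset.sum_congr rfl
    intro ξ' hξ'
    have := h3 ξ₀ hξ₀ ξ' hξ' ξ₀ hξ₀
    calc v ξ₀ * (ρ ξ₀ ξ' * n φ ξ') = (ρ ξ₀ ξ' * v ξ₀) * n φ ξ' := by ring
      _ = (ρ ξ₀ ξ₀ * v ξ') * n φ ξ' := by rw [this]
      _ = ρ ξ₀ ξ₀ * (v ξ' * n φ ξ') := by ring
  have hVne : ∀ φ ∈ sX, c φ φ ≠ 0 → V φ ≠ 0 := by
    intro φ hφ hcφ h0
    have := step2 φ hφ
    rw [h0, mul_zero] at this
    exact (mul_ne_zero hv (step1 φ hφ hcφ)) this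
  -- step 3
  have step3 : ∀ ξ ∈ sY, v ξ₀ * T ξ ψ = ρ ξ ξ₀ * V ψ := by
    intro ξ hξ
    rw [hT, hV]
    simp only
    rw [Finset.mul_sum, Finset.mul_sum]
    apply Finset.sum_congr rfl
    intro ξ' hξ'
    have := h3 ξ hξ ξ' hξ' ξ₀ hξ₀
    calc v ξ₀ * (ρ ξ ξ' * n ψ ξ') = (ρ ξ ξ' * v ξ₀) * n ψ ξ' := by ring
      _ = (ρ ξ ξ₀ * v ξ') * n ψ ξ' := by rw [this]
      _ = ρ ξ ξ₀ * (v ξ' * n ψ ξ') := by ring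
  have step4 : ∀ ξ ∈ sY, v ξ₀ * ρ ξ ξ₀ = ρ ξ₀ ξ₀ * v ξ := by
    intro ξ hξ
    rw [hρ ξ hξ ξ₀ hξ₀, mul_comm]
    exact h3 ξ₀ hξ₀ ξ hξ ξ₀ hξ₀
  have key : v ξ₀ * v ξ₀ * ∑ ξ ∈ sY, ∑ ξ' ∈ sY, n χ ξ * ρ ξ ξ' * n ψ ξ' =
      ρ ξ₀ ξ₀ * V χ * V ψ := by
    have e1 : ∀ ξ ∈ sY, v ξ₀ * v ξ₀ * ∑ ξ' ∈ sY, n χ ξ * ρ ξ ξ' * n ψ ξ' =
        ρ ξ₀ ξ₀ * V ψ * (v ξ * n χ ξ) := by
      intro ξ hξ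
      have e2 : ∑ ξ' ∈ sY, n χ ξ * ρ ξ ξ' * n ψ ξ' = n χ ξ * T ξ ψ := by
        rw [hT]
        simp only
        rw [Finset.mul_sum]
        apply Finset.sum_congr rfl
        intro ξ' _
        ring
      rw [e2]
      calc v ξ₀ * v ξ₀ * (n χ ξ * T ξ ψ) = v ξ₀ * n χ ξ * (v ξ₀ * T ξ ψ) := by ring
        _ = v ξ₀ * n χ ξ * (ρ ξ ξ₀ * V ψ) := by rw [step3 ξ hξ]
        _ = (v ξ₀ * ρ ξ ξ₀) * n χ ξ * V ψ := by ring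
        _ = (ρ ξ₀ ξ₀ * v ξ) * n χ ξ * V ψ := by rw [step4 ξ hξ]
        _ = ρ ξ₀ ξ₀ * V ψ * (v ξ * n χ ξ) := by ring
    rw [Finset.mul_sum, Finset.sum_congr rfl e1, ← Finset.mul_sum]
    rw [hV]
    ring
  intro h0
  rw [h0, mul_zero] at key
  exact (mul_ne_zero (mul_ne_zero hρ0 (hVne χ hχ hcχ)) (hVne ψ hψ hcψ)) key.symm

/-- The integer form, modulo a prime. -/
theorem rankOne_not_dvd {p : ℕ} [hp : Fact p.Prime] {X Y : Type*} (sX : Finset X) (sY : Finset Y)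
    (n : X → Y → ℤ) (ρ : Y → Y → ℤ) (c : X → X → ℤ) (u : X → ℤ) (v : Y → ℤ)
    (hρ : ∀ ξ ∈ sY, ∀ ξ' ∈ sY, ρ ξ ξ' = ρ ξ' ξ)
    (h1 : ∀ ξ ∈ sY, ∀ ψ ∈ sX, ∑ ξ' ∈ sY, ρ ξ ξ' * n ψ ξ' = ∑ ψ' ∈ sX, c ψ ψ' * n ψ' ξ)
    (h2 : ∀ ψ ∈ sX, ∀ ψ' ∈ sX, ∀ ψ'' ∈ sX, (p : ℤ) ∣ c ψ ψ' * u ψ'' - c ψ ψ'' * u ψ')
    (h3 : ∀ ξ ∈ sY, ∀ ξ' ∈ sY, ∀ ξ'' ∈ sY, (p : ℤ) ∣ ρ ξ ξ' * v ξ'' - ρ ξ ξ'' * v ξ')
    {ξ₀ : Y} (hξ₀ : ξ₀ ∈ sY) (hv : ¬ (p : ℤ) ∣ v ξ₀) (hρ0 : ¬ (p : ℤ) ∣ ρ ξ₀ ξ₀)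
    (hw : ¬ (p : ℤ) ∣ ∑ ψ' ∈ sX, n ψ' ξ₀ * u ψ')
    {χ ψ : X} (hχ : χ ∈ sX) (hψ : ψ ∈ sX) (hcχ : ¬ (p : ℤ) ∣ c χ χ) (hcψ : ¬ (p : ℤ) ∣ c ψ ψ) :
    ¬ (p : ℤ) ∣ ∑ ξ ∈ sY, ∑ ξ' ∈ sY, n χ ξ * ρ ξ ξ' * n ψ ξ' := by
  have hcast : ∀ a : ℤ, ((a : ZMod p) = 0) ↔ (p : ℤ) ∣ a :=
    fun a => ZMod.intCast_zmod_eq_zero_iff_dvd a p
  have hsub : ∀ a b : ℤ, (p : ℤ) ∣ a - b → (a : ZMod p) = (b : ZMod p) := by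
    intro a b h
    have := (hcast (a - b)).mpr h
    rw [Int.cast_sub, sub_eq_zero] at this
    exact this
  have key := rankOne_ne_zero (F := ZMod p) sX sY (fun χ ξ => (n χ ξ : ZMod p))
    (fun ξ ξ' => (ρ ξ ξ' : ZMod p)) (fun ψ ψ' => (c ψ ψ' : ZMod p)) (fun ψ => (u ψ : ZMod p))
    (fun ξ => (v ξ : ZMod p))
    (fun ξ hξ ξ' hξ' => by rw [hρ ξ hξ ξ' hξ'])
    (fun ξ hξ ψ hψ => by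
      have := congrArg (fun a : ℤ => (a : ZMod p)) (h1 ξ hξ ψ hψ)
      simpa using this)
    (fun ψ hψ ψ' hψ' ψ'' hψ'' => by
      have := hsub _ _ (h2 ψ hψ ψ' hψ' ψ'' hψ'')
      simpa using this)
    (fun ξ hξ ξ' hξ' ξ'' hξ'' => by
      have := hsub _ _ (h3 ξ hξ ξ' hξ' ξ'' hξ'')
      simpa using this)
    hξ₀ (fun h => hv ((hcast _).mp h)) (fun h => hρ0 ((hcast _).mp h))
    (fun h => hw ((hcast _).mp (by simpa using h)))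
    hχ hψ (fun h => hcχ ((hcast _).mp h)) (fun h => hcψ ((hcast _).mp h))
  intro hdvd
  apply key
  have := (hcast _).mpr hdvd
  simpa using this

end Cfsg.Agent.Lib.Helper82
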