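import Mathlib
import Cfsg.Agent.Lib.Helper82.SubsecKernel
import Cfsg.Agent.Lib.Helper78.CentralTwist
import Cfsg.Agent.Lib.Helper79.BrauerFeit

/-!
# Contributions of a subsection: expansion in the irreducible characters of the centralizer

For a central element `z` of the subgroup `H` of `G`, the contribution `secM p z H b χ ψ` is
`∑_{ξ, ξ' ∈ b} n_{χ ξ} λ_ξ(z) conj (n_{ψ ξ'} λ_ξ'(z)) g_{ξ ξ'}` with `n` the restriction
multiplicities, `λ_ξ(z) = ξ(z)/ξ(1)` and `g_{ξ ξ'} = [ξ°, ξ']` the `p`-regular Gram numbers, which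
are `contrib / p^a`.
-/

set_option autoImplicit false
set_option linter.unusedSectionVars false
set_option linter.style.haveILetI false

namespace Cfsg.Agent.Lib.Helper82

open Cfsg Finset Cfsg.Agent.Lib.Helper16 Cfsg.Agent.Lib.Helper78 Cfsg.Agent.Lib.Helper79
open scoped ComplexConjugate

universe u

section CScalar

variable {K : Type u} [Group K] [Fintype K]

/-- The scalar `ξ(z)/ξ(1)` by which a central element `z` acts. -/
noncomputable def cScalar (ξ : IrrCharacter K) (z : K) : ℂ := (ξ : K → ℂ) z / (ξ : K → ℂ) 1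

theorem irr_central_mul (ξ : IrrCharacter K) {z : K} (hz : z ∈ Subgroup.center K) (g : K) :
    (ξ : K → ℂ) (z * g) = cScalar ξ z * (ξ : K → ℂ) g := by
  have hne : (ξ : K → ℂ) 1 ≠ 0 := IsIrrCharacter.apply_one_ne_zero ξ.2
  apply irr_center_mul_of_apply ξ hz
  unfold cScalar
  field_simp

theorem cScalar_one (ξ : IrrCharacter K) : cScalar ξ 1 = 1 := by
  unfold cScalar
  exact div_self (IsIrrCharacter.apply_one_ne_zero ξ.2)

theorem cScalar_pow (ξ : IrrCharacter K) {z : K} (hz : z ∈ Subgroup.center K) (j : ℕ) :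
    cScalar ξ (z ^ j) = cScalar ξ z ^ j := by
  have hne : (ξ : K → ℂ) 1 ≠ 0 := IsIrrCharacter.apply_one_ne_zero ξ.2
  induction j with
  | zero => rw [pow_zero, pow_zero, cScalar_one]
  | succ j ih =>
    rw [pow_succ', pow_succ', ← ih]
    unfold cScalar
    have h1 := irr_central_mul ξ hz (z ^ j)
    rw [h1]
    unfold cScalar
    field_simp

theorem cScalar_pow_eq_one (ξ : IrrCharacter K) {z : K} (hz : z ∈ Subgroup.center K) {n : ℕ}
    (hn : z ^ n = 1) : cScalar ξ z ^ n = 1 := by
  rw [← cScalar_pow ξ hz, hn, cScalar_one]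

end CScalar

section Res

variable {G : Type u} [Group G] [Fintype G] (H : Subgroup G) [Fintype H]

/-- The multiplicity of `ξ` in the restriction of `χ` to `H`. -/
noncomputable def resMult (χ : IrrCharacter G) (ξ : IrrCharacter H) : ℕ :=
  Classical.choose (IsCharacter.exists_nat_classInner
    (isCharacter_subgroup_res H (IsIrrCharacter.isCharacter χ.2)) ξ)

theorem resMult_spec (χ : IrrCharacter G) (ξ : IrrCharacter H) :
    classInner (fun h : H => (χ : G → ℂ) (h : G)) (ξ : H → ℂ) = (resMult H χ ξ : ℂ) :=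
  Classical.choose_spec (IsCharacter.exists_nat_classInner
    (isCharacter_subgroup_res H (IsIrrCharacter.isCharacter χ.2)) ξ)

theorem resMult_spec' (χ : IrrCharacter G) (ξ : IrrCharacter H) :
    classInner (ξ : H → ℂ) (fun h : H => (χ : G → ℂ) (h : G)) = (resMult H χ ξ : ℂ) := by
  rw [← classInner_conj_symm, resMult_spec, Complex.conj_natCast]

theorem res_apply_eq_sum (χ : IrrCharacter G) (h : H) :
    (χ : G → ℂ) (h : G) = ∑ ξ : IrrCharacter H, (resMult H χ ξ : ℂ) * (ξ : H → ℂ) h := by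
  have h1 := IsCharacter.eq_sum_irr
    (isCharacter_subgroup_res H (IsIrrCharacter.isCharacter χ.2))
  have h2 := congrFun h1 h
  rw [Finset.sum_apply] at h2
  rw [h2]
  apply Finset.sum_congr rfl
  intro ξ _
  rw [resMult_spec]
  rfl

/-- The twist of the restriction by a central element of `H`. -/
theorem twist_eq_sum (χ : IrrCharacter G) {z : H} (hz : z ∈ Subgroup.center H) :
    (fun c : H => (χ : G → ℂ) ((z : G) * (c : G))) =
      ∑ ξ : IrrCharacter H, ((resMult H χ ξ : ℂ) * cScalar ξ z) • (ξ : H → ℂ) := by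
  funext c
  have h1 := res_apply_eq_sum H χ (z * c)
  rw [Subgroup.coe_mul] at h1
  rw [h1, Finset.sum_apply]
  apply Finset.sum_congr rfl
  intro ξ _
  rw [irr_central_mul ξ hz c]
  simp only [Pi.smul_apply, smul_eq_mul]
  ring

theorem classInner_twist (χ : IrrCharacter G) {z : H} (hz : z ∈ Subgroup.center H)
    (ξ : IrrCharacter H) :
    classInner (fun c : H => (χ : G → ℂ) ((z : G) * (c : G))) (ξ : H → ℂ) =
      (resMult H χ ξ : ℂ) * cScalar ξ z := by
  rw [twist_eq_sum H χ hz]
  exact classInner_nat_combination (fun ξ => (resMult H χ ξ : ℂ) * cScalar ξ z) ξ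

open scoped Classical in
theorem secPart_apply_eq (b : Set (IrrCharacter H)) (χ : IrrCharacter G) {z : H}
    (hz : z ∈ Subgroup.center H) (s : H) :
    secPart (z : G) H b (χ : G → ℂ) s =
      ∑ ξ ∈ Finset.univ.filter (fun ξ : IrrCharacter H => ξ ∈ b),
        ((resMult H χ ξ : ℂ) * cScalar ξ z) * (ξ : H → ℂ) s := by
  unfold secPart
  rw [blockPart_apply]
  apply Finset.sum_congr rfl
  intro ξ _
  rw [classInner_twist H χ hz]

open scoped Classical in
/-- The `p`-regular Gram number of two irreducible characters. -/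
noncomputable def pGram (p : ℕ) (ξ ξ' : IrrCharacter H) : ℂ :=
  (Nat.card H : ℂ)⁻¹ * ∑ s ∈ Finset.univ.filter (fun s : H => ¬ p ∣ orderOf s),
    (ξ : H → ℂ) s * conj ((ξ' : H → ℂ) s)

open scoped Classical in
theorem pow_mul_pGram {p : ℕ} [Fact p.Prime] {M : Ideal AlgInt} (hM : IsPModular p M)
    (ξ ξ' : IrrCharacter H) :
    ((p : ℂ) ^ (Nat.card H).factorization p) * pGram H p ξ ξ' = (contrib p ξ ξ' : ℂ) := by
  rw [← contrib_spec hM ξ ξ']
  unfold pGram classInner tld
  rw [Finset.sum_filter, mul_left_comm, Finset.mul_sum]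
  congr 1
  apply Finset.sum_congr rfl
  intro s _
  split_ifs with hs
  · simp
  · push_cast
    ring

open scoped Classical in
/-- Expansion of the contribution. -/
theorem secM_eq_sum (p : ℕ) (b : Set (IrrCharacter H)) (χ ψ : IrrCharacter G) {z : H}
    (hz : z ∈ Subgroup.center H) :
    secM p (z : G) H b (χ : G → ℂ) (ψ : G → ℂ) =
      ∑ ξ ∈ Finset.univ.filter (fun ξ : IrrCharacter H => ξ ∈ b),
        ∑ ξ' ∈ Finset.univ.filter (fun ξ : IrrCharacter H => ξ ∈ b),
          ((resMult H χ ξ : ℂ) * cScalar ξ z) * conj ((resMult H ψ ξ' : ℂ) * cScalar ξ' z) *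
            pGram H p ξ ξ' := by
  have hpt : ∀ s : H, secPart (z : G) H b (χ : G → ℂ) s *
      conj (secPart (z : G) H b (ψ : G → ℂ) s) =
      ∑ ξ ∈ Finset.univ.filter (fun ξ : IrrCharacter H => ξ ∈ b),
        ∑ ξ' ∈ Finset.univ.filter (fun ξ : IrrCharacter H => ξ ∈ b),
          ((resMult H χ ξ : ℂ) * cScalar ξ z) * conj ((resMult H ψ ξ' : ℂ) * cScalar ξ' z) *
            ((ξ : H → ℂ) s * conj ((ξ' : H → ℂ) s)) := by
    intro s
    rw [secPart_apply_eq H b χ hz, secPart_apply_eq H b ψ hz, map_sum, Finset.sum_mul_sum]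
    apply Finset.sum_congr rfl
    intro ξ _
    apply Finset.sum_congr rfl
    intro ξ' _
    rw [map_mul]
    ring
  unfold secM pGram
  rw [Finset.sum_congr rfl (fun s _ => hpt s), Finset.sum_comm, Finset.mul_sum]
  apply Finset.sum_congr rfl
  intro ξ _
  rw [Finset.sum_comm, Finset.mul_sum]
  apply Finset.sum_congr rfl
  intro ξ' _
  rw [← Finset.mul_sum]
  ring

end Res

end Cfsg.Agent.Lib.Helper82
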