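import Mathlib
import Cfsg.Agent.Lib.Helper82.SubsecExpand
import Cfsg.Agent.Lib.Helper82.BlockQuot
import Cfsg.Agent.Lib.Helper82.RankOneAbstract
import Cfsg.Agent.S4430

/-!
# Contributions of a major subsection to characters of height zero are units

Let `b` be a block of the subgroup `H` of `G` inducing `B`, of the same defect `d`.  For `χ, ψ ∈ B`
of height zero the integer `∑_{ξ, ξ' ∈ b} n_{χ ξ} Q_b(ξ, ξ') n_{ψ ξ'}` is prime to `p`.
-/

set_option autoImplicit false
set_option linter.unusedSectionVars false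

namespace Cfsg.Agent.Lib.Helper82

open Cfsg Finset Cfsg.Agent.Lib.Helper16 Cfsg.Agent.Lib.Helper78 Cfsg.Agent.Lib.Helper79
open scoped ComplexConjugate

universe u

section Intertwine

variable {G : Type u} [Group G] [Fintype G] {p : ℕ} [Fact p.Prime] {M : Ideal AlgInt}

/-- The contribution matrices of `H` and of `G` are intertwined by the restriction
multiplicities. -/
theorem sum_contrib_mul_resMult (hM : IsPModular p M) (H : Subgroup G) [Fintype H]
    (ξ : IrrCharacter H) (ψ : IrrCharacter G) :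
    (p : ℤ) ^ (Nat.card G).factorization p *
        ∑ ξ' : IrrCharacter H, contrib p ξ ξ' * (resMult H ψ ξ' : ℤ) =
      (p : ℤ) ^ (Nat.card H).factorization p *
        ∑ ψ' : IrrCharacter G, contrib p ψ ψ' * (resMult H ψ' ξ : ℤ) := by
  classical
  have hN0 : (Nat.card H : ℂ) ≠ 0 := by exact_mod_cast Nat.card_pos.ne'
  set S : ℂ := ∑ s : H, (if p ∣ orderOf s then (0 : ℂ) else
    (ξ : H → ℂ) s * conj ((ψ : G → ℂ) (s : G))) with hS
  -- (i)
  have h1 : ∑ s : H, tld p (ξ : H → ℂ) s * conj ((ψ : G → ℂ) (s : G)) =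
      (p : ℂ) ^ (Nat.card H).factorization p * S := by
    rw [hS, Finset.mul_sum]
    apply Finset.sum_congr rfl
    intro s _
    unfold tld
    split_ifs with hs
    · simp
    · push_cast
      ring
  have h1' : ∑ s : H, tld p (ξ : H → ℂ) s * conj ((ψ : G → ℂ) (s : G)) =
      (Nat.card H : ℂ) * ∑ ξ' : IrrCharacter H, (contrib p ξ ξ' : ℂ) * (resMult H ψ ξ' : ℂ) := by
    rw [tld_eq_sum_contrib hM ξ]
    simp only [Finset.sum_mul]
    rw [Finset.sum_comm, Finset.mul_sum]
    apply Finset.sum_congr rfl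
    intro ξ' _
    have := resMult_spec' H ψ ξ'
    unfold classInner at this
    rw [inv_mul_eq_iff_eq_mul₀ hN0] at this
    have e : ∑ s : H, (contrib p ξ ξ' : ℂ) * (ξ' : H → ℂ) s * conj ((ψ : G → ℂ) (s : G)) =
        (contrib p ξ ξ' : ℂ) * ∑ s : H, (ξ' : H → ℂ) s * conj ((ψ : G → ℂ) (s : G)) := by
      rw [Finset.mul_sum]
      apply Finset.sum_congr rfl
      intro s _
      ring
    rw [e, this]
    ring
  -- (ii)
  have h2 : ∑ s : H, (ξ : H → ℂ) s * conj (tld p (ψ : G → ℂ) (s : G)) =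
      (p : ℂ) ^ (Nat.card G).factorization p * S := by
    rw [hS, Finset.mul_sum]
    apply Finset.sum_congr rfl
    intro s _
    unfold tld
    rw [Subgroup.orderOf_coe]
    split_ifs with hs
    · simp
    · rw [map_mul, Complex.conj_natCast]
      push_cast
      ring
  have h2' : ∑ s : H, (ξ : H → ℂ) s * conj (tld p (ψ : G → ℂ) (s : G)) =
      (Nat.card H : ℂ) * ∑ ψ' : IrrCharacter G, (contrib p ψ ψ' : ℂ) * (resMult H ψ' ξ : ℂ) := by
    rw [tld_eq_sum_contrib hM ψ]
    simp only [map_sum, Finset.mul_sum]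
    rw [Finset.sum_comm]
    apply Finset.sum_congr rfl
    intro ψ' _
    have := resMult_spec' H ψ' ξ
    unfold classInner at this
    rw [inv_mul_eq_iff_eq_mul₀ hN0] at this
    have e : ∑ s : H, (ξ : H → ℂ) s * conj ((contrib p ψ ψ' : ℂ) * (ψ' : G → ℂ) (s : G)) =
        (contrib p ψ ψ' : ℂ) * ∑ s : H, (ξ : H → ℂ) s * conj ((ψ' : G → ℂ) (s : G)) := by
      rw [Finset.mul_sum]
      apply Finset.sum_congr rfl
      intro s _
      rw [map_mul, map_intCast]
      ring
    rw [e, this]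
    ring
  have key : ((p : ℂ) ^ (Nat.card G).factorization p *
        ∑ ξ' : IrrCharacter H, (contrib p ξ ξ' : ℂ) * (resMult H ψ ξ' : ℂ)) =
      (p : ℂ) ^ (Nat.card H).factorization p *
        ∑ ψ' : IrrCharacter G, (contrib p ψ ψ' : ℂ) * (resMult H ψ' ξ : ℂ) := by
    apply mul_left_cancel₀ hN0
    calc (Nat.card H : ℂ) * ((p : ℂ) ^ (Nat.card G).factorization p *
          ∑ ξ' : IrrCharacter H, (contrib p ξ ξ' : ℂ) * (resMult H ψ ξ' : ℂ))
        = (p : ℂ) ^ (Nat.card G).factorization p * ((Nat.card H : ℂ) *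
          ∑ ξ' : IrrCharacter H, (contrib p ξ ξ' : ℂ) * (resMult H ψ ξ' : ℂ)) := by ring
      _ = (p : ℂ) ^ (Nat.card G).factorization p *
          ((p : ℂ) ^ (Nat.card H).factorization p * S) := by rw [← h1', h1]
      _ = (p : ℂ) ^ (Nat.card H).factorization p *
          ((p : ℂ) ^ (Nat.card G).factorization p * S) := by ring
      _ = (p : ℂ) ^ (Nat.card H).factorization p * ((Nat.card H : ℂ) *
          ∑ ψ' : IrrCharacter G, (contrib p ψ ψ' : ℂ) * (resMult H ψ' ξ : ℂ)) := by
            rw [← h2, h2']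
      _ = _ := by ring
  exact_mod_cast key


open scoped Classical in
/-- The block part of an induced character of height zero has a unit reduced degree. -/
theorem not_dvd_sum_resMult_mul_blockU (hM : IsPModular p M) (H : Subgroup G) [Fintype H]
    {b : Set (IrrCharacter H)} {B : Set (IrrCharacter G)} (hind : IsInducedBlock M H b B)
    (hdef : blockDefect p b = blockDefect p B) {ξ₀ : IrrCharacter H} (hξ₀ : ξ₀ ∈ b)
    (h0 : blockHeight p b (ξ₀ : H → ℂ) = 0) :
    ¬ (p : ℤ) ∣ ∑ ψ' ∈ Finset.univ.filter (fun ψ' : IrrCharacter G => ψ' ∈ B),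
      (resMult H ψ' ξ₀ : ℤ) * blockU p B ψ' := by
  have hp : p.Prime := Fact.out
  have hMp : M.IsPrime := isPModular_isPrime hM
  have hBne : B.Nonempty := IsPBlock_nonempty hMp.ne_top hind.2.1
  obtain ⟨⟨n, hn, hn0, hnν⟩, -⟩ := Cfsg.Agent.S4430.result p M hM H b B hind ξ₀ hξ₀
  set e := coDefect p B with he
  set w : ℤ := ∑ ψ' ∈ Finset.univ.filter (fun ψ' : IrrCharacter G => ψ' ∈ B),
      (resMult H ψ' ξ₀ : ℤ) * blockU p B ψ' with hw
  -- the block part as an integer
  have hbp : blockPart B (indFun H (ξ₀ : H → ℂ)) 1 = (((p : ℤ) ^ e * w : ℤ) : ℂ) := by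
    rw [blockPart_apply, hw, Finset.mul_sum]
    push_cast
    apply Finset.sum_congr rfl
    intro ψ' hψ'
    simp only [Finset.mem_filter, Finset.mem_univ, true_and] at hψ'
    rw [classInner_indFun H _ (isClassFunction_irr ψ'), resMult_spec', irr_apply_one_eq_charDegree]
    have := congrArg (fun z : ℤ => (z : ℂ)) (blockU_spec (p := p) hψ')
    push_cast at this
    rw [← this]
    ring
  have hnw : (n : ℤ) = (p : ℤ) ^ e * w := by
    have : ((n : ℤ) : ℂ) = (((p : ℤ) ^ e * w : ℤ) : ℂ) := by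
      rw [← hbp, hn]
      push_cast
      rfl
    exact_mod_cast this
  -- the degree of the induced character
  have hdeg : charDegree (indFun H (ξ₀ : H → ℂ)) = H.index * charDegree (ξ₀ : H → ℂ) := by
    have h1 : indFun H (ξ₀ : H → ℂ) 1 = ((H.index * charDegree (ξ₀ : H → ℂ) : ℕ) : ℂ) := by
      rw [Cfsg.Agent.Lib.Helper75.indFun_one, irr_apply_one_eq_charDegree]
      push_cast
      ring
    show ⌊(indFun H (ξ₀ : H → ℂ) 1).re⌋₊ = _
    rw [h1, Complex.natCast_re, Nat.floor_natCast]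
  have hidx0 : H.index ≠ 0 := Subgroup.index_ne_zero_of_finite
  have hdeg0 : charDegree (ξ₀ : H → ℂ) ≠ 0 := (irr_charDegree_pos ξ₀).ne'
  have hcard : Nat.card G = H.index * Nat.card H := (Subgroup.index_mul_card H).symm
  have hfG : (Nat.card G).factorization p =
      H.index.factorization p + (Nat.card H).factorization p := by
    rw [hcard, Nat.factorization_mul hidx0 Nat.card_pos.ne']
    rfl
  have hfξ : (charDegree (ξ₀ : H → ℂ)).factorization p = coDefect p b := by
    have := factorization_eq_coDefect_add_blockHeight (p := p) hξ₀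
    rw [h0, add_zero] at this
    exact this
  have hbne : b.Nonempty := ⟨ξ₀, hξ₀⟩
  have h1 := coDefect_add_blockDefect (p := p) hbne
  have h2 := coDefect_add_blockDefect (p := p) hBne
  have hνn : n.factorization p = e := by
    rw [hnν, hdeg, Nat.factorization_mul hidx0 hdeg0]
    simp only [Finsupp.coe_add, Pi.add_apply]
    rw [hfξ, he]
    omega
  intro hdvd
  have h3 : (p : ℤ) ^ (e + 1) ∣ (n : ℤ) := by
    rw [hnw, pow_succ]
    exact mul_dvd_mul_left _ hdvd
  have h4 : p ^ (e + 1) ∣ n := by exact_mod_cast h3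
  have h5 := (hp.pow_dvd_iff_le_factorization hn0).mp h4
  omega

open scoped Classical in
/-- **The unit property.** -/
theorem not_dvd_sum_resMult_blockQ (hM : IsPModular p M) (H : Subgroup G) [Fintype H]
    {b : Set (IrrCharacter H)} {B : Set (IrrCharacter G)} (hind : IsInducedBlock M H b B)
    (hdef : blockDefect p b = blockDefect p B) {χ ψ : IrrCharacter G} (hχ : χ ∈ B) (hψ : ψ ∈ B)
    (hχ0 : blockHeight p B (χ : G → ℂ) = 0) (hψ0 : blockHeight p B (ψ : G → ℂ) = 0) :
    ¬ (p : ℤ) ∣ ∑ ξ ∈ Finset.univ.filter (fun ξ : IrrCharacter H => ξ ∈ b),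
      ∑ ξ' ∈ Finset.univ.filter (fun ξ : IrrCharacter H => ξ ∈ b),
        (resMult H χ ξ : ℤ) * blockQ p b ξ ξ' * (resMult H ψ ξ' : ℤ) := by
  have hp : p.Prime := Fact.out
  have hMp : M.IsPrime := isPModular_isPrime hM
  have hb : IsPBlock M b := hind.1
  have hB : IsPBlock M B := hind.2.1
  have hbne : b.Nonempty := IsPBlock_nonempty hMp.ne_top hb
  have hBne : B.Nonempty := IsPBlock_nonempty hMp.ne_top hB
  -- a character of height zero in `b`
  obtain ⟨ξ₀, hξ₀, hξ₀min⟩ := exists_min_factorization (p := p) hbne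
  have hξ₀0 : blockHeight p b (ξ₀ : H → ℂ) = 0 := by
    unfold blockHeight
    omega
  have h1b := coDefect_add_blockDefect (p := p) hbne
  have h1B := coDefect_add_blockDefect (p := p) hBne
  have hppos : (0 : ℤ) < (p : ℤ) := by exact_mod_cast hp.pos
  refine rankOne_not_dvd (p := p)
    (Finset.univ.filter (fun ψ' : IrrCharacter G => ψ' ∈ B))
    (Finset.univ.filter (fun ξ : IrrCharacter H => ξ ∈ b))
    (fun χ ξ => (resMult H χ ξ : ℤ)) (blockQ p b) (blockQ p B) (blockU p B) (blockU p b)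
    (fun ξ _ ξ' _ => blockQ_symm hM b ξ ξ') ?_ ?_ ?_
    (by simpa using hξ₀) (not_dvd_blockU hp hξ₀ hξ₀0) (not_dvd_blockQ_self hM hb hξ₀ hξ₀0)
    (not_dvd_sum_resMult_mul_blockU hM H hind hdef hξ₀ hξ₀0)
    (by simpa using hχ) (by simpa using hψ)
    (not_dvd_blockQ_self hM hB hχ hχ0) (not_dvd_blockQ_self hM hB hψ hψ0)
  · -- the intertwining relation
    intro ξ hξ φ hφ
    simp only [Finset.mem_filter, Finset.mem_univ, true_and] at hξ hφ
    have h3 := sum_contrib_mul_resMult hM H ξ φ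
    have hL : ∑ ξ' : IrrCharacter H, contrib p ξ ξ' * (resMult H φ ξ' : ℤ) =
        (p : ℤ) ^ coDefect p b * ∑ ξ' ∈ Finset.univ.filter (fun ξ : IrrCharacter H => ξ ∈ b),
          blockQ p b ξ ξ' * (resMult H φ ξ' : ℤ) := by
      rw [Finset.mul_sum, Finset.sum_filter]
      apply Finset.sum_congr rfl
      intro ξ' _
      split_ifs with hξ'
      · rw [← mul_assoc, blockQ_spec hM ξ hξ']
      · rw [contrib_eq_zero_of_not_mem hM hb hξ hξ', zero_mul]
    have hR : ∑ ψ' : IrrCharacter G, contrib p φ ψ' * (resMult H ψ' ξ : ℤ) =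
        (p : ℤ) ^ coDefect p B * ∑ ψ' ∈ Finset.univ.filter (fun ψ' : IrrCharacter G => ψ' ∈ B),
          blockQ p B φ ψ' * (resMult H ψ' ξ : ℤ) := by
      rw [Finset.mul_sum, Finset.sum_filter]
      apply Finset.sum_congr rfl
      intro ψ' _
      split_ifs with hψ'
      · rw [← mul_assoc, blockQ_spec hM φ hψ']
      · rw [contrib_eq_zero_of_not_mem hM hB hφ hψ', zero_mul]
    rw [hL, hR, ← mul_assoc, ← mul_assoc, ← pow_add, ← pow_add] at h3
    have hexp : (Nat.card G).factorization p + coDefect p b =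
        (Nat.card H).factorization p + coDefect p B := by omega
    rw [hexp] at h3
    exact mul_left_cancel₀ (pow_ne_zero _ hppos.ne') h3
  · intro φ hφ φ' hφ' φ'' hφ''
    simp only [Finset.mem_filter, Finset.mem_univ, true_and] at hφ hφ' hφ''
    exact blockQ_congr hM hB φ hφ' hφ''
  · intro ξ hξ ξ' hξ' ξ'' hξ''
    simp only [Finset.mem_filter, Finset.mem_univ, true_and] at hξ hξ' hξ''
    exact blockQ_congr hM hb ξ hξ' hξ''

end Intertwine

end Cfsg.Agent.Lib.Helper82
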