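import Mathlib
import Cfsg.Agent.Lib.Helper82.SubsecUnit
import Cfsg.Agent.Lib.Helper82.CycloNorm

/-!
# Brauer's inequality `k(B)² ≤ p^(2d) l(b)` for a major subsection and a block of heights zero
-/

set_option autoImplicit false
set_option linter.unusedSectionVars false

namespace Cfsg.Agent.Lib.Helper82

open Cfsg Finset Cfsg.Agent.Lib.Helper16 Cfsg.Agent.Lib.Helper78 Cfsg.Agent.Lib.Helper79
open scoped ComplexConjugate

universe u

section Ring

/-- In a commutative ring, if a prime ideal contains the prime `p` and `1 - η ^ p`, it contains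
`1 - η`. -/
theorem one_sub_mem_of_one_sub_pow_mem {R : Type*} [CommRing R] {I : Ideal R} (hI : I.IsPrime)
    {p : ℕ} (hp : p.Prime) (hpI : (p : R) ∈ I) {η : R} (hη : 1 - η ^ p ∈ I) : 1 - η ∈ I := by
  apply hI.mem_of_pow_mem p
  obtain ⟨r, hr⟩ := exists_add_pow_prime_eq hp (1 : R) (-η)
  rw [sub_eq_add_neg, hr, one_pow, neg_pow]
  apply I.add_mem
  · rcases hp.eq_two_or_odd' with h2 | hodd
    · subst h2
      have : (1 : R) + (-1) ^ 2 * η ^ 2 = (1 - η ^ 2) + ((2 : ℕ) : R) * η ^ 2 := by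
        push_cast; ring
      rw [this]
      exact I.add_mem hη (I.mul_mem_right _ hpI)
    · rw [hodd.neg_one_pow]
      have : (1 : R) + -1 * η ^ p = 1 - η ^ p := by ring
      rw [this]
      exact hη
  · rw [mul_assoc, mul_assoc]
    exact I.mul_mem_right _ hpI

theorem one_sub_mem_of_pow_prime_pow_eq_one {R : Type*} [CommRing R] {I : Ideal R}
    (hI : I.IsPrime) {p : ℕ} (hp : p.Prime) (hpI : (p : R) ∈ I) (k : ℕ) :
    ∀ η : R, η ^ p ^ k = 1 → 1 - η ∈ I := by
  induction k with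
  | zero =>
    intro η hη
    rw [pow_zero, pow_one] at hη
    rw [hη, sub_self]
    exact I.zero_mem
  | succ k ih =>
    intro η hη
    apply one_sub_mem_of_one_sub_pow_mem hI hp hpI
    apply ih
    rw [← pow_mul, ← pow_succ']
    exact hη

variable {M : Ideal AlgInt}

/-- A `p`-power root of unity is congruent to `1`. -/
theorem memLocalIdeal_sub_one_of_pow_eq_one {p : ℕ} (hM : IsPModular p M) {x : ℂ} {k : ℕ}
    (hx : x ^ p ^ k = 1) : MemLocalIdeal M (x - 1) := by
  have hp : p.Prime := isPModular_prime hM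
  have hMp : M.IsPrime := isPModular_isPrime hM
  have hint : IsIntegral ℤ x := by
    apply IsIntegral.of_pow (pow_pos hp.pos k)
    rw [hx]
    exact isIntegral_one
  set a : AlgInt := ⟨x, hint⟩ with ha
  have ha1 : a ^ p ^ k = 1 := by
    apply Subtype.ext
    simpa using hx
  have h1 := one_sub_mem_of_pow_prime_pow_eq_one hMp hp (isPModular_mem hM) k a ha1
  have h2 := memLocalIdeal_of_mem hMp.ne_top h1
  have h3 : ((1 - a : AlgInt) : ℂ) = -(x - 1) := by
    simp [ha]
  rw [h3] at h2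
  exact memLocalIdeal_neg_iff.mp h2

end Ring

section Main

variable {G : Type u} [Group G] [Fintype G] {p : ℕ} [Fact p.Prime] {M : Ideal AlgInt}

/-- The integer coefficients of the expansion of `p^d m_{χ ψ}`. -/
noncomputable def secCoef (p : ℕ) (H : Subgroup G) [Fintype H] (b : Set (IrrCharacter H))
    (χ ψ : IrrCharacter G) (i : IrrCharacter H × IrrCharacter H) : ℤ :=
  (resMult H χ i.1 : ℤ) * blockQ p b i.1 i.2 * (resMult H ψ i.2 : ℤ)

/-- The roots of unity of the expansion of `p^d m_{χ ψ}`. -/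
noncomputable def secRoot (H : Subgroup G) [Fintype H] (z : H)
    (i : IrrCharacter H × IrrCharacter H) : ℂ :=
  cScalar i.1 z * conj (cScalar i.2 z)

open scoped Classical in
/-- `p^d m_{χ ψ}` for the central element `z ^ j` as an integer combination of roots of unity. -/
theorem pow_mul_secM_eq (hM : IsPModular p M) (H : Subgroup G) [Fintype H]
    {b : Set (IrrCharacter H)} (hb : IsPBlock M b) (χ ψ : IrrCharacter G) {z : H}
    (hz : z ∈ Subgroup.center H) (j : ℕ) :
    (p : ℂ) ^ blockDefect p b * secM p ((z : G) ^ j) H b (χ : G → ℂ) (ψ : G → ℂ) =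
      ∑ i ∈ (Finset.univ.filter (fun ξ : IrrCharacter H => ξ ∈ b)) ×ˢ
          (Finset.univ.filter (fun ξ : IrrCharacter H => ξ ∈ b)),
        (secCoef p H b χ ψ i : ℂ) * secRoot H z i ^ j := by
  have hp : p.Prime := Fact.out
  have hMp : M.IsPrime := isPModular_isPrime hM
  have hbne : b.Nonempty := IsPBlock_nonempty hMp.ne_top hb
  have hzj : z ^ j ∈ Subgroup.center H := Subgroup.pow_mem _ hz j
  have hcoe : (z : G) ^ j = ((z ^ j : H) : G) := (Subgroup.coe_pow H z j).symm
  rw [hcoe, secM_eq_sum H p b χ ψ hzj, Finset.sum_product, Finset.mul_sum]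
  apply Finset.sum_congr rfl
  intro ξ _
  rw [Finset.mul_sum]
  apply Finset.sum_congr rfl
  intro ξ' hξ'
  simp only [Finset.mem_filter, Finset.mem_univ, true_and] at hξ'
  -- the Gram number
  have hpe : ((p : ℂ) ^ coDefect p b) ≠ 0 := pow_ne_zero _ (by exact_mod_cast hp.ne_zero)
  have hgram : (p : ℂ) ^ blockDefect p b * pGram H p ξ ξ' = (blockQ p b ξ ξ' : ℂ) := by
    apply mul_left_cancel₀ hpe
    rw [← mul_assoc, ← pow_add, coDefect_add_blockDefect (p := p) hbne, pow_mul_pGram H hM]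
    exact_mod_cast (congrArg (fun z : ℤ => (z : ℂ)) (blockQ_spec hM ξ hξ')).symm
  unfold secCoef secRoot
  simp only
  rw [cScalar_pow ξ hz, cScalar_pow ξ' hz, map_mul, map_pow, Complex.conj_natCast, mul_pow]
  push_cast
  rw [← hgram]
  ring

/-- The roots of unity have `p`-power order. -/
theorem secRoot_pow_eq_one (H : Subgroup G) [Fintype H] {z : H} (hz : z ∈ Subgroup.center H)
    {n : ℕ} (hn : z ^ n = 1) (i : IrrCharacter H × IrrCharacter H) : secRoot H z i ^ n = 1 := by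
  unfold secRoot
  rw [mul_pow, ← map_pow, cScalar_pow_eq_one i.1 hz hn, cScalar_pow_eq_one i.2 hz hn, map_one,
    mul_one]


open scoped Classical in
/-- The expansion is nonzero for two characters of height zero. -/
theorem sum_secCoef_mul_secRoot_ne_zero (hM : IsPModular p M) (H : Subgroup G) [Fintype H]
    {b : Set (IrrCharacter H)} {B : Set (IrrCharacter G)} (hind : IsInducedBlock M H b B)
    (hdef : blockDefect p b = blockDefect p B) {χ ψ : IrrCharacter G} (hχ : χ ∈ B) (hψ : ψ ∈ B)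
    (hχ0 : blockHeight p B (χ : G → ℂ) = 0) (hψ0 : blockHeight p B (ψ : G → ℂ) = 0)
    {z : H} (hz : z ∈ Subgroup.center H) {k : ℕ} (hzk : z ^ p ^ k = 1) (j : ℕ) :
    ∑ i ∈ (Finset.univ.filter (fun ξ : IrrCharacter H => ξ ∈ b)) ×ˢ
        (Finset.univ.filter (fun ξ : IrrCharacter H => ξ ∈ b)),
      (secCoef p H b χ ψ i : ℂ) * secRoot H z i ^ j ≠ 0 := by
  have hMp : M.IsPrime := isPModular_isPrime hM
  have hMtop : M ≠ ⊤ := hMp.ne_top
  set s := (Finset.univ.filter (fun ξ : IrrCharacter H => ξ ∈ b)) ×ˢ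
        (Finset.univ.filter (fun ξ : IrrCharacter H => ξ ∈ b)) with hs
  have hr := not_dvd_sum_resMult_blockQ hM H hind hdef hχ hψ hχ0 hψ0
  have hr' : ∑ i ∈ s, secCoef p H b χ ψ i =
      ∑ ξ ∈ Finset.univ.filter (fun ξ : IrrCharacter H => ξ ∈ b),
        ∑ ξ' ∈ Finset.univ.filter (fun ξ : IrrCharacter H => ξ ∈ b),
          (resMult H χ ξ : ℤ) * blockQ p b ξ ξ' * (resMult H ψ ξ' : ℤ) := by
    rw [hs, Finset.sum_product]
    rfl
  rw [← hr', ← memLocalIdeal_intCast_iff hM] at hr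
  intro h0
  apply hr
  have hdiff : MemLocalIdeal M (∑ i ∈ s, (secCoef p H b χ ψ i : ℂ) * secRoot H z i ^ j -
      ((∑ i ∈ s, secCoef p H b χ ψ i : ℤ) : ℂ)) := by
    push_cast
    rw [← Finset.sum_sub_distrib]
    apply memLocalIdeal_sum
    intro i _
    have e : (secCoef p H b χ ψ i : ℂ) * secRoot H z i ^ j - (secCoef p H b χ ψ i : ℂ) =
        (secCoef p H b χ ψ i : ℂ) * (secRoot H z i ^ j - 1) := by ring
    rw [e]
    apply memLocalIdeal_mul_left (memLocalRing_intCast hMtop _)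
    apply memLocalIdeal_sub_one_of_pow_eq_one hM (k := k)
    rw [← pow_mul, mul_comm, pow_mul, secRoot_pow_eq_one H hz hzk, one_pow]
  rw [h0, zero_sub] at hdiff
  exact memLocalIdeal_neg_iff.mp hdiff

open scoped Classical in
/-- **Brauer's inequality** `k(B)² ≤ p^(2d) l(b)` for a major subsection `(y, b)` of a block `B`
all of whose characters have height zero. -/
theorem card_sq_le_of_major_subsection (hM : IsPModular p M) (B : Set (IrrCharacter G))
    (hh : ∀ χ ∈ B, blockHeight p B (χ : G → ℂ) = 0) (y : G) (hy : ∃ k : ℕ, orderOf y = p ^ k)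
    (H : Subgroup G) [Fintype H] (hH : ∀ g : G, g ∈ H ↔ Commute y g)
    (b : Set (IrrCharacter H)) (hind : IsInducedBlock M H b B)
    (hbd : blockDefect p b = blockDefect p B) :
    Nat.card B ^ 2 ≤ p ^ (2 * blockDefect p B) * blockRank p b := by
  have hp : p.Prime := Fact.out
  have hb : IsPBlock M b := hind.1
  obtain ⟨k, hk⟩ := hy
  have hnpos : 0 < p ^ k := pow_pos hp.pos k
  -- the central element
  have hyH : y ∈ H := (hH y).mpr (Commute.refl y)
  obtain ⟨z, hz⟩ : ∃ z : H, (z : G) = y := ⟨⟨y, hyH⟩, rfl⟩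
  have hzc : z ∈ Subgroup.center H := by
    rw [Subgroup.mem_center_iff]
    intro h
    apply Subtype.ext
    simp only [Subgroup.coe_mul, hz]
    exact ((hH h).mp h.2).eq.symm
  have hzn : z ^ p ^ k = 1 := by
    apply Subtype.ext
    simp only [Subgroup.coe_pow, hz, Subgroup.coe_one]
    rw [← hk]
    exact pow_orderOf_eq_one y
  set sb := Finset.univ.filter (fun ξ : IrrCharacter H => ξ ∈ b) with hsb
  set sB := Finset.univ.filter (fun χ : IrrCharacter G => χ ∈ B) with hsB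
  set J := (Finset.range (p ^ k)).filter (fun j => j.Coprime (p ^ k)) with hJ
  set A : IrrCharacter G → IrrCharacter G → ℕ → ℂ := fun χ ψ j =>
    ∑ i ∈ sb ×ˢ sb, (secCoef p H b χ ψ i : ℂ) * secRoot H z i ^ j with hA
  -- the lower bound
  have hlow : ∀ χ ∈ sB, ∀ ψ ∈ sB,
      ((p ^ k).totient : ℝ) ≤ ∑ j ∈ J, Complex.normSq (A χ ψ j) := by
    intro χ hχ ψ hψ
    simp only [hsB, Finset.mem_filter, Finset.mem_univ, true_and] at hχ hψ
    apply totient_le_sum_normSq (p ^ k) hnpos (sb ×ˢ sb) (secCoef p H b χ ψ) (secRoot H z)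
    · intro i _
      exact secRoot_pow_eq_one H hzc hzn i
    · intro j _
      exact sum_secCoef_mul_secRoot_ne_zero hM H hind hbd hχ hψ (hh χ hχ) (hh ψ hψ) hzc hzn j
  -- the norm identity for each `j`
  have hnorm : ∀ j ∈ J, ∑ χ ∈ sB, ∑ ψ ∈ sB, Complex.normSq (A χ ψ j) =
      (p : ℝ) ^ (2 * blockDefect p B) * (blockRank p b : ℝ) := by
    intro j hj
    simp only [hJ, Finset.mem_filter, Finset.mem_range] at hj
    have hcop : (orderOf y).Coprime j := by rw [hk]; exact hj.2.symm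
    have hord : orderOf (y ^ j) = p ^ k := by rw [hcop.orderOf_pow, hk]
    have hHj : ∀ g : G, g ∈ H ↔ Commute (y ^ j) g := by
      intro g
      rw [hH g]
      constructor
      · intro h
        exact h.pow_left j
      · intro h
        obtain ⟨m, hm⟩ := exists_pow_eq_self_of_coprime hcop.symm
        rw [← hm]
        exact h.pow_left m
    have h1 := sum_block_secM_normSq hM (y ^ j) ⟨k, hord⟩ H hHj hind
    have hAeq : ∀ χ ψ : IrrCharacter G, A χ ψ j =
        (p : ℂ) ^ blockDefect p b * secM p (y ^ j) H b (χ : G → ℂ) (ψ : G → ℂ) := by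
      intro χ ψ
      rw [← hz]
      exact (pow_mul_secM_eq hM H hb χ ψ hzc j).symm
    have hns : ∀ χ ψ : IrrCharacter G, Complex.normSq (A χ ψ j) =
        (p : ℝ) ^ (2 * blockDefect p B) *
          Complex.normSq (secM p (y ^ j) H b (χ : G → ℂ) (ψ : G → ℂ)) := by
      intro χ ψ
      rw [hAeq, Complex.normSq_mul, map_pow, Complex.normSq_natCast, hbd, ← pow_two, ← pow_mul]
    simp_rw [hns]
    simp_rw [← Finset.mul_sum]
    congr 1
    have h2 : ((∑ χ ∈ sB, ∑ ψ ∈ sB,
        Complex.normSq (secM p (y ^ j) H b (χ : G → ℂ) (ψ : G → ℂ)) : ℝ) : ℂ) =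
        ((blockRank p b : ℝ) : ℂ) := by
      push_cast
      rw [← h1]
      apply Finset.sum_congr rfl
      intro χ _
      apply Finset.sum_congr rfl
      intro ψ _
      rw [Complex.mul_conj]
    exact_mod_cast h2
  -- counting
  have hcardJ : J.card = (p ^ k).totient := by
    rw [hJ, Nat.totient_eq_card_coprime]
    congr 1
    ext j
    simp only [Finset.mem_filter, Finset.mem_range, Nat.coprime_comm]
  have htot : 0 < (p ^ k).totient := Nat.totient_pos.mpr hnpos
  have hsum1 : ((sB.card : ℝ) ^ 2) * ((p ^ k).totient : ℝ) ≤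
      ∑ χ ∈ sB, ∑ ψ ∈ sB, ∑ j ∈ J, Complex.normSq (A χ ψ j) := by
    have : ∑ χ ∈ sB, ∑ ψ ∈ sB, ((p ^ k).totient : ℝ) ≤
        ∑ χ ∈ sB, ∑ ψ ∈ sB, ∑ j ∈ J, Complex.normSq (A χ ψ j) :=
      Finset.sum_le_sum (fun χ hχ => Finset.sum_le_sum (fun ψ hψ => hlow χ hχ ψ hψ))
    simp only [Finset.sum_const, nsmul_eq_mul] at this
    calc ((sB.card : ℝ) ^ 2) * ((p ^ k).totient : ℝ)
        = (sB.card : ℝ) * ((sB.card : ℝ) * ((p ^ k).totient : ℝ)) := by ring
      _ ≤ _ := this
  have hsum2 : ∑ χ ∈ sB, ∑ ψ ∈ sB, ∑ j ∈ J, Complex.normSq (A χ ψ j) =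
      ((p ^ k).totient : ℝ) * ((p : ℝ) ^ (2 * blockDefect p B) * (blockRank p b : ℝ)) := by
    have : ∑ χ ∈ sB, ∑ ψ ∈ sB, ∑ j ∈ J, Complex.normSq (A χ ψ j) =
        ∑ j ∈ J, ∑ χ ∈ sB, ∑ ψ ∈ sB, Complex.normSq (A χ ψ j) := by
      calc ∑ χ ∈ sB, ∑ ψ ∈ sB, ∑ j ∈ J, Complex.normSq (A χ ψ j)
          = ∑ χ ∈ sB, ∑ j ∈ J, ∑ ψ ∈ sB, Complex.normSq (A χ ψ j) :=
            Finset.sum_congr rfl (fun χ _ => Finset.sum_comm)
        _ = ∑ j ∈ J, ∑ χ ∈ sB, ∑ ψ ∈ sB, Complex.normSq (A χ ψ j) := Finset.sum_comm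
    rw [this, Finset.sum_congr rfl hnorm, Finset.sum_const, nsmul_eq_mul, hcardJ]
  rw [hsum2] at hsum1
  have htotR : (0 : ℝ) < ((p ^ k).totient : ℝ) := by exact_mod_cast htot
  have hfin : ((sB.card : ℝ) ^ 2) ≤ (p : ℝ) ^ (2 * blockDefect p B) * (blockRank p b : ℝ) := by
    by_contra hlt
    push Not at hlt
    have := mul_lt_mul_of_pos_right hlt htotR
    linarith
  have hcardB : Nat.card B = sB.card := by
    rw [Nat.card_eq_fintype_card, hsB]
    exact Fintype.card_subtype _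
  rw [hcardB]
  exact_mod_cast hfin

end Main

end Cfsg.Agent.Lib.Helper82
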