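import Mathlib
import Cfsg.Agent.Lib.Helper82.SubsecExpand
import Cfsg.Agent.Lib.Helper78.DefectClassVal
import Cfsg.Agent.Lib.Helper79.Schur

/-!
# Divisibility of the values of the characters of a block

For `ξ` in a block `b` of defect `d` of the group `H` and any `s`, the number
`p^d ξ(s) / |C_H(s)|` is a local integer: it is the central character of `ξ` at `s` times
`p^d ξ(1) / |H|`.
-/

set_option autoImplicit false
set_option linter.unusedSectionVars false
set_option linter.style.haveILetI false

namespace Cfsg.Agent.Lib.Helper82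

open Cfsg Finset Cfsg.Agent.Lib.Helper16 Cfsg.Agent.Lib.Helper78 Cfsg.Agent.Lib.Helper79
open scoped ComplexConjugate

universe u

section Central

variable {H : Type u} [Group H] [Fintype H] {p : ℕ} [Fact p.Prime] {M : Ideal AlgInt}

/-- `p^d ξ(1) / |H|` is a local integer for `ξ` in a block of defect `d`. -/
theorem memLocalRing_pow_mul_degree_div (hM : IsPModular p M) {b : Set (IrrCharacter H)}
    {ξ : IrrCharacter H} (hξ : ξ ∈ b) :
    MemLocalRing M (((p ^ blockDefect p b * charDegree (ξ : H → ℂ) : ℕ) : ℂ) /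
      (Nat.card H : ℂ)) := by
  have hp : p.Prime := Fact.out
  apply memLocalRing_natCast_div_of_factorization_le hM Nat.card_pos.ne'
  have hdeg : charDegree (ξ : H → ℂ) ≠ 0 := (IsIrrCharacter.charDegree_pos ξ.2).ne'
  rw [Nat.factorization_mul (pow_ne_zero _ hp.ne_zero) hdeg, Nat.factorization_pow]
  simp only [Finsupp.coe_add, Finsupp.coe_smul, Pi.add_apply, Pi.smul_apply, smul_eq_mul,
    hp.factorization_self, mul_one]
  unfold blockDefect
  have h1 : sInf ((fun χ : IrrCharacter H => (charDegree (χ : H → ℂ)).factorization p) '' b) ≤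
      (charDegree (ξ : H → ℂ)).factorization p := Nat.sInf_le ⟨ξ, hξ, rfl⟩
  omega

/-- **Divisibility of character values in a block of defect `d`.** -/
theorem memLocalRing_pow_mul_apply_div (hM : IsPModular p M) {b : Set (IrrCharacter H)}
    {ξ : IrrCharacter H} (hξ : ξ ∈ b) (s : H) :
    MemLocalRing M (((p : ℂ) ^ blockDefect p b) * (ξ : H → ℂ) s /
      (Nat.card (Subgroup.centralizer ({s} : Set H)) : ℂ)) := by
  haveI hMp := isPModular_isPrime hM
  have h1 := memLocalRing_pow_mul_degree_div hM hξ
  have h2 : MemLocalRing M (centralChar (ξ : H → ℂ) s) :=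
    memLocalRing_of_isIntegral hMp.ne_top (isIntegral_centralChar ξ s)
  have h3 := memLocalRing_mul h2 h1
  have hdeg : (ξ : H → ℂ) 1 = (charDegree (ξ : H → ℂ) : ℂ) :=
    IsCharacter.apply_one_eq_charDegree (IsIrrCharacter.isCharacter ξ.2)
  have hdeg0 : (ξ : H → ℂ) 1 ≠ 0 := IsIrrCharacter.apply_one_ne_zero ξ.2
  have hidx : ((Subgroup.centralizer ({s} : Set H)).index : ℂ) *
      (Nat.card (Subgroup.centralizer ({s} : Set H)) : ℂ) = (Nat.card H : ℂ) := by
    have := Subgroup.index_mul_card (Subgroup.centralizer ({s} : Set H))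
    exact_mod_cast this
  have hC0 : (Nat.card (Subgroup.centralizer ({s} : Set H)) : ℂ) ≠ 0 := by
    exact_mod_cast Nat.card_pos.ne'
  have hH0 : (Nat.card H : ℂ) ≠ 0 := by exact_mod_cast Nat.card_pos.ne'
  convert h3 using 1
  unfold centralChar
  rw [← hidx]
  push_cast
  rw [← hdeg]
  have hI0 : ((Subgroup.centralizer ({s} : Set H)).index : ℂ) ≠ 0 := by
    intro h0
    rw [h0, zero_mul] at hidx
    exact hH0 hidx.symm
  field_simp

end Central

end Cfsg.Agent.Lib.Helper82
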