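import Mathlib

/-!
# A Gram-matrix lemma for four vectors

Four vectors `F χ` (functions on a finite set `X`) whose Gram matrix `E` (scaled by a positive
real `c`) satisfies: `4 E` is integral, the diagonal of `E` does not vanish, the trace of `E` is
`1`, and `∑_ψ |E_{χψ}|² = E_{χχ}`.  Then the four vectors agree up to signs.
-/

set_option autoImplicit false

namespace Cfsg.Agent.Lib.Helper82

open Finset
open scoped ComplexConjugate

section Gram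

variable {ι α : Type*}

/-- The diagonal of a Gram matrix is a nonnegative real. -/
theorem gram_diag_eq (X : Finset α) (f : α → ℂ) :
    ∑ x ∈ X, f x * conj (f x) = ((∑ x ∈ X, Complex.normSq (f x) : ℝ) : ℂ) := by
  push_cast
  apply Finset.sum_congr rfl
  intro x _
  rw [Complex.mul_conj]

/-- The norm of `f - ε g` for a real sign `ε`. -/
theorem gram_sub_eq (X : Finset α) (f g : α → ℂ) (ε : ℝ) (hε : ε * ε = 1) :
    ((∑ x ∈ X, Complex.normSq (f x - (ε : ℂ) * g x) : ℝ) : ℂ) =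
      ∑ x ∈ X, f x * conj (f x) + ∑ x ∈ X, g x * conj (g x) -
        (ε : ℂ) * (∑ x ∈ X, f x * conj (g x) + ∑ x ∈ X, g x * conj (f x)) := by
  push_cast
  rw [← Finset.sum_add_distrib, ← Finset.sum_add_distrib, Finset.mul_sum, ← Finset.sum_sub_distrib]
  apply Finset.sum_congr rfl
  intro x _
  rw [← Complex.mul_conj, map_sub, map_mul, Complex.conj_ofReal]
  have h2 : (ε : ℂ) * (ε : ℂ) = 1 := by exact_mod_cast hε
  linear_combination (g x * conj (g x)) * h2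

/-- **The Gram lemma.** -/
theorem gram_sign [DecidableEq ι] (S : Finset ι) (hS : S.card = 4) (X : Finset α) (F : ι → α → ℂ)
    (c : ℝ) (hc : 0 < c) (E : ι → ι → ℂ)
    (hE : ∀ χ ψ, E χ ψ = (c : ℂ) * ∑ x ∈ X, F χ x * conj (F ψ x))
    (hint : ∀ χ ∈ S, ∀ ψ ∈ S, ∃ n : ℤ, 4 * E χ ψ = n)
    (hne : ∀ χ ∈ S, E χ χ ≠ 0)
    (htr : ∑ χ ∈ S, E χ χ = 1)
    (hid : ∀ χ ∈ S, ∑ ψ ∈ S, E χ ψ * conj (E χ ψ) = E χ χ) :
    ∀ χ ∈ S, ∀ ψ ∈ S, ∃ ε : ℤ, (ε = 1 ∨ ε = -1) ∧ ∀ x ∈ X, F χ x = (ε : ℂ) * F ψ x := by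
  classical
  choose! n hn using hint
  -- the diagonal entries are positive integers
  have hdiag : ∀ χ, E χ χ = ((c * ∑ x ∈ X, Complex.normSq (F χ x) : ℝ) : ℂ) := by
    intro χ
    rw [hE, gram_diag_eq]
    push_cast
    rfl
  have hnpos : ∀ χ ∈ S, 1 ≤ n χ χ := by
    intro χ hχ
    have h1 := hn χ hχ χ hχ
    rw [hdiag] at h1
    have h2 : (4 * (c * ∑ x ∈ X, Complex.normSq (F χ x)) : ℝ) = (n χ χ : ℝ) := by
      exact_mod_cast h1
    have h3 : (0 : ℝ) ≤ (n χ χ : ℝ) := by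
      rw [← h2]
      have : 0 ≤ ∑ x ∈ X, Complex.normSq (F χ x) :=
        Finset.sum_nonneg (fun x _ => Complex.normSq_nonneg _)
      positivity
    have h4 : n χ χ ≠ 0 := by
      intro h0
      apply hne χ hχ
      have := hn χ hχ χ hχ
      rw [h0] at this
      simpa using this
    have h5 : (0 : ℤ) ≤ n χ χ := by exact_mod_cast h3
    omega
  have hsum : ∑ χ ∈ S, n χ χ = 4 := by
    have h1 : ((∑ χ ∈ S, n χ χ : ℤ) : ℂ) = 4 := by
      push_cast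
      rw [← Finset.sum_congr rfl (fun χ hχ => hn χ hχ χ hχ), ← Finset.mul_sum, htr, mul_one]
    exact_mod_cast h1
  have hn1 : ∀ χ ∈ S, n χ χ = 1 := by
    have h0 : ∑ χ ∈ S, (n χ χ - 1) = 0 := by
      rw [Finset.sum_sub_distrib, hsum]
      simp [hS]
    have h1 := (Finset.sum_eq_zero_iff_of_nonneg (fun χ hχ => by
      have := hnpos χ hχ; omega)).mp h0
    intro χ hχ
    have := h1 χ hχ
    omega
  have hEd : ∀ χ ∈ S, E χ χ = 1 / 4 := by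
    intro χ hχ
    have h1 := hn χ hχ χ hχ
    rw [hn1 χ hχ] at h1
    have h4 : (4 : ℂ) ≠ 0 := by norm_num
    field_simp
    rw [mul_comm]
    simpa using h1
  -- symmetry
  have hsymm : ∀ χ ψ, E ψ χ = conj (E χ ψ) := by
    intro χ ψ
    rw [hE, hE, map_mul, Complex.conj_ofReal, map_sum]
    congr 1
    apply Finset.sum_congr rfl
    intro x _
    rw [map_mul, Complex.conj_conj, mul_comm]
  have hEval : ∀ χ ∈ S, ∀ ψ ∈ S, E χ ψ = (n χ ψ : ℂ) / 4 := by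
    intro χ hχ ψ hψ
    rw [← hn χ hχ ψ hψ]
    ring
  have hsymm' : ∀ χ ∈ S, ∀ ψ ∈ S, E ψ χ = E χ ψ := by
    intro χ hχ ψ hψ
    rw [hsymm χ ψ, hEval χ hχ ψ hψ, map_div₀, map_intCast]
    congr 1
    have : (4 : ℂ) = ((4 : ℝ) : ℂ) := by norm_num
    rw [this, Complex.conj_ofReal]
  -- the key norm computation
  have hnorm : ∀ χ ∈ S, ∀ ψ ∈ S, ∀ ε : ℝ, ε * ε = 1 →
      (c * ∑ x ∈ X, Complex.normSq (F χ x - (ε : ℂ) * F ψ x) : ℝ) = 1 / 2 - ε * (n χ ψ : ℝ) / 2 := by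
    intro χ hχ ψ hψ ε hε
    have h1 := gram_sub_eq X (F χ) (F ψ) ε hε
    have h2 : ((c * ∑ x ∈ X, Complex.normSq (F χ x - (ε : ℂ) * F ψ x) : ℝ) : ℂ) =
        E χ χ + E ψ ψ - (ε : ℂ) * (E χ ψ + E ψ χ) := by
      rw [hE χ χ, hE ψ ψ, hE χ ψ, hE ψ χ]
      push_cast at h1 ⊢
      rw [h1]
      ring
    rw [hEd χ hχ, hEd ψ hψ, hsymm' χ hχ ψ hψ, hEval χ hχ ψ hψ] at h2
    have h3 : ((c * ∑ x ∈ X, Complex.normSq (F χ x - (ε : ℂ) * F ψ x) : ℝ) : ℂ) =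
        ((1 / 2 - ε * (n χ ψ : ℝ) / 2 : ℝ) : ℂ) := by
      rw [h2]
      push_cast
      ring
    exact_mod_cast h3
  have hnonneg : ∀ χ ψ, ∀ ε : ℝ,
      0 ≤ c * ∑ x ∈ X, Complex.normSq (F χ x - (ε : ℂ) * F ψ x) := by
    intro χ ψ ε
    have : 0 ≤ ∑ x ∈ X, Complex.normSq (F χ x - (ε : ℂ) * F ψ x) :=
      Finset.sum_nonneg (fun x _ => Complex.normSq_nonneg _)
    positivity
  have hle : ∀ χ ∈ S, ∀ ψ ∈ S, n χ ψ ^ 2 ≤ 1 := by
    intro χ hχ ψ hψ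
    have h1 := hnorm χ hχ ψ hψ 1 (by norm_num)
    have h2 := hnorm χ hχ ψ hψ (-1) (by norm_num)
    have h3 := hnonneg χ ψ 1
    have h4 := hnonneg χ ψ (-1)
    rw [h1] at h3
    rw [h2] at h4
    have h5 : (n χ ψ : ℝ) ≤ 1 := by linarith
    have h6 : (-1 : ℝ) ≤ (n χ ψ : ℝ) := by linarith
    have h7 : n χ ψ ≤ 1 := by exact_mod_cast h5
    have h8 : -1 ≤ n χ ψ := by exact_mod_cast h6
    nlinarith
  have hsq : ∀ χ ∈ S, ∑ ψ ∈ S, n χ ψ ^ 2 = 4 := by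
    intro χ hχ
    have h1 := hid χ hχ
    rw [hEd χ hχ] at h1
    have h2 : ∀ ψ ∈ S, E χ ψ * conj (E χ ψ) = ((n χ ψ ^ 2 : ℤ) : ℂ) / 16 := by
      intro ψ hψ
      rw [hEval χ hχ ψ hψ, map_div₀, map_intCast]
      have : (4 : ℂ) = ((4 : ℝ) : ℂ) := by norm_num
      rw [this, Complex.conj_ofReal]
      push_cast
      ring
    rw [Finset.sum_congr rfl h2, ← Finset.sum_div] at h1
    have h3 : ((∑ ψ ∈ S, n χ ψ ^ 2 : ℤ) : ℂ) = 4 := by
      push_cast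
      have h16 : (16 : ℂ) ≠ 0 := by norm_num
      field_simp at h1
      push_cast at h1
      linear_combination (1 / 4 : ℂ) * h1
    exact_mod_cast h3
  have hsq1 : ∀ χ ∈ S, ∀ ψ ∈ S, n χ ψ ^ 2 = 1 := by
    intro χ hχ
    have h0 : ∑ ψ ∈ S, (1 - n χ ψ ^ 2) = 0 := by
      rw [Finset.sum_sub_distrib, hsq χ hχ]
      simp [hS]
    have h1 := (Finset.sum_eq_zero_iff_of_nonneg (fun ψ hψ => by
      have := hle χ hχ ψ hψ; omega)).mp h0
    intro ψ hψ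
    have := h1 ψ hψ
    omega
  intro χ hχ ψ hψ
  have h1 := hsq1 χ hχ ψ hψ
  have hcases : n χ ψ = 1 ∨ n χ ψ = -1 := by
    have : (n χ ψ - 1) * (n χ ψ + 1) = 0 := by ring_nf; omega
    rcases mul_eq_zero.mp this with h | h
    · left; omega
    · right; omega
  refine ⟨n χ ψ, hcases, ?_⟩
  have hεε : ((n χ ψ : ℤ) : ℝ) * ((n χ ψ : ℤ) : ℝ) = 1 := by
    have : ((n χ ψ ^ 2 : ℤ) : ℝ) = 1 := by exact_mod_cast congrArg (fun z : ℤ => (z : ℝ)) h1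
    push_cast at this
    nlinarith
  have h2 := hnorm χ hχ ψ hψ (n χ ψ : ℝ) hεε
  have h3 : (c * ∑ x ∈ X, Complex.normSq (F χ x - ((n χ ψ : ℝ) : ℂ) * F ψ x) : ℝ) = 0 := by
    rw [h2]
    nlinarith
  have h4 : ∑ x ∈ X, Complex.normSq (F χ x - ((n χ ψ : ℝ) : ℂ) * F ψ x) = 0 := by
    rcases mul_eq_zero.mp h3 with h | h
    · exact absurd h hc.ne'
    · exact h
  have h5 := (Finset.sum_eq_zero_iff_of_nonneg (fun x _ => Complex.normSq_nonneg _)).mp h4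
  intro x hx
  have h6 := Complex.normSq_eq_zero.mp (h5 x hx)
  have h7 : F χ x = ((n χ ψ : ℝ) : ℂ) * F ψ x := sub_eq_zero.mp h6
  rw [h7]
  push_cast
  rfl

end Gram

end Cfsg.Agent.Lib.Helper82
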