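import Mathlib
import Cfsg.Agent.Lib.Helper82.IsoGram
import Cfsg.Agent.Lib.Helper82.IsoCentral
import Cfsg.Agent.Lib.Helper82.SubsecMain
import Cfsg.Agent.Lib.Helper75.MajorSubCongr2

/-!
# Subsections of rank one of a `2`-block with four characters of height zero

For a `2`-block `B` with four characters, all of height zero, of defect two, and a subsection
`(u, b)` with `u * u = 1`, `b` of defect two and of rank one, the `(u, b)`-parts of the members
of `B` agree up to signs on the `2`-regular elements.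
-/

set_option autoImplicit false
set_option linter.unusedSectionVars false
set_option linter.style.haveILetI false

namespace Cfsg.Agent.Lib.Helper82

open Cfsg Finset Cfsg.Agent.Lib.Helper16 Cfsg.Agent.Lib.Helper78 Cfsg.Agent.Lib.Helper79
open scoped ComplexConjugate

universe u

section Section

variable {G : Type u} [Group G] [Fintype G] {M : Ideal AlgInt}

theorem cScalar_sq_cases {K : Type u} [Group K] [Fintype K] (ξ : IrrCharacter K) {z : K}
    (hz : z ∈ Subgroup.center K) (hz2 : z ^ 2 = 1) : cScalar ξ z = 1 ∨ cScalar ξ z = -1 := by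
  have h1 : cScalar ξ z ^ 2 = 1 := cScalar_pow_eq_one ξ hz hz2
  have h2 : (cScalar ξ z - 1) * (cScalar ξ z + 1) = 0 := by ring_nf; rw [h1]; ring
  rcases mul_eq_zero.mp h2 with h | h
  · left; exact sub_eq_zero.mp h
  · right; exact eq_neg_of_add_eq_zero_left h

theorem secRoot_int (H : Subgroup G) [Fintype H] {z : H} (hz : z ∈ Subgroup.center H)
    (hz2 : z ^ 2 = 1) (i : IrrCharacter H × IrrCharacter H) :
    ∃ r : ℤ, secRoot H z i = r := by
  unfold secRoot
  rcases cScalar_sq_cases i.1 hz hz2 with h1 | h1 <;>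
  rcases cScalar_sq_cases i.2 hz hz2 with h2 | h2
  · exact ⟨1, by rw [h1, h2]; simp⟩
  · exact ⟨-1, by rw [h1, h2]; simp⟩
  · exact ⟨-1, by rw [h1, h2]; simp⟩
  · exact ⟨1, by rw [h1, h2]; simp⟩

open scoped Classical in
/-- `4 m_{χψ}` is an integer for a subsection `(u, b)` with `u² = 1` and `b` of defect two. -/
theorem four_mul_secM_int (hM : IsPModular 2 M) (H : Subgroup G) [Fintype H]
    {b : Set (IrrCharacter H)} (hb : IsPBlock M b) (hdb : blockDefect 2 b = 2)
    (χ ψ : IrrCharacter G) {z : H} (hz : z ∈ Subgroup.center H) (hz2 : z ^ 2 = 1) :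
    ∃ n : ℤ, 4 * secM 2 (z : G) H b (χ : G → ℂ) (ψ : G → ℂ) = n := by
  haveI : Fact (Nat.Prime 2) := ⟨Nat.prime_two⟩
  have h1 := pow_mul_secM_eq hM H hb χ ψ hz 1
  rw [hdb, pow_one] at h1
  have hr : ∀ i : IrrCharacter H × IrrCharacter H, ∃ r : ℤ, secRoot H z i = r :=
    fun i => secRoot_int H hz hz2 i
  choose r hr using hr
  refine ⟨∑ i ∈ (Finset.univ.filter (fun ξ : IrrCharacter H => ξ ∈ b)) ×ˢ
      (Finset.univ.filter (fun ξ : IrrCharacter H => ξ ∈ b)), secCoef 2 H b χ ψ i * r i, ?_⟩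
  have h4 : (4 : ℂ) = ((2 : ℕ) : ℂ) ^ 2 := by norm_num
  rw [h4, h1]
  push_cast
  apply Finset.sum_congr rfl
  intro i _
  rw [pow_one, hr i]

open scoped Classical in
/-- **Rank one subsections.** -/
theorem exists_sign_of_rank_one_subsection (hM : IsPModular 2 M) {B : Set (IrrCharacter G)}
    (hB4 : (Finset.univ.filter (fun χ : IrrCharacter G => χ ∈ B)).card = 4)
    (hdB : blockDefect 2 B = 2)
    (hh : ∀ χ ∈ B, blockHeight 2 B (χ : G → ℂ) = 0)
    (u : G) (hu2 : u * u = 1) (H : Subgroup G) [Fintype H]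
    (hH : ∀ g : G, g ∈ H ↔ Commute u g)
    {b : Set (IrrCharacter H)} (hind : IsInducedBlock M H b B)
    (hdb : blockDefect 2 b = 2) (hlb : blockRank 2 b = 1)
    {χ₀ : IrrCharacter G} (hχ₀ : χ₀ ∈ B) :
    ∃ δ : IrrCharacter G → ℤ, (∀ χ, δ χ = 1 ∨ δ χ = -1) ∧
      ∀ χ ∈ B, ∀ s : H, ¬ 2 ∣ orderOf s →
        secPart u H b (χ : G → ℂ) s = (δ χ : ℂ) * secPart u H b (χ₀ : G → ℂ) s := by
  haveI : Fact (Nat.Prime 2) := ⟨Nat.prime_two⟩
  have hb : IsPBlock M b := hind.1
  have huH : u ∈ H := (hH u).mpr (Commute.refl u)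
  obtain ⟨z, hzu⟩ : ∃ z : H, (z : G) = u := ⟨⟨u, huH⟩, rfl⟩
  have hzc : z ∈ Subgroup.center H := by
    rw [Subgroup.mem_center_iff]
    intro h
    apply Subtype.ext
    simp only [Subgroup.coe_mul, hzu]
    exact ((hH h).mp h.2).eq.symm
  have hz2 : z ^ 2 = 1 := by
    apply Subtype.ext
    simp only [Subgroup.coe_pow, hzu, Subgroup.coe_one]
    rw [pow_two, hu2]
  have hz2' : z ^ 2 ^ 1 = 1 := by rw [pow_one]; exact hz2
  have hord : ∃ k : ℕ, orderOf u = 2 ^ k := by
    have h1 : orderOf u ∣ 2 ^ 1 := by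
      rw [pow_one]
      exact orderOf_dvd_of_pow_eq_one (by rw [pow_two, hu2])
    obtain ⟨k, _, hk⟩ := (Nat.dvd_prime_pow Nat.prime_two).mp h1
    exact ⟨k, hk⟩
  have hHz : ∀ g : G, g ∈ H ↔ Commute (z : G) g := by rw [hzu]; exact hH
  set S := Finset.univ.filter (fun χ : IrrCharacter G => χ ∈ B) with hS
  set X := Finset.univ.filter (fun s : H => ¬ 2 ∣ orderOf s) with hX
  have hmemS : ∀ χ, χ ∈ S ↔ χ ∈ B := by intro χ; simp [hS]
  have key := gram_sign S hB4 X (fun χ : IrrCharacter G => secPart u H b (χ : G → ℂ))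
    ((Nat.card H : ℝ)⁻¹) (by
      have : (0 : ℝ) < Nat.card H := by exact_mod_cast Nat.card_pos
      positivity)
    (fun χ ψ => secM 2 u H b (χ : G → ℂ) (ψ : G → ℂ))
    (by
      intro χ ψ
      unfold secM
      push_cast
      rfl)
    (by
      intro χ _ ψ _
      have := four_mul_secM_int hM H hb hdb χ ψ hzc hz2
      rwa [hzu] at this)
    (by
      intro χ hχ
      have := Cfsg.Agent.Lib.Helper75.secM_ne_zero_of_height_zero hM H hind (hdb.trans hdB.symm)
        ((hmemS χ).mp hχ) ((hmemS χ).mp hχ) (hh χ ((hmemS χ).mp hχ)) hzc hHz hz2'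
        (by rw [hzu]; exact hord)
      rwa [hzu] at this)
    (by
      have h1 := sum_secM_self hM u hord H hH hb
      rw [hlb] at h1
      rw [hS, Finset.sum_filter]
      rw [← Finset.sum_congr rfl (fun χ _ => ?_)] at h1
      · simpa using h1
      · split_ifs with hχ
        · rfl
        · exact (secM_eq_zero_of_not_mem_left hM u hord H hH hind χ hχ _).symm)
    (by
      intro χ _
      have h1 := sum_secM_mul_conj hM u hord H hH hb (χ : G → ℂ)
      rw [hS, Finset.sum_filter, ← h1]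
      apply Finset.sum_congr rfl
      intro ψ _
      split_ifs with hψ
      · rfl
      · rw [secM_eq_zero_of_not_mem_right hM u hord H hH hind _ ψ hψ, zero_mul])
  have hχ₀S : χ₀ ∈ S := (hmemS χ₀).mpr hχ₀
  have hex : ∀ χ : IrrCharacter G, ∃ ε : ℤ, (ε = 1 ∨ ε = -1) ∧ (χ ∈ B → ∀ s ∈ X,
      secPart u H b (χ : G → ℂ) s = (ε : ℂ) * secPart u H b (χ₀ : G → ℂ) s) := by
    intro χ
    by_cases hχ : χ ∈ B
    · obtain ⟨ε, hε, h⟩ := key χ ((hmemS χ).mpr hχ) χ₀ hχ₀S
      exact ⟨ε, hε, fun _ => h⟩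
    · exact ⟨1, Or.inl rfl, fun h => absurd h hχ⟩
  choose δ hδ1 hδ2 using hex
  refine ⟨δ, hδ1, ?_⟩
  intro χ hχ s hs
  exact hδ2 χ hχ s (by rw [hX]; exact Finset.mem_filter.mpr ⟨Finset.mem_univ _, hs⟩)

end Section

end Cfsg.Agent.Lib.Helper82
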