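import Mathlib
import Cfsg.Agent.Lib.Helper82.BlockQuot
import Cfsg.Agent.Lib.Helper82.SubsecExpand
import Cfsg.Agent.Lib.Helper82.BlockInflation

/-!
# The sum of the squares of the reduced degrees of a block

For a `p`-block `B` of defect `d` of a group of order `p^a m`, write `χ(1) = p^(a-d) u_χ` for
`χ ∈ B`.  Then `p^d` divides `∑_{χ ∈ B} u_χ²`: the class function `∑_{χ ∈ B} χ(1) χ` vanishes on the
`p`-singular elements, so its restriction to a Sylow `p`-subgroup is a multiple of the regular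
character.  For `p = 2`, `d = 2` and all heights zero this gives `4 ∣ k(B)`.
-/

set_option autoImplicit false
set_option linter.unusedSectionVars false
set_option linter.style.haveILetI false

namespace Cfsg.Agent.Lib.Helper82

open Cfsg Finset Cfsg.Agent.Lib.Helper16 Cfsg.Agent.Lib.Helper78 Cfsg.Agent.Lib.Helper79
open scoped ComplexConjugate

universe u

variable {G : Type u} [Group G] [Fintype G] {p : ℕ} [Fact p.Prime] {M : Ideal AlgInt}

open scoped Classical in
/-- `∑_{χ ∈ B} χ(1)² = |S| ∑_{χ ∈ B} χ(1) [χ_S, 1_S]` for a Sylow `p`-subgroup `S`. -/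
theorem sum_degree_sq_eq_card_sylow_mul (hM : IsPModular p M) {B : Set (IrrCharacter G)}
    (hB : IsPBlock M B) (S : Sylow p G) [Fintype (S : Subgroup G)] :
    ∑ χ ∈ Finset.univ.filter (fun χ : IrrCharacter G => χ ∈ B), (χ : G → ℂ) 1 ^ 2 =
      (Nat.card (S : Subgroup G) : ℂ) *
        ∑ χ ∈ Finset.univ.filter (fun χ : IrrCharacter G => χ ∈ B),
          (χ : G → ℂ) 1 * (resMult (S : Subgroup G) χ
            ⟨fun _ => (1 : ℂ), isIrrCharacter_one⟩ : ℂ) := by
  have hp : p.Prime := Fact.out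
  have hH0 : (Nat.card (S : Subgroup G) : ℂ) ≠ 0 := by exact_mod_cast Nat.card_pos.ne'
  -- the multiplicity as an average
  have hmult : ∀ χ : IrrCharacter G,
      (Nat.card (S : Subgroup G) : ℂ) * (resMult (S : Subgroup G) χ ⟨fun _ => (1 : ℂ), isIrrCharacter_one⟩ : ℂ) =
        ∑ h : (S : Subgroup G), (χ : G → ℂ) (h : G) := by
    intro χ
    rw [← resMult_spec]
    unfold classInner
    simp only [map_one, mul_one]
    rw [← mul_assoc, mul_inv_cancel₀ hH0, one_mul]
  -- the sum over the block vanishes at the nonidentity elements of `S`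
  have hvan : ∀ h : (S : Subgroup G), h ≠ 1 →
      ∑ χ ∈ Finset.univ.filter (fun χ : IrrCharacter G => χ ∈ B),
        (χ : G → ℂ) 1 * conj ((χ : G → ℂ) (h : G)) = 0 := by
    intro h hh
    have hsing : p ∣ orderOf (h : G) := by
      obtain ⟨k, hk⟩ := (S.isPGroup' ) h
      have hk' : orderOf (h : G) ∣ p ^ k := by
        apply orderOf_dvd_of_pow_eq_one
        have := congrArg (Subtype.val) hk
        simpa using this
      obtain ⟨j, _, hj⟩ := (Nat.dvd_prime_pow hp).mp hk'
      rcases Nat.eq_zero_or_pos j with rfl | hjpos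
      · exfalso
        rw [pow_zero, orderOf_eq_one_iff] at hj
        exact hh (Subtype.ext hj)
      · rw [hj]
        exact dvd_pow_self p hjpos.ne'
    have h0 := blockCoeff_eq_zero_of_pSingular hM hB (h : G) hsing
    unfold blockCoeff at h0
    rw [finsum_mem_eq_sum_filter_univ] at h0
    have hG0 : ((Nat.card G : ℂ))⁻¹ ≠ 0 := by
      apply inv_ne_zero
      exact_mod_cast Nat.card_pos.ne'
    exact (mul_eq_zero.mp h0).resolve_left hG0
  -- sum over `S`
  have hsum : ∑ h : (S : Subgroup G), ∑ χ ∈ Finset.univ.filter (fun χ : IrrCharacter G => χ ∈ B),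
      (χ : G → ℂ) 1 * conj ((χ : G → ℂ) (h : G)) =
      ∑ χ ∈ Finset.univ.filter (fun χ : IrrCharacter G => χ ∈ B), (χ : G → ℂ) 1 ^ 2 := by
    rw [Finset.sum_eq_single (1 : (S : Subgroup G))]
    · apply Finset.sum_congr rfl
      intro χ _
      rw [Subgroup.coe_one, ← IsCharacter.inv (IsIrrCharacter.isCharacter χ.2), inv_one, sq]
    · intro h _ hh
      exact hvan h hh
    · intro h
      exact absurd (Finset.mem_univ _) h
  rw [← hsum, Finset.sum_comm, Finset.mul_sum]
  apply Finset.sum_congr rfl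
  intro χ _
  rw [← Finset.mul_sum, ← map_sum, ← hmult χ, map_mul, Complex.conj_natCast, Complex.conj_natCast]
  ring

open scoped Classical in
/-- `p^d` divides the sum of the squares of the reduced degrees of a block of defect `d`. -/
theorem pow_blockDefect_dvd_sum_blockU_sq (hM : IsPModular p M) {B : Set (IrrCharacter G)}
    (hB : IsPBlock M B) :
    (p : ℤ) ^ blockDefect p B ∣
      ∑ χ ∈ Finset.univ.filter (fun χ : IrrCharacter G => χ ∈ B), blockU p B χ ^ 2 := by
  have hp : p.Prime := Fact.out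
  have hMp : M.IsPrime := isPModular_isPrime hM
  have hne : B.Nonempty := IsPBlock_nonempty hMp.ne_top hB
  obtain ⟨S⟩ : Nonempty (Sylow p G) := inferInstance
  haveI : Fintype (S : Subgroup G) := Fintype.ofFinite _
  have hS : Nat.card (S : Subgroup G) = p ^ (Nat.card G).factorization p :=
    Sylow.card_eq_multiplicity S
  have hkey := sum_degree_sq_eq_card_sylow_mul hM hB S
  set cd := coDefect p B with hcd
  set d := blockDefect p B with hd
  have hadd : cd + d = (Nat.card G).factorization p := coDefect_add_blockDefect hne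
  -- integer form
  have hZ : ∑ χ ∈ Finset.univ.filter (fun χ : IrrCharacter G => χ ∈ B),
      ((p : ℤ) ^ cd * blockU p B χ) ^ 2 =
      (p : ℤ) ^ (cd + d) * ∑ χ ∈ Finset.univ.filter (fun χ : IrrCharacter G => χ ∈ B),
        ((p : ℤ) ^ cd * blockU p B χ) * (resMult (S : Subgroup G) χ
            ⟨fun _ => (1 : ℂ), isIrrCharacter_one⟩ : ℤ) := by
    have hdeg : ∀ χ ∈ Finset.univ.filter (fun χ : IrrCharacter G => χ ∈ B),
        (χ : G → ℂ) 1 = (((p : ℤ) ^ cd * blockU p B χ : ℤ) : ℂ) := by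
      intro χ hχ
      simp only [Finset.mem_filter, Finset.mem_univ, true_and] at hχ
      rw [irr_apply_one_eq_charDegree, blockU_spec hχ]
      simp
    have h1 : ∑ χ ∈ Finset.univ.filter (fun χ : IrrCharacter G => χ ∈ B), (χ : G → ℂ) 1 ^ 2 =
        ((∑ χ ∈ Finset.univ.filter (fun χ : IrrCharacter G => χ ∈ B),
          ((p : ℤ) ^ cd * blockU p B χ) ^ 2 : ℤ) : ℂ) := by
      push_cast
      apply Finset.sum_congr rfl
      intro χ hχ
      rw [hdeg χ hχ]
      push_cast
      rfl
    have h2 : (Nat.card (S : Subgroup G) : ℂ) *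
        ∑ χ ∈ Finset.univ.filter (fun χ : IrrCharacter G => χ ∈ B),
          (χ : G → ℂ) 1 * (resMult (S : Subgroup G) χ
            ⟨fun _ => (1 : ℂ), isIrrCharacter_one⟩ : ℂ) =
        (((p : ℤ) ^ (cd + d) * ∑ χ ∈ Finset.univ.filter (fun χ : IrrCharacter G => χ ∈ B),
        ((p : ℤ) ^ cd * blockU p B χ) * (resMult (S : Subgroup G) χ
            ⟨fun _ => (1 : ℂ), isIrrCharacter_one⟩ : ℤ) : ℤ) : ℂ) := by
      rw [hS, hadd]
      push_cast
      congr 1
      apply Finset.sum_congr rfl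
      intro χ hχ
      rw [hdeg χ hχ]
      push_cast
      rfl
    rw [h1, h2] at hkey
    exact_mod_cast hkey
  have hpz : ((p : ℤ) ^ cd) ^ 2 ≠ 0 := pow_ne_zero _ (pow_ne_zero _ (by exact_mod_cast hp.ne_zero))
  refine ⟨∑ χ ∈ Finset.univ.filter (fun χ : IrrCharacter G => χ ∈ B),
        blockU p B χ * (resMult (S : Subgroup G) χ
            ⟨fun _ => (1 : ℂ), isIrrCharacter_one⟩ : ℤ), ?_⟩
  apply mul_left_cancel₀ hpz
  rw [Finset.mul_sum]
  have e1 : ∑ χ ∈ Finset.univ.filter (fun χ : IrrCharacter G => χ ∈ B),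
      ((p : ℤ) ^ cd) ^ 2 * blockU p B χ ^ 2 =
      ∑ χ ∈ Finset.univ.filter (fun χ : IrrCharacter G => χ ∈ B),
      ((p : ℤ) ^ cd * blockU p B χ) ^ 2 :=
    Finset.sum_congr rfl (fun χ _ => by ring)
  rw [e1, hZ, pow_add, Finset.mul_sum, Finset.mul_sum, Finset.mul_sum]
  apply Finset.sum_congr rfl
  intro χ _
  ring

open scoped Classical in
/-- A `2`-block of defect two all of whose characters have height zero has a number of irreducible
characters divisible by four. -/
theorem four_dvd_card_of_defect_two (hM : IsPModular 2 M) {B : Set (IrrCharacter G)}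
    (hB : IsPBlock M B) (hd : blockDefect 2 B = 2)
    (hh : ∀ χ ∈ B, blockHeight 2 B (χ : G → ℂ) = 0) :
    4 ∣ Nat.card B := by
  haveI : Fact (Nat.Prime 2) := ⟨Nat.prime_two⟩
  have h1 := pow_blockDefect_dvd_sum_blockU_sq hM hB
  rw [hd] at h1
  have h2 : ∀ χ ∈ Finset.univ.filter (fun χ : IrrCharacter G => χ ∈ B),
      blockU 2 B χ ^ 2 % 4 = 1 := by
    intro χ hχ
    simp only [Finset.mem_filter, Finset.mem_univ, true_and] at hχ
    have hodd := not_dvd_blockU (p := 2) Nat.prime_two hχ (hh χ hχ)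
    have h3 : blockU 2 B χ % 2 = 1 := by
      have : ¬ (2 : ℤ) ∣ blockU 2 B χ := by exact_mod_cast hodd
      omega
    have h4 : blockU 2 B χ % 4 = 1 ∨ blockU 2 B χ % 4 = 3 := by omega
    rcases h4 with h4 | h4
    · have : blockU 2 B χ ^ 2 % 4 = (blockU 2 B χ % 4) ^ 2 % 4 := by
        rw [sq, sq, Int.mul_emod]
      rw [this, h4]; norm_num
    · have : blockU 2 B χ ^ 2 % 4 = (blockU 2 B χ % 4) ^ 2 % 4 := by
        rw [sq, sq, Int.mul_emod]
      rw [this, h4]; norm_num
  have h5 : (∑ χ ∈ Finset.univ.filter (fun χ : IrrCharacter G => χ ∈ B), blockU 2 B χ ^ 2) % 4 =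
      ((Finset.univ.filter (fun χ : IrrCharacter G => χ ∈ B)).card : ℤ) % 4 := by
    rw [Finset.sum_int_mod, Finset.sum_congr rfl h2]
    simp
  have h6 : ((2 : ℕ) : ℤ) ^ 2 = 4 := by norm_num
  rw [h6] at h1
  have h7 : ((Finset.univ.filter (fun χ : IrrCharacter G => χ ∈ B)).card : ℤ) % 4 = 0 := by
    rw [← h5]
    exact Int.emod_eq_zero_of_dvd h1
  have h8 : Nat.card B = (Finset.univ.filter (fun χ : IrrCharacter G => χ ∈ B)).card := by
    rw [Nat.card_eq_fintype_card, Fintype.card_subtype]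
  rw [h8]
  omega

end Cfsg.Agent.Lib.Helper82
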