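import Mathlib

/-!
# The automizer of a Klein four subgroup

Let `P` be a subgroup of order four and exponent two of the group `G`, and `T` a subgroup of
`N_G(P)`.  Then `|T : C_T(P)|` divides `6`; and if it equals `3` then `T` acts transitively on the
nonidentity elements of `P`.
-/

set_option autoImplicit false
set_option linter.unusedSectionVars false
set_option linter.style.haveILetI false

namespace Cfsg.Agent.Lib.Helper82

universe u

theorem perm_fin_three_transitive : ∀ σ : Equiv.Perm (Fin 3), σ ^ 3 = 1 → σ ≠ 1 →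
    ∀ i j : Fin 3, ∃ k : Fin 3, (σ ^ (k : ℕ)) i = j := by decide

theorem perm_card_three_transitive {α : Type*} [Fintype α] (hα : Fintype.card α = 3)
    (σ : Equiv.Perm α) (h3 : σ ^ 3 = 1) (h1 : σ ≠ 1) (a b : α) : ∃ k : ℕ, (σ ^ k) a = b := by
  classical
  let e : α ≃ Fin 3 := Fintype.equivFinOfCardEq hα
  have hpow : ∀ k : ℕ, (e.permCongr σ) ^ k = e.permCongr (σ ^ k) := by
    intro k
    induction k with
    | zero => ext x; simp
    | succ k ih =>
      rw [pow_succ, pow_succ, ih]
      ext x
      simp [Equiv.permCongr_apply]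
  have h3' : (e.permCongr σ) ^ 3 = 1 := by
    rw [hpow, h3]
    ext x
    simp
  have h1' : e.permCongr σ ≠ 1 := by
    intro h
    apply h1
    ext x
    have := congrArg (fun τ : Equiv.Perm (Fin 3) => τ (e x)) h
    simp only [Equiv.permCongr_apply, Equiv.symm_apply_apply, Equiv.Perm.coe_one, id_eq] at this
    simpa using e.injective this
  obtain ⟨k, hk⟩ := perm_fin_three_transitive (e.permCongr σ) h3' h1' (e a) (e b)
  refine ⟨k, ?_⟩
  rw [hpow] at hk
  simp only [Equiv.permCongr_apply, Equiv.symm_apply_apply] at hk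
  exact e.injective hk

section Klein

variable {G : Type u} [Group G] (P T : Subgroup G)

/-- The nonidentity elements of `P`. -/
abbrev NonId (P : Subgroup G) : Type u := {u : G // u ∈ P ∧ u ≠ 1}

/-- The conjugation action of `T ≤ N_G(P)` on the nonidentity elements of `P`. -/
def conjPermHom (hTN : T ≤ Subgroup.normalizer (P : Set G)) : T →* Equiv.Perm (NonId P) where
  toFun t :=
    { toFun := fun u => ⟨(t : G) * u.1 * (t : G)⁻¹,
        (Subgroup.mem_normalizer_iff.mp (hTN t.2) u.1).mp u.2.1, by
          intro h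
          apply u.2.2
          have : u.1 = (t : G)⁻¹ * ((t : G) * u.1 * (t : G)⁻¹) * (t : G) := by group
          rw [this, h]; group⟩
      invFun := fun u => ⟨(t : G)⁻¹ * u.1 * (t : G),
        (Subgroup.mem_normalizer_iff.mp (hTN t.2) _).mpr (by
          have : (t : G) * ((t : G)⁻¹ * u.1 * (t : G)) * (t : G)⁻¹ = u.1 := by group
          rw [this]; exact u.2.1), by
          intro h
          apply u.2.2
          have : u.1 = (t : G) * ((t : G)⁻¹ * u.1 * (t : G)) * (t : G)⁻¹ := by group
          rw [this, h]; group⟩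
      left_inv := fun u => by
        apply Subtype.ext
        show (t : G)⁻¹ * ((t : G) * u.1 * (t : G)⁻¹) * (t : G) = u.1
        group
      right_inv := fun u => by
        apply Subtype.ext
        show (t : G) * ((t : G)⁻¹ * u.1 * (t : G)) * (t : G)⁻¹ = u.1
        group }
  map_one' := by
    ext u
    show ((1 : T) : G) * u.1 * ((1 : T) : G)⁻¹ = u.1
    simp
  map_mul' s t := by
    ext u
    show ((s * t : T) : G) * u.1 * ((s * t : T) : G)⁻¹ = (s : G) * ((t : G) * u.1 * (t : G)⁻¹) * (s : G)⁻¹
    rw [Subgroup.coe_mul]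
    group

theorem conjPermHom_apply (hTN : T ≤ Subgroup.normalizer (P : Set G)) (t : T) (u : NonId P) :
    ((conjPermHom P T hTN t u : NonId P) : G) = (t : G) * u.1 * (t : G)⁻¹ := rfl

theorem conjPermHom_ker (hTN : T ≤ Subgroup.normalizer (P : Set G)) :
    (conjPermHom P T hTN).ker = (Subgroup.centralizer (P : Set G)).subgroupOf T := by
  ext t
  rw [MonoidHom.mem_ker, Subgroup.mem_subgroupOf, Subgroup.mem_centralizer_iff]
  constructor
  · intro h u hu
    by_cases hu1 : u = 1
    · rw [hu1]; simp
    · have := congrArg (fun σ : Equiv.Perm (NonId P) => ((σ ⟨u, hu, hu1⟩ : NonId P) : G)) h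
      simp only [conjPermHom_apply, Equiv.Perm.coe_one, id_eq] at this
      calc u * (t : G) = ((t : G) * u * (t : G)⁻¹) * (t : G) := by rw [this]
        _ = (t : G) * u := by group
  · intro h
    ext u
    rw [conjPermHom_apply]
    have := h u.1 u.2.1
    simp only [Equiv.Perm.coe_one, id_eq]
    rw [← this]
    group

variable [Finite G]

theorem card_nonId (hP4 : Nat.card P = 4) : Nat.card (NonId P) = 3 := by
  classical
  haveI : Fintype G := Fintype.ofFinite G
  have h1 : Nat.card (NonId P) = Nat.card {u : P // u ≠ 1} := by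
    apply Nat.card_congr
    exact
      { toFun := fun u => ⟨⟨u.1, u.2.1⟩, fun h => u.2.2 (congrArg Subtype.val h)⟩
        invFun := fun u => ⟨u.1.1, u.1.2, fun h => u.2 (Subtype.ext h)⟩
        left_inv := fun u => rfl
        right_inv := fun u => rfl }
  rw [h1]
  haveI : Fintype P := Fintype.ofFinite P
  rw [Nat.card_eq_fintype_card, Fintype.card_subtype_compl, Fintype.card_subtype_eq,
    ← Nat.card_eq_fintype_card, hP4]

/-- `|T : C_T(P)|` divides `6`. -/
theorem relIndex_centralizer_dvd_six (hP4 : Nat.card P = 4)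
    (hTN : T ≤ Subgroup.normalizer (P : Set G)) :
    (Subgroup.centralizer (P : Set G)).relIndex T ∣ 6 := by
  classical
  haveI : Fintype G := Fintype.ofFinite G
  haveI : Fintype (NonId P) := Fintype.ofFinite _
  unfold Subgroup.relIndex
  rw [← conjPermHom_ker P T hTN, Subgroup.index_ker]
  have h1 : Nat.card (conjPermHom P T hTN).range ∣ Nat.card (Equiv.Perm (NonId P)) :=
    Subgroup.card_subgroup_dvd_card _
  have h2 : Nat.card (Equiv.Perm (NonId P)) = 6 := by
    rw [Nat.card_eq_fintype_card, Fintype.card_perm, ← Nat.card_eq_fintype_card, card_nonId P hP4]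
    rfl
  rwa [h2] at h1

/-- If `|T : C_T(P)| = 3` then `T` is transitive on the nonidentity elements of `P`. -/
theorem exists_conj_eq_of_relIndex_eq_three (hP4 : Nat.card P = 4)
    (hTN : T ≤ Subgroup.normalizer (P : Set G))
    (h3 : (Subgroup.centralizer (P : Set G)).relIndex T = 3) {u v : G} (hu : u ∈ P) (hu1 : u ≠ 1)
    (hv : v ∈ P) (hv1 : v ≠ 1) : ∃ t ∈ T, t * u * t⁻¹ = v := by
  classical
  haveI : Fintype G := Fintype.ofFinite G
  haveI : Fintype (NonId P) := Fintype.ofFinite _
  have hcard : Fintype.card (NonId P) = 3 := by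
    rw [← Nat.card_eq_fintype_card, card_nonId P hP4]
  set φ := conjPermHom P T hTN with hφ
  have hker : φ.ker.index = 3 := by
    rw [conjPermHom_ker]
    exact h3
  -- an element outside the kernel
  obtain ⟨t, ht⟩ : ∃ t : T, t ∉ φ.ker := by
    by_contra hcon
    push Not at hcon
    have : φ.ker = ⊤ := by
      rw [eq_top_iff]
      intro t _
      exact hcon t
    rw [this, Subgroup.index_top] at hker
    omega
  have ht3 : (φ t) ^ 3 = 1 := by
    rw [← map_pow, ← MonoidHom.mem_ker]
    have := Subgroup.pow_index_mem φ.ker t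
    rwa [hker] at this
  have ht1 : φ t ≠ 1 := fun h => ht (MonoidHom.mem_ker.mpr h)
  obtain ⟨k, hk⟩ := perm_card_three_transitive hcard (φ t) ht3 ht1 ⟨u, hu, hu1⟩ ⟨v, hv, hv1⟩
  refine ⟨((t ^ k : T) : G), (t ^ k).2, ?_⟩
  have hk' : φ (t ^ k) ⟨u, hu, hu1⟩ = ⟨v, hv, hv1⟩ := by
    rw [map_pow]
    exact hk
  have h5 := congrArg (fun w : NonId P => (w : G)) hk'
  simp only [hφ, conjPermHom_apply] at h5
  exact h5

end Klein

end Cfsg.Agent.Lib.Helper82
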