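import Mathlib
import Cfsg.Prelude
import Cfsg.Agent.Lib.Helper78.WBORank
import Cfsg.Agent.Lib.Helper77.Deflation
import Cfsg.Agent.S0941

/-!
# The `p`-regular rank of a block and of its quotient modulo a normal `p`-subgroup (helper82)

For a normal `p`-subgroup `Q` of `G` whose centralizer has `p`-power index (so that `p`-regular
elements centralize `Q` and `p`-regular elements of `G ⧸ Q` have unique `p`-regular lifts),
`blockRank_eq_blockRank_quotient`: a block `B` of `G` has the same `p`-regular rank as the set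
of the irreducible characters of `G ⧸ Q` inflating into `B`.
-/

set_option autoImplicit false
set_option linter.unusedSectionVars false
set_option linter.style.haveILetI false

namespace Cfsg.Agent.Lib.Helper82

open Cfsg Cfsg.Agent.Lib.Helper16 Cfsg.Agent.Lib.Helper78 Cfsg.Agent.Lib.Helper77
open scoped ComplexConjugate

universe u

section RankQuotient

variable {G : Type u} [Group G] [Fintype G] (p : ℕ) [hp : Fact p.Prime] (Q : Subgroup G) [Q.Normal]
  [Fintype (G ⧸ Q)]

/-- A `p`-regular element of a quotient by a normal `p`-subgroup whose centralizer has `p`-power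
index has a unique `p`-regular lift. -/
theorem pRegular_lift_unique (hQ : IsPGroup p Q)
    (hC : ∃ k : ℕ, (Subgroup.centralizer (Q : Set G)).index = p ^ k) {x x' : G}
    (hx : ¬ p ∣ orderOf x) (hx' : ¬ p ∣ orderOf x') (h : (x : G ⧸ Q) = (x' : G ⧸ Q)) :
    x = x' := by
  have hxC := Cfsg.Agent.S0941.mem_centralizer_of_pRegular p Q hC x hx
  set u := x⁻¹ * x' with hu
  have huQ : u ∈ Q := QuotientGroup.eq.mp h
  have hcomm : Commute x u := (hxC u huQ).symm
  have hx'u : x' = x * u := by rw [hu]; group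
  set m := orderOf x with hm
  have h1 : x' ^ m = u ^ m := by
    rw [hx'u, hcomm.mul_pow, hm, pow_orderOf_eq_one, one_mul]
  -- `u ^ m` is both `p`-regular and a `p`-element
  obtain ⟨j, hj⟩ := hQ ⟨u, huQ⟩
  have hj' : u ^ (p ^ j) = 1 := by
    have := congrArg Subtype.val hj
    simpa using this
  have hum : u ^ m = 1 := by
    have h2 : orderOf (u ^ m) ∣ orderOf x' := by
      rw [← h1]; exact orderOf_pow_dvd m
    have h3 : orderOf (u ^ m) ∣ p ^ j := by
      apply orderOf_dvd_of_pow_eq_one
      rw [← pow_mul, mul_comm, pow_mul, hj', one_pow]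
    have hcop : Nat.Coprime (p ^ j) (orderOf x') :=
      Nat.Coprime.pow_left _ ((Nat.Prime.coprime_iff_not_dvd hp.out).mpr hx')
    have := Nat.eq_one_of_dvd_coprimes hcop h3 h2
    exact orderOf_eq_one_iff.mp this
  have hu1 : u = 1 := by
    have h2 : orderOf u ∣ m := orderOf_dvd_of_pow_eq_one hum
    have h3 : orderOf u ∣ p ^ j := orderOf_dvd_of_pow_eq_one hj'
    have hcop : Nat.Coprime (p ^ j) m :=
      Nat.Coprime.pow_left _ ((Nat.Prime.coprime_iff_not_dvd hp.out).mpr hx)
    exact orderOf_eq_one_iff.mp (Nat.eq_one_of_dvd_coprimes hcop h3 h2)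
  rw [hx'u, hu1, mul_one]

theorem not_dvd_orderOf_mk {x : G} (hx : ¬ p ∣ orderOf x) : ¬ p ∣ orderOf (x : G ⧸ Q) := by
  intro h
  apply hx
  have := orderOf_map_dvd (QuotientGroup.mk' Q) x
  exact h.trans this

open Classical in
/-- The lift of functions on `G ⧸ Q` to functions on `G` supported on `p`-regular elements. -/
noncomputable def regLift : (G ⧸ Q → ℂ) →ₗ[ℂ] (G → ℂ) where
  toFun f g := if p ∣ orderOf g then 0 else f (g : G ⧸ Q)
  map_add' f f' := by
    funext g
    simp only [Pi.add_apply]
    split_ifs <;> simp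
  map_smul' c f := by
    funext g
    simp only [Pi.smul_apply, RingHom.id_apply, smul_eq_mul]
    split_ifs <;> simp

theorem regLift_apply_of_regular (f : G ⧸ Q → ℂ) {g : G} (hg : ¬ p ∣ orderOf g) :
    regLift p Q f g = f (g : G ⧸ Q) := by
  simp [regLift, hg]

theorem regLift_apply_of_singular (f : G ⧸ Q → ℂ) {g : G} (hg : p ∣ orderOf g) :
    regLift p Q f g = 0 := by
  simp [regLift, hg]

theorem regLift_irr (ψ : IrrCharacter (G ⧸ Q)) :
    regLift p Q (ψ : G ⧸ Q → ℂ) = pRegularPart p (inflate Q ψ : G → ℂ) := by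
  funext g
  by_cases hg : p ∣ orderOf g
  · rw [regLift_apply_of_singular p Q _ hg, pRegularPart_apply_of_singular p _ hg]
  · rw [regLift_apply_of_regular p Q _ hg, pRegularPart_apply_of_regular p _ hg, inflate_apply]

theorem regLift_pRegularPart (f : G ⧸ Q → ℂ) :
    regLift p Q (pRegularPart p f) = regLift p Q f := by
  funext g
  by_cases hg : p ∣ orderOf g
  · rw [regLift_apply_of_singular p Q _ hg, regLift_apply_of_singular p Q _ hg]
  · rw [regLift_apply_of_regular p Q _ hg, regLift_apply_of_regular p Q _ hg,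
      pRegularPart_apply_of_regular p _ (not_dvd_orderOf_mk p Q hg)]

open Classical in
/-- Descent of a function on `G` to `G ⧸ Q` along `p`-regular lifts. -/
noncomputable def regDescend (χ : G → ℂ) : G ⧸ Q → ℂ := fun y =>
  if h : p ∣ orderOf y then 0 else χ (Classical.choose (Cfsg.Agent.S0941.exists_pRegular_lift p Q y h))

theorem regDescend_mk (hQ : IsPGroup p Q)
    (hC : ∃ k : ℕ, (Subgroup.centralizer (Q : Set G)).index = p ^ k) (χ : G → ℂ) {x : G}
    (hx : ¬ p ∣ orderOf x) : regDescend p Q χ (x : G ⧸ Q) = χ x := by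
  have hxb := not_dvd_orderOf_mk p Q hx
  unfold regDescend
  rw [dif_neg hxb]
  have hspec := Classical.choose_spec (Cfsg.Agent.S0941.exists_pRegular_lift p Q (x : G ⧸ Q) hxb)
  rw [pRegular_lift_unique p Q hQ hC hspec.1 hx hspec.2]

theorem regDescend_of_singular (χ : G → ℂ) {y : G ⧸ Q} (hy : p ∣ orderOf y) :
    regDescend p Q χ y = 0 := by
  unfold regDescend
  rw [dif_pos hy]

theorem isClassFunction_regDescend (hQ : IsPGroup p Q)
    (hC : ∃ k : ℕ, (Subgroup.centralizer (Q : Set G)).index = p ^ k) {χ : G → ℂ}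
    (hχ : IsClassFunction G χ) : IsClassFunction (G ⧸ Q) (regDescend p Q χ) := by
  intro y z
  have hord : orderOf (z * y * z⁻¹) = orderOf y := by
    have hsc : SemiconjBy z y (z * y * z⁻¹) := by
      unfold SemiconjBy; group
    exact (hsc.orderOf_eq z).symm
  by_cases hy : p ∣ orderOf y
  · rw [regDescend_of_singular p Q χ hy, regDescend_of_singular p Q χ (by rw [hord]; exact hy)]
  · obtain ⟨x, hx, rfl⟩ := Cfsg.Agent.S0941.exists_pRegular_lift p Q y hy
    obtain ⟨w, rfl⟩ := QuotientGroup.mk_surjective z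
    have hconj : ¬ p ∣ orderOf (w * x * w⁻¹) := by
      have hsc : SemiconjBy w x (w * x * w⁻¹) := by
        unfold SemiconjBy; group
      rw [← hsc.orderOf_eq w]; exact hx
    have e : ((w : G ⧸ Q) * (x : G ⧸ Q) * (w : G ⧸ Q)⁻¹) = ((w * x * w⁻¹ : G) : G ⧸ Q) := by
      simp
    rw [e, regDescend_mk p Q hQ hC χ hconj, regDescend_mk p Q hQ hC χ hx, hχ x w]

theorem regLift_regDescend (hQ : IsPGroup p Q)
    (hC : ∃ k : ℕ, (Subgroup.centralizer (Q : Set G)).index = p ^ k) (χ : G → ℂ) :
    regLift p Q (regDescend p Q χ) = pRegularPart p χ := by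
  funext g
  by_cases hg : p ∣ orderOf g
  · rw [regLift_apply_of_singular p Q _ hg, pRegularPart_apply_of_singular p _ hg]
  · rw [regLift_apply_of_regular p Q _ hg, pRegularPart_apply_of_regular p _ hg,
      regDescend_mk p Q hQ hC χ hg]

open Classical in
theorem blockRegProj_pRegularPart_of_not_mem {M : Ideal AlgInt}
    (hM : IsPModular p M) {B : Set (IrrCharacter G)} (hB : IsPBlock M B)
    {ψ : IrrCharacter G} (hψ : ψ ∉ B) :
    blockRegProj p B (pRegularPart p (ψ : G → ℂ)) = 0 := by
  haveI := isPModular_isPrime hM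
  funext x
  rw [blockRegProj_apply]
  rw [Finset.sum_eq_zero, mul_zero]
  · rfl
  intro φ hφ
  rw [Finset.mem_filter] at hφ
  have hns : ¬ SameBlock M (ψ : G → ℂ) (φ : G → ℂ) := by
    intro h
    apply hψ
    have := sameBlock_of_mem hB hφ.2 hφ.2
    rw [IsPBlock_eq_blockOf hB hφ.2]
    exact sameBlock_symm h
  have h0 := sum_pRegular_mul_conj_eq_zero hM ψ φ hns
  have h1 : ∑ y : G, pRegularPart p (ψ : G → ℂ) y * conj (pRegularPart p (φ : G → ℂ) y) =
      ∑ x ∈ Finset.univ.filter (fun x : G => ¬ p ∣ orderOf x),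
        (ψ : G → ℂ) x * conj ((φ : G → ℂ) x) := by
    rw [Finset.sum_filter]
    apply Finset.sum_congr rfl
    intro y _
    split_ifs with hy
    · rw [pRegularPart_apply_of_singular p _ hy, zero_mul]
    · rw [pRegularPart_apply_of_regular p _ hy, pRegularPart_apply_of_regular p _ hy]
  rw [h1, h0, zero_mul]

/-- For `χ` in the block `B`, the `p`-regular part of `χ` is a combination of the `p`-regular
parts of the inflated characters lying in `B`. -/
theorem pRegularPart_mem_span_inflate {M : Ideal AlgInt} (hM : IsPModular p M)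
    (hQ : IsPGroup p Q) (hC : ∃ k : ℕ, (Subgroup.centralizer (Q : Set G)).index = p ^ k)
    {B : Set (IrrCharacter G)} (hB : IsPBlock M B) {χ : IrrCharacter G} (hχ : χ ∈ B) :
    pRegularPart p (χ : G → ℂ) ∈ Submodule.span ℂ
      ((fun ψ : IrrCharacter (G ⧸ Q) => pRegularPart p (inflate Q ψ : G → ℂ)) ''
        {ψ | inflate Q ψ ∈ B}) := by
  classical
  have hcf := isClassFunction_regDescend p Q hQ hC (isClassFunction_irr χ)
  have h1 := classFunction_eq_sum_irr hcf
  have h2 := congrArg (regLift p Q) h1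
  rw [regLift_regDescend p Q hQ hC, map_sum] at h2
  simp only [map_smul, regLift_irr] at h2
  have h3 := congrArg (blockRegProj p B) h2
  rw [blockRegProj_pRegularPart hM hB hχ, map_sum] at h3
  rw [h3]
  apply Submodule.sum_mem
  intro ψ _
  rw [map_smul]
  apply Submodule.smul_mem
  by_cases hψ : inflate Q ψ ∈ B
  · rw [blockRegProj_pRegularPart hM hB hψ]
    exact Submodule.subset_span ⟨ψ, hψ, rfl⟩
  · rw [blockRegProj_pRegularPart_of_not_mem p hM hB hψ]
    exact Submodule.zero_mem _

/-- `regLift` is injective on functions supported on the `p`-regular elements. -/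
theorem eq_zero_of_regLift_eq_zero {f : G ⧸ Q → ℂ} (hf : ∀ y : G ⧸ Q, p ∣ orderOf y → f y = 0)
    (h : regLift p Q f = 0) : f = 0 := by
  funext y
  by_cases hy : p ∣ orderOf y
  · exact hf y hy
  · obtain ⟨x, hx, rfl⟩ := Cfsg.Agent.S0941.exists_pRegular_lift p Q y hy
    have := congrFun h x
    rwa [regLift_apply_of_regular p Q _ hx] at this

/-- **Rank of a block and of its quotient block**: for a normal `p`-subgroup `Q` whose
centralizer has `p`-power index, a block `B` of `G` and the set of irreducible characters of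
`G ⧸ Q` inflating into `B` have the same `p`-regular rank. -/
theorem blockRank_eq_blockRank_quotient {M : Ideal AlgInt} (hM : IsPModular p M)
    (hQ : IsPGroup p Q) (hC : ∃ k : ℕ, (Subgroup.centralizer (Q : Set G)).index = p ^ k)
    {B : Set (IrrCharacter G)} (hB : IsPBlock M B) :
    blockRank p B = blockRank p {ψ : IrrCharacter (G ⧸ Q) | inflate Q ψ ∈ B} := by
  classical
  set Bbar : Set (IrrCharacter (G ⧸ Q)) := {ψ | inflate Q ψ ∈ B} with hBbar
  set Sbar : Submodule ℂ (G ⧸ Q → ℂ) := Submodule.span ℂ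
    ((fun ψ : IrrCharacter (G ⧸ Q) => pRegularPart p (ψ : G ⧸ Q → ℂ)) '' Bbar) with hSbar
  set S : Submodule ℂ (G → ℂ) := Submodule.span ℂ
    ((fun χ : IrrCharacter G => pRegularPart p (χ : G → ℂ)) '' B) with hS
  -- the image of `Sbar` under `regLift` is `S`
  have hmap : Sbar.map (regLift p Q) = S := by
    rw [hSbar, Submodule.map_span]
    apply le_antisymm
    · apply Submodule.span_le.mpr
      rintro _ ⟨_, ⟨ψ, hψ, rfl⟩, rfl⟩
      rw [regLift_pRegularPart, regLift_irr]
      exact Submodule.subset_span ⟨inflate Q ψ, hψ, rfl⟩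
    · apply Submodule.span_le.mpr
      rintro _ ⟨χ, hχ, rfl⟩
      have h1 := pRegularPart_mem_span_inflate p Q hM hQ hC hB hχ
      refine Submodule.span_mono ?_ h1
      rintro _ ⟨ψ, hψ, rfl⟩
      refine ⟨pRegularPart p (ψ : G ⧸ Q → ℂ), ⟨ψ, hψ, rfl⟩, ?_⟩
      rw [regLift_pRegularPart, regLift_irr]
  -- elements of `Sbar` are supported on the `p`-regular elements
  have hsupp : ∀ f ∈ Sbar, ∀ y : G ⧸ Q, p ∣ orderOf y → f y = 0 := by
    intro f hf y hy
    induction hf using Submodule.span_induction with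
    | mem f hf =>
      obtain ⟨ψ, _, rfl⟩ := hf
      exact pRegularPart_apply_of_singular p _ hy
    | zero => rfl
    | add f g _ _ hf hg => rw [Pi.add_apply, hf, hg, add_zero]
    | smul c f _ hf => rw [Pi.smul_apply, hf, smul_zero]
  have hinj : Function.Injective ((regLift p Q).domRestrict Sbar) := by
    rw [← LinearMap.ker_eq_bot, LinearMap.ker_eq_bot']
    intro f hf
    apply Subtype.ext
    exact eq_zero_of_regLift_eq_zero p Q (hsupp f.1 f.2) hf
  have hrange : LinearMap.range ((regLift p Q).domRestrict Sbar) = S := by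
    rw [LinearMap.range_domRestrict, hmap]
  unfold blockRank
  rw [← hS, ← hSbar, ← hrange]
  exact LinearMap.finrank_range_of_inj hinj

end RankQuotient

end Cfsg.Agent.Lib.Helper82
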