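import Mathlib
import Cfsg.Agent.Lib.Helper82.RankQuotient
import Cfsg.Agent.Lib.Helper82.BlockInflation
import Cfsg.Agent.Lib.Helper82.BlockQuot
import Cfsg.Agent.Lib.Helper78.BlockRankDefect
import Cfsg.Agent.Lib.Helper79.DefectOne
import Cfsg.Agent.S0941

/-!
# Blocks with a central `2`-subgroup of small index in the defect group

Let `Q` be a central `2`-subgroup of order `2^m` of the finite group `H` and `b` a `2`-block of `H`
of defect at most `m + 1`.  Then `b` has `2`-regular rank one: `b` dominates a single block of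
`H ⧸ Q`, of defect at most one.
-/

set_option autoImplicit false
set_option linter.unusedSectionVars false
set_option linter.style.haveILetI false

namespace Cfsg.Agent.Lib.Helper82

open Cfsg Cfsg.Agent.Lib.Helper16 Cfsg.Agent.Lib.Helper78 Cfsg.Agent.Lib.Helper77
  Cfsg.Agent.Lib.Helper79
open scoped ComplexConjugate

universe u

variable {H : Type u} [Group H] [Fintype H] {M : Ideal AlgInt}

theorem inflate_coe' (N : Subgroup H) [N.Normal]
    (ψ : IrrCharacter (H ⧸ N)) :
    (inflate N ψ : H → ℂ) = (ψ : H ⧸ N → ℂ) ∘ (QuotientGroup.mk : H → H ⧸ N) := rfl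

/-- A `2`-block of defect at most one has `2`-regular rank one. -/
theorem blockRank_eq_one_of_blockDefect_le_one (hM : IsPModular 2 M) {b : Set (IrrCharacter H)}
    (hb : IsPBlock M b) (hd : blockDefect 2 b ≤ 1) : blockRank 2 b = 1 := by
  haveI : Fact (Nat.Prime 2) := ⟨Nat.prime_two⟩
  rcases Nat.le_one_iff_eq_zero_or_eq_one.mp hd with h0 | h1
  · exact (((blockRank_card_defect_zero hM hb).2.1).mp h0).2
  · obtain ⟨χ, ψ, _, hbeq, hreg, _⟩ := two_block_defect_one hM hb h1
    have himg : (fun χ : IrrCharacter H => pRegularPart 2 (χ : H → ℂ)) '' b =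
        {pRegularPart 2 (χ : H → ℂ)} := by
      rw [hbeq, Set.image_pair]
      have : pRegularPart 2 (ψ : H → ℂ) = pRegularPart 2 (χ : H → ℂ) := by
        funext g
        by_cases hg : 2 ∣ orderOf g
        · rw [pRegularPart_apply_of_singular 2 _ hg, pRegularPart_apply_of_singular 2 _ hg]
        · rw [pRegularPart_apply_of_regular 2 _ hg, pRegularPart_apply_of_regular 2 _ hg,
            hreg g hg]
      rw [this, Set.pair_eq_singleton]
    unfold blockRank
    rw [himg]
    exact finrank_span_singleton (pRegularPart_ne_zero 2 χ)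

/-- A `2`-block `b` with a central `2`-subgroup `Q` of order `2^m` and defect at most `m + 1` has
`2`-regular rank one. -/
theorem blockRank_eq_one_of_central_two (hM : IsPModular 2 M) (Q : Subgroup H)
    (hQZ : Q ≤ Subgroup.center H) {m : ℕ} (hQ : Nat.card Q = 2 ^ m)
    {b : Set (IrrCharacter H)} (hb : IsPBlock M b) (hd : blockDefect 2 b ≤ m + 1) :
    blockRank 2 b = 1 := by
  classical
  haveI : Fact (Nat.Prime 2) := ⟨Nat.prime_two⟩
  have hp : Nat.Prime 2 := Nat.prime_two
  haveI hMp := isPModular_isPrime hM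
  have hMtop : M ≠ ⊤ := hMp.ne_top
  haveI hQn : Q.Normal := by
    constructor
    intro n hn g
    have := Subgroup.mem_center_iff.mp (hQZ hn) g
    have e : g * n * g⁻¹ = n := by rw [this, mul_inv_cancel_right]
    rw [e]; exact hn
  have hQp : IsPGroup 2 Q := IsPGroup.of_card hQ
  have hcent : Subgroup.centralizer (Q : Set H) = ⊤ := by
    rw [eq_top_iff]
    intro g _
    rw [Subgroup.mem_centralizer_iff]
    intro n hn
    exact (Subgroup.mem_center_iff.mp (hQZ hn) g).symm
  have hC : ∃ k : ℕ, (Subgroup.centralizer (Q : Set H)).index = 2 ^ k :=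
    ⟨0, by rw [hcent, Subgroup.index_top, pow_zero]⟩
  haveI : Fintype (H ⧸ Q) := Fintype.ofFinite _
  haveI : Fintype Q := Fintype.ofFinite _
  rw [blockRank_eq_blockRank_quotient 2 Q hM hQp hC hb]
  obtain ⟨θ, hθB, hθ⟩ := exists_mem_block_forall_mem_eq Q hM hQp hb
  obtain ⟨ψ₀, hψ₀B⟩ : ∃ ψ₀ : IrrCharacter (H ⧸ Q), inflate Q ψ₀ ∈ b :=
    ⟨deflate Q θ hθ, by rw [inflate_deflate]; exact hθB⟩
  have hS0941 := (Cfsg.Agent.S0941.result 2 M hM Q hQp hC).1
  -- the set is a block
  have hset : {ψ : IrrCharacter (H ⧸ Q) | inflate Q ψ ∈ b} = blockOf M (ψ₀ : H ⧸ Q → ℂ) := by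
    ext ψ
    rw [Set.mem_ofPred_eq]
    constructor
    · intro hψ
      have h0 := sameBlock_of_mem hb hψ₀B hψ
      rw [inflate_coe', inflate_coe'] at h0
      exact (hS0941 ψ₀ ψ).mpr h0
    · intro hψ
      have h0 : SameBlock M (ψ₀ : H ⧸ Q → ℂ) (ψ : H ⧸ Q → ℂ) := hψ
      have h1 := (hS0941 ψ₀ ψ).mp h0
      rw [← inflate_coe', ← inflate_coe'] at h1
      rw [IsPBlock_eq_blockOf hb hψ₀B]
      exact h1
  rw [hset]
  apply blockRank_eq_one_of_blockDefect_le_one hM (isPBlock_blockOf ψ₀)
  -- the defect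
  have hne : (blockOf M (ψ₀ : H ⧸ Q → ℂ)).Nonempty := ⟨ψ₀, self_mem_blockOf hMtop ψ₀⟩
  have hadd := card_factorization_eq_sInf_add_blockDefect (p := 2) hne
  have hadd' := card_factorization_eq_sInf_add_blockDefect (p := 2) (⟨inflate Q ψ₀, hψ₀B⟩ : b.Nonempty)
  -- the order of the quotient
  have hmul : Nat.card Q * Q.index = Nat.card H := Subgroup.card_mul_index Q
  have hidx : Nat.card (H ⧸ Q) = Q.index := (Subgroup.index_eq_card Q).symm
  have hfac : (Nat.card H).factorization 2 = m + (Nat.card (H ⧸ Q)).factorization 2 := by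
    rw [← hmul, hidx, Nat.factorization_mul Nat.card_pos.ne' Subgroup.index_ne_zero_of_finite, hQ]
    simp [hp.factorization_self]
  -- the infimum for the quotient block is at least that of `b`
  have hinf : sInf ((fun χ : IrrCharacter H => (charDegree (χ : H → ℂ)).factorization 2) '' b) ≤
      sInf ((fun ψ : IrrCharacter (H ⧸ Q) => (charDegree (ψ : H ⧸ Q → ℂ)).factorization 2) ''
        blockOf M (ψ₀ : H ⧸ Q → ℂ)) := by
    obtain ⟨ψ, hψ, hψeq⟩ := exists_min_factorization (p := 2) hne
    rw [← hψeq]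
    have hψb : inflate Q ψ ∈ b := by
      have : ψ ∈ {ψ : IrrCharacter (H ⧸ Q) | inflate Q ψ ∈ b} := by rw [hset]; exact hψ
      exact this
    have hdegeq : charDegree (inflate Q ψ : H → ℂ) = charDegree (ψ : H ⧸ Q → ℂ) := by
      unfold charDegree
      rw [inflate_apply, QuotientGroup.mk_one]
    rw [← hdegeq]
    exact Nat.sInf_le ⟨inflate Q ψ, hψb, rfl⟩
  omega

end Cfsg.Agent.Lib.Helper82
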