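import Cfsg.Agent.Lib.Helper16.AbelianDefect

/-!
# Control of fusion for maximal pairs centralizing `Q` (helper82)

A variant of `Helper16.exists_mul_conjPair_eq_self`: if `(Q, f)` lies below the maximal pair
`(P, e)` and below its conjugate `(P, e)^x`, and both `P` and `P^x` centralize `Q`, then some
`t ∈ Q C_G(Q)` has `t x ∈ N_G(P, e)`.
-/

set_option autoImplicit false

namespace Cfsg.Agent.Lib.Helper82

open Cfsg MonoidAlgebra Cfsg.Agent.Lib.Helper77 Cfsg.Agent.Lib.Helper16
open scoped ComplexConjugate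

universe u

variable {G : Type u} [Group G] [Fintype G] {M : Ideal AlgInt}

/-- Let `(P, e)` be a maximal `B`-pair with `(Q, f) ≤ (P, e)` and `(Q, f) ≤ (P, e)^x`, where `P`
and `P^x` centralize `Q`.  Then some `t ∈ Q C_G(Q)` has `t x ∈ N_G(P, e)`. -/
theorem exists_mul_conjPair_eq_self_of_le {p : ℕ} [Fact p.Prime] (hM : IsPModular p M)
    {B : Set (IrrCharacter G)} {P Q : Subgroup G}
    {e : Set (IrrCharacter (Subgroup.centralizer (P : Set G)))}
    {f : Set (IrrCharacter (Subgroup.centralizer (Q : Set G)))}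
    (hmax : IsMaximalBrauerPair p M B P e) (hle : SubpairLE p M Q f P e)
    (hPC : P ≤ Subgroup.centralizer (Q : Set G)) {x : G}
    (hlex : SubpairLE p M Q f (P.map (MulAut.conj x).toMonoidHom) (conjBlock P x e))
    (hPxC : P.map (MulAut.conj x).toMonoidHom ≤ Subgroup.centralizer (Q : Set G)) :
    ∃ t ∈ Q ⊔ Subgroup.centralizer (Q : Set G),
      conjPair (t * x) (⟨P, e⟩ : BrauerPairIdx G) = ⟨P, e⟩ := by
  classical
  have hMp := isPModular_isPrime hM
  have : Fintype ↥(Q ⊔ Subgroup.centralizer (Q : Set G)) := Fintype.ofFinite _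
  have hPe : IsBrauerPair p M P e := hmax.1.1
  have hQf : IsBrauerPair p M Q f := Cfsg.Agent.S4655.le_pair_left hle hPe
  have hQP : Q ≤ P := Cfsg.Agent.S4655.le_le hle
  have hQL : Q ≤ Q ⊔ Subgroup.centralizer (Q : Set G) := le_sup_left
  have hCL : Subgroup.centralizer (Q : Set G) ≤ Q ⊔ Subgroup.centralizer (Q : Set G) :=
    le_sup_right
  have hLN : Q ⊔ Subgroup.centralizer (Q : Set G) ≤ Subgroup.normalizer (Q : Set G) :=
    sup_le Subgroup.le_normalizer (Subgroup.centralizer_le_normalizer _)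
  obtain ⟨F', hF', hF'f⟩ := exists_block_of_stable hM Q (Q ⊔ Subgroup.centralizer (Q : Set G))
    hQf.1 hQL hLN hCL f hQf.2 (fun y hy => stabilizesBlock_of_mem_sup_centralizer Q f hy)
  have hPL : P ≤ Q ⊔ Subgroup.centralizer (Q : Set G) := hPC.trans hCL
  have hCP : Subgroup.centralizer (P : Set G) ≤ Q ⊔ Subgroup.centralizer (Q : Set G) :=
    (Subgroup.centralizer_le hQP).trans hCL
  have hPN : P ≤ Subgroup.normalizer (Q : Set G) :=
    hPC.trans (Subgroup.centralizer_le_normalizer _)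
  have hN : IsNormalSubpair p M Q f P e := isNormalSubpair_of_subpairLE hM hPe hle hPN
  have hpairL := isBrauerPairOf_subgroupOf_of_isNormalSubpair hCL hF' hF'f hPL hN
  have hmaxL : IsMaximalBrauerPair p M F'
      (P.subgroupOf (Q ⊔ Subgroup.centralizer (Q : Set G)))
      (pullBlock (centEquivIn (Q ⊔ Subgroup.centralizer (Q : Set G)) P hPL hCP) e) := by
    refine ⟨hpairL, ?_⟩
    intro R' g' _ hchain
    obtain ⟨b, hb, hCb, _, hbeq, hab⟩ := subpairLE_of_restrictPair hQL hCL
      (a := (⟨P, e⟩ : BrauerPairIdx G)) hPL hCP hQP hchain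
    have hbB : IsBrauerPairOf p M B b.1 b.2 :=
      (Cfsg.Agent.S4658.chain_iff p M hM B ⟨P, e⟩ b hab).mpr hmax.1
    have hbP : b.1 = P := hmax.2 b.1 b.2 hbB hab
    have h1 : b.1.subgroupOf (Q ⊔ Subgroup.centralizer (Q : Set G)) = R' :=
      congrArg Sigma.fst hbeq
    rw [← h1, hbP]
  -- the conjugate pair
  have hPxe : IsBrauerPair p M (P.map (MulAut.conj x).toMonoidHom) (conjBlock P x e) :=
    (isBrauerPairOf_conj hmax.1 x).1
  have hPxN : P.map (MulAut.conj x).toMonoidHom ≤ Subgroup.normalizer (Q : Set G) :=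
    hPxC.trans (Subgroup.centralizer_le_normalizer _)
  have hNx : IsNormalSubpair p M Q f (P.map (MulAut.conj x).toMonoidHom) (conjBlock P x e) :=
    isNormalSubpair_of_subpairLE hM hPxe hlex hPxN
  have hPxL : P.map (MulAut.conj x).toMonoidHom ≤ Q ⊔ Subgroup.centralizer (Q : Set G) :=
    hPxC.trans hCL
  have hCPx : Subgroup.centralizer ((P.map (MulAut.conj x).toMonoidHom : Subgroup G) : Set G) ≤
      Q ⊔ Subgroup.centralizer (Q : Set G) := (Subgroup.centralizer_le hNx.2.2.1).trans hCL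
  have hpairLx := isBrauerPairOf_subgroupOf_of_isNormalSubpair hCL hF' hF'f hPxL hNx
  obtain ⟨t, ht⟩ := Cfsg.Agent.S4660.result p M hM F' _ _ _ _ hmaxL hpairLx
  have ha' : (P.map (MulAut.conj x).toMonoidHom).map (MulAut.conj (t : G)).toMonoidHom ≤
      Q ⊔ Subgroup.centralizer (Q : Set G) := map_conj_le_of_mem hPxL t.2
  have hC' : Subgroup.centralizer (((P.map (MulAut.conj x).toMonoidHom).map
      (MulAut.conj (t : G)).toMonoidHom : Subgroup G) : Set G) ≤
      Q ⊔ Subgroup.centralizer (Q : Set G) := centralizer_map_conj_le hCPx t.2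
  have ht' : Relation.ReflTransGen (NormalSubpairRel p M)
      (conjPair t (restrictPair (Q ⊔ Subgroup.centralizer (Q : Set G))
        ⟨P.map (MulAut.conj x).toMonoidHom, conjBlock P x e⟩ hPxL hCPx))
      (restrictPair (Q ⊔ Subgroup.centralizer (Q : Set G)) ⟨P, e⟩ hPL hCP) := ht
  rw [← restrictPair_conjPair _ _ _ hPxL hCPx t ha' hC'] at ht'
  have hQa : Q ≤ (P.map (MulAut.conj x).toMonoidHom).map (MulAut.conj (t : G)).toMonoidHom := by
    have h1 : Q.map (MulAut.conj (t : G)).toMonoidHom ≤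
        (P.map (MulAut.conj x).toMonoidHom).map (MulAut.conj (t : G)).toMonoidHom :=
      Subgroup.map_mono hNx.2.2.1
    rwa [map_conj_eq_of_mem_normalizer Q (hLN t.2)] at h1
  obtain ⟨b, hb, hCb, _, hbeq, hchainG⟩ := subpairLE_of_restrictPair hQL hCL
    (a := (⟨(P.map (MulAut.conj x).toMonoidHom).map (MulAut.conj (t : G)).toMonoidHom,
      conjBlock (P.map (MulAut.conj x).toMonoidHom) (t : G) (conjBlock P x e)⟩ :
      BrauerPairIdx G)) ha' hC' hQa ht'
  have hbP : b = ⟨P, e⟩ := restrictPair_injective hb hCb hPL hCP hbeq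
  rw [hbP] at hchainG
  have h5 : Relation.ReflTransGen (NormalSubpairRel p M)
      (conjPair ((t : G) * x) (⟨P, e⟩ : BrauerPairIdx G)) ⟨P, e⟩ := by
    rw [← conjPair_conjPair]
    exact hchainG
  have h6 : (conjPair ((t : G) * x) (⟨P, e⟩ : BrauerPairIdx G)).1 = P := by
    apply Subgroup.eq_of_le_of_card_ge (Cfsg.Agent.S4655.le_le h5)
    show Nat.card P ≤ Nat.card (P.map (MulAut.conj ((t : G) * x)).toMonoidHom)
    rw [card_map_conj]
  exact ⟨(t : G), t.2, Cfsg.Agent.S4655.le_eq_of_fst_eq hM h5 h6⟩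

end Cfsg.Agent.Lib.Helper82
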