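import Mathlib
import Cfsg.Agent.Lib.Helper16.BlockTransport
import Cfsg.Agent.Lib.Helper78.StableCover
import Cfsg.Agent.Lib.Helper78.WBORank
import Cfsg.Prelude.Def_BlockRank

/-!
# Transport of the `p`-regular rank and of block induction along identifications of subgroups

* `blockRank_pullBlock`, `blockDefect_pullBlock`: invariance under a group isomorphism.
* `isInducedBlock_subgroupCongr`: block induction from two equal subgroups.
* `isInducedBlock_iff_of_eq_top`: a block of the full group (as a subgroup) induces `B` iff it is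
  `B` itself.
-/

set_option autoImplicit false
set_option linter.unusedSectionVars false
set_option linter.style.haveILetI false

namespace Cfsg.Agent.Lib.Helper82

open Cfsg Cfsg.Agent.Lib.Helper16 Cfsg.Agent.Lib.Helper78
open scoped ComplexConjugate

universe u

section Iso

variable {K₁ K₂ : Type u} [Group K₁] [Group K₂]

theorem pRegularPart_comp_mulEquiv (p : ℕ) (φ : K₁ ≃* K₂) (χ : K₂ → ℂ) :
    pRegularPart p (χ ∘ φ) = pRegularPart p χ ∘ φ := by
  classical
  funext k
  have ho : orderOf (φ k) = orderOf k := MulEquiv.orderOf_eq φ k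
  unfold pRegularPart
  simp only [Function.comp_apply, IsPRegular, ho]
  by_cases hk : p ∣ orderOf k <;> simp [hk]

/-- The `p`-regular rank is invariant under transport along a group isomorphism. -/
theorem blockRank_pullBlock (p : ℕ) (φ : K₁ ≃* K₂) (β : Set (IrrCharacter K₂)) :
    blockRank p (pullBlock φ β) = blockRank p β := by
  unfold blockRank
  set L : (K₂ → ℂ) ≃ₗ[ℂ] (K₁ → ℂ) := LinearEquiv.funCongrLeft ℂ ℂ φ.toEquiv with hL
  have hLapp : ∀ f : K₂ → ℂ, L f = f ∘ φ := fun f => rfl
  have himg : (fun χ : IrrCharacter K₁ => pRegularPart p (χ : K₁ → ℂ)) '' pullBlock φ β =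
      L '' ((fun χ : IrrCharacter K₂ => pRegularPart p (χ : K₂ → ℂ)) '' β) := by
    unfold pullBlock
    rw [Set.image_image, Set.image_image]
    apply Set.image_congr
    intro χ _
    rw [hLapp]
    exact pRegularPart_comp_mulEquiv p φ (χ : K₂ → ℂ)
  rw [himg]
  have := Submodule.map_span (L : (K₂ → ℂ) →ₗ[ℂ] (K₁ → ℂ))
    ((fun χ : IrrCharacter K₂ => pRegularPart p (χ : K₂ → ℂ)) '' β)
  rw [show (L '' ((fun χ : IrrCharacter K₂ => pRegularPart p (χ : K₂ → ℂ)) '' β)) =
    ((L : (K₂ → ℂ) →ₗ[ℂ] (K₁ → ℂ)) '' ((fun χ : IrrCharacter K₂ =>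
      pRegularPart p (χ : K₂ → ℂ)) '' β)) from rfl, ← this]
  exact LinearEquiv.finrank_map_eq L _

theorem charDegree_irrPull (φ : K₁ ≃* K₂) (χ : IrrCharacter K₂) :
    charDegree (irrPull φ χ : K₁ → ℂ) = charDegree (χ : K₂ → ℂ) := by
  unfold charDegree
  rw [irrPull_apply, map_one]

/-- The defect is invariant under transport along a group isomorphism. -/
theorem blockDefect_pullBlock (p : ℕ) (φ : K₁ ≃* K₂) (β : Set (IrrCharacter K₂)) :
    blockDefect p (pullBlock φ β) = blockDefect p β := by
  unfold blockDefect pullBlock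
  rw [Set.image_image, Nat.card_congr φ.toEquiv]
  simp only [charDegree_irrPull]

theorem pullBlock_refl (β : Set (IrrCharacter K₁)) : pullBlock (MulEquiv.refl K₁) β = β := by
  unfold pullBlock
  have : irrPull (MulEquiv.refl K₁) = id := by
    funext χ
    apply Subtype.ext
    funext k
    rfl
  rw [this, Set.image_id]

theorem pullBlock_injective (φ : K₁ ≃* K₂) : Function.Injective (pullBlock φ) := by
  intro β β' h
  unfold pullBlock at h
  exact (Set.image_injective.mpr (irrPull_injective φ)) h

end Iso

section Sub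

variable {G : Type u} [Group G] {M : Ideal AlgInt}

/-- Block induction does not see the replacement of a subgroup by an equal one. -/
theorem isInducedBlock_subgroupCongr {H₁ H₂ : Subgroup G} (h : H₁ = H₂)
    (b : Set (IrrCharacter H₂)) (B : Set (IrrCharacter G)) :
    IsInducedBlock M H₁ (pullBlock (MulEquiv.subgroupCongr h) b) B ↔ IsInducedBlock M H₂ b B := by
  subst h
  have : MulEquiv.subgroupCongr (rfl : H₁ = H₁) = MulEquiv.refl H₁ := by
    ext x
    rfl
  rw [this, pullBlock_refl]

variable [Fintype G]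

/-- An isomorphism of a subgroup equal to `⊤` with the group. -/
noncomputable def topEquivOf {H : Subgroup G} (hH : H = ⊤) : H ≃* G :=
  (MulEquiv.subgroupCongr hH).trans Subgroup.topEquiv

theorem topEquivOf_apply {H : Subgroup G} (hH : H = ⊤) (h : H) : topEquivOf hH h = (h : G) := rfl

theorem coe_topEquivOf_symm {H : Subgroup G} (hH : H = ⊤) (g : G) :
    (((topEquivOf hH).symm g : H) : G) = g := by
  have := topEquivOf_apply hH ((topEquivOf hH).symm g)
  rw [MulEquiv.apply_symm_apply] at this
  exact this.symm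

open scoped Classical in
/-- For a subgroup equal to the whole group the induced central character is the central
character. -/
theorem inducedCentralChar_of_eq_top {H : Subgroup G} [Fintype H] (hH : H = ⊤)
    (ξ : IrrCharacter H) (g : G) :
    inducedCentralChar H (ξ : H → ℂ) g = centralChar (ξ : H → ℂ) ((topEquivOf hH).symm g) := by
  unfold inducedCentralChar
  rw [finsum_mem_eq_sum_filter_univ]
  rw [← sum_class_div_eq_centralChar]
  apply Finset.sum_congr _ (fun _ _ => rfl)
  ext h
  simp only [Finset.mem_filter, Finset.mem_univ, true_and, Set.mem_ofPred_eq]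
  constructor
  · intro hc
    obtain ⟨x, hx⟩ := isConj_iff.mp hc
    rw [isConj_iff]
    refine ⟨(topEquivOf hH).symm x, ?_⟩
    apply Subtype.ext
    simp only [Subgroup.coe_mul, Subgroup.coe_inv, coe_topEquivOf_symm]
    exact hx
  · intro hc
    obtain ⟨x, hx⟩ := isConj_iff.mp hc
    rw [isConj_iff]
    refine ⟨(x : G), ?_⟩
    have := congrArg (Subtype.val) hx
    simp only [Subgroup.coe_mul, Subgroup.coe_inv, coe_topEquivOf_symm] at this
    exact this

/-- A block of a subgroup equal to the whole group induces `B` iff it is `B`. -/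
theorem isInducedBlock_iff_of_eq_top [hMp : M.IsPrime] {H : Subgroup G} [Fintype H] (hH : H = ⊤)
    {b : Set (IrrCharacter H)} (hb : IsPBlock M b) {B : Set (IrrCharacter G)}
    (hB : IsPBlock M B) :
    IsInducedBlock M H b B ↔ b = pullBlock (topEquivOf hH) B := by
  have hMtop : M ≠ ⊤ := hMp.ne_top
  have hpb : IsPBlock M (pullBlock (topEquivOf hH) B) := isPBlock_pullBlock _ hB
  have hcc : ∀ (χ : IrrCharacter G) (g : G),
      centralChar (irrPull (topEquivOf hH) χ : H → ℂ) ((topEquivOf hH).symm g) =
        centralChar (χ : G → ℂ) g := by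
    intro χ g
    have h1 : (irrPull (topEquivOf hH) χ : H → ℂ) = (χ : G → ℂ) ∘ (topEquivOf hH) := rfl
    rw [h1, centralChar_comp_mulEquiv, MulEquiv.apply_symm_apply]
  constructor
  · intro hind
    obtain ⟨ξ, hξ⟩ := IsPBlock_nonempty hMtop hb
    obtain ⟨χ, hχ⟩ := IsPBlock_nonempty hMtop hB
    have hsame : SameBlock M (ξ : H → ℂ) (irrPull (topEquivOf hH) χ : H → ℂ) := by
      intro h
      have h1 := hind.2.2 ξ hξ χ hχ (topEquivOf hH h)
      rw [inducedCentralChar_of_eq_top hH, MulEquiv.symm_apply_apply] at h1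
      have h2 := hcc χ (topEquivOf hH h)
      rw [MulEquiv.symm_apply_apply] at h2
      rw [h2]
      exact h1
    rw [IsPBlock_eq_blockOf hb hξ, IsPBlock_eq_blockOf hpb (irrPull_mem_pullBlock _ hχ)]
    exact blockOf_eq_of_sameBlock hsame
  · rintro rfl
    refine ⟨hb, hB, ?_⟩
    rintro _ ⟨χ', hχ', rfl⟩ χ hχ g
    rw [inducedCentralChar_of_eq_top hH, hcc χ' g]
    exact sameBlock_of_mem hB hχ' hχ g

end Sub

end Cfsg.Agent.Lib.Helper82
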