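import Mathlib
import Cfsg.Agent.Lib.Helper16.AbelianDefect
import Cfsg.Agent.Lib.Helper16.NilFusion
import Cfsg.Agent.Lib.Helper16.InducedPair
import Cfsg.Agent.Lib.Helper82.FusionControl
import Cfsg.Agent.Lib.Helper82.CentralTwoRank
import Cfsg.Agent.Lib.Helper82.PullRank
import Cfsg.Agent.Lib.Helper82.SubsecMain
import Cfsg.Agent.Lib.Helper78.SubsectionNorm
import Cfsg.Agent.S0917

/-!
# Local blocks of a `2`-block with Klein four defect group

Let `(P, c)` be a maximal Brauer pair of the `2`-block `B`, `P` abelian of order four.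

* `local_block_facts`: for a nontrivial `2`-element `u` and a block `b` of `C_G(u)` with
  `(⟨u⟩, b)` a `B`-pair, `b` has defect two and `2`-regular rank one.
* `card_le_four`: if all heights are zero then `k(B) ≤ 4`.
-/

set_option autoImplicit false
set_option linter.unusedSectionVars false
set_option linter.style.haveILetI false

namespace Cfsg.Agent.Lib.Helper82

open Cfsg Cfsg.Agent.Lib.Helper16 Cfsg.Agent.Lib.Helper78 Cfsg.Agent.Lib.Helper77
  Cfsg.Agent.Lib.Helper79
open scoped ComplexConjugate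

universe u

variable {G : Type u} [Group G] [Fintype G] {M : Ideal AlgInt}

omit [Fintype G] in
theorem zpowers_le_centralizer_zpowers (u : G) :
    Subgroup.zpowers u ≤ Subgroup.centralizer (Subgroup.zpowers u : Set G) := by
  intro a ha
  rw [mem_centralizer_zpowers_iff]
  obtain ⟨n, rfl⟩ := Subgroup.mem_zpowers_iff.mp ha
  exact (Commute.refl u).zpow_right n

omit [Fintype G] in
theorem map_conj_zpowers (y u : G) :
    (Subgroup.zpowers u).map (MulAut.conj y).toMonoidHom = Subgroup.zpowers (y * u * y⁻¹) := by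
  rw [MonoidHom.map_zpowers]
  rfl

omit [Fintype G] in
theorem le_centralizer_of_le_of_comm {P Q : Subgroup G}
    (hPab : ∀ x ∈ P, ∀ y ∈ P, x * y = y * x) (hQP : Q ≤ P) :
    P ≤ Subgroup.centralizer (Q : Set G) := by
  intro y hy
  rw [Subgroup.mem_centralizer_iff]
  intro q hq
  exact hPab q (hQP hq) y hy

theorem blockDefect_eq_two_of_card_four (hM : IsPModular 2 M) {B : Set (IrrCharacter G)}
    {P : Subgroup G} (hB : IsPBlock M B) (hPD : IsDefectGroup 2 M B P) (hP4 : Nat.card P = 4) :
    blockDefect 2 B = 2 := by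
  haveI : Fact (Nat.Prime 2) := ⟨Nat.prime_two⟩
  have h1 := card_defectGroup hM hB hPD
  rw [hP4] at h1
  have h2 : (2 : ℕ) ^ 2 = 2 ^ blockDefect 2 B := by rw [← h1]; norm_num
  exact (Nat.pow_right_injective (le_refl 2) h2).symm

/-- The local blocks at nontrivial `2`-elements have defect two and rank one. -/
theorem local_block_facts (hM : IsPModular 2 M) {B : Set (IrrCharacter G)} {P : Subgroup G}
    {c : Set (IrrCharacter (Subgroup.centralizer (P : Set G)))}
    (hmax : IsMaximalBrauerPair 2 M B P c) (hP4 : Nat.card P = 4)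
    (hPab : ∀ x ∈ P, ∀ y ∈ P, x * y = y * x)
    (u : G) (hu1 : u ≠ 1) (hu : ∃ k : ℕ, orderOf u = 2 ^ k)
    {b : Set (IrrCharacter (Subgroup.centralizer (Subgroup.zpowers u : Set G)))}
    (hb : IsBrauerPairOf 2 M B (Subgroup.zpowers u) b) :
    blockDefect 2 b = 2 ∧ blockRank 2 b = 1 := by
  classical
  haveI : Fact (Nat.Prime 2) := ⟨Nat.prime_two⟩
  haveI hMp := isPModular_isPrime hM
  have hB : IsPBlock M B := hmax.1.2.1
  have hPD : IsDefectGroup 2 M B P := isDefectGroup_of_isMaximalBrauerPair hM B P c hmax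
  have hdB : blockDefect 2 B = 2 := blockDefect_eq_two_of_card_four hM hB hPD hP4
  have hPe : IsBrauerPair 2 M P c := hmax.1.1
  haveI : Fintype ↥(Subgroup.centralizer (Subgroup.zpowers u : Set G)) := Fintype.ofFinite _
  have hbb : IsPBlock M b := hb.1.2
  have hind : IsInducedBlock M (Subgroup.centralizer (Subgroup.zpowers u : Set G)) b B :=
    Cfsg.Agent.Lib.Helper16.isInducedBlock_of_isBrauerPairOf hM (zpowers_le_centralizer_zpowers u) hb
  -- upper bound for the defect
  have hle : blockDefect 2 b ≤ 2 := by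
    obtain ⟨Db, hDb⟩ := exists_isDefectGroup 2 hbb
    obtain ⟨E, hE, hDE⟩ := Cfsg.Agent.S0917.result 2 M hM _ b hbb B hB hind Db hDb
    have h1 : Nat.card Db = 2 ^ blockDefect 2 b := card_defectGroup hM hbb hDb
    have h2 : Nat.card E = 2 ^ blockDefect 2 B := card_defectGroup hM hB hE
    have h3 : Nat.card (Db.map (Subgroup.centralizer (Subgroup.zpowers u : Set G)).subtype) =
        Nat.card Db := Subgroup.card_map_of_injective (Subgroup.subtype_injective _)
    have h4 : Nat.card (Db.map (Subgroup.centralizer (Subgroup.zpowers u : Set G)).subtype) ≤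
        Nat.card E := Nat.le_of_dvd Nat.card_pos (Subgroup.card_dvd_of_le hDE)
    rw [h3, h1, h2, hdB] at h4
    exact (Nat.pow_le_pow_iff_right (le_refl 2)).mp h4
  -- lower bound for the defect
  have hge : 2 ≤ blockDefect 2 b := by
    obtain ⟨x, hx⟩ := Cfsg.Agent.S4660.result 2 M hM B P (Subgroup.zpowers u) c b hmax hb
    obtain ⟨D, hD, hPD'⟩ := exists_isDefectGroup_ge_centralizerIn hM hPe hx
    have hQP : (Subgroup.zpowers u).map (MulAut.conj x).toMonoidHom ≤ P :=
      Cfsg.Agent.S4655.le_le hx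
    have hPC := le_centralizer_of_le_of_comm hPab hQP
    have hbx : IsPBlock M (conjBlock (Subgroup.zpowers u) x b) := by
      rw [conjBlock_eq_pullBlock]
      exact isPBlock_pullBlock _ hbb
    have h1 : Nat.card D = 2 ^ blockDefect 2 (conjBlock (Subgroup.zpowers u) x b) :=
      card_defectGroup hM hbx hD
    rw [conjBlock_eq_pullBlock, blockDefect_pullBlock] at h1
    have h2 : Nat.card ((P ⊓ Subgroup.centralizer (((Subgroup.zpowers u).map
        (MulAut.conj x).toMonoidHom : Subgroup G) : Set G)).subgroupOf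
        (Subgroup.centralizer (((Subgroup.zpowers u).map
        (MulAut.conj x).toMonoidHom : Subgroup G) : Set G))) = 4 := by
      rw [inf_eq_left.mpr hPC, ← hP4]
      exact Nat.card_congr (Subgroup.subgroupOfEquivOfLe hPC).toEquiv
    have h3 := Nat.le_of_dvd Nat.card_pos (Subgroup.card_dvd_of_le hPD')
    rw [h2, h1] at h3
    have h4 : (2 : ℕ) ^ 2 ≤ 2 ^ blockDefect 2 b := h3
    exact (Nat.pow_le_pow_iff_right (le_refl 2)).mp h4
  have hd : blockDefect 2 b = 2 := le_antisymm hle hge
  refine ⟨hd, ?_⟩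
  -- the rank
  obtain ⟨k, hk⟩ := hu
  have hk1 : 1 ≤ k := by
    rcases Nat.eq_zero_or_pos k with rfl | h
    · exfalso
      rw [pow_zero, orderOf_eq_one_iff] at hk
      exact hu1 hk
    · exact h
  have hQZ : (Subgroup.zpowers u).subgroupOf (Subgroup.centralizer (Subgroup.zpowers u : Set G)) ≤
      Subgroup.center ↥(Subgroup.centralizer (Subgroup.zpowers u : Set G)) := by
    intro a ha
    rw [Subgroup.mem_center_iff]
    intro g
    apply Subtype.ext
    rw [Subgroup.coe_mul, Subgroup.coe_mul]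
    have hg := g.2
    rw [Subgroup.mem_centralizer_iff] at hg
    exact (hg (a : G) (Subgroup.mem_subgroupOf.mp ha)).symm
  have hQcard : Nat.card ((Subgroup.zpowers u).subgroupOf
      (Subgroup.centralizer (Subgroup.zpowers u : Set G))) = 2 ^ k := by
    rw [← hk, ← Nat.card_zpowers]
    exact Nat.card_congr (Subgroup.subgroupOfEquivOfLe (zpowers_le_centralizer_zpowers u)).toEquiv
  exact blockRank_eq_one_of_central_two hM _ hQZ hQcard hbb (by omega)

/-- A `2`-block with Klein four defect group all of whose characters have height zero has at most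
four irreducible characters. -/
theorem card_le_four (hM : IsPModular 2 M) {B : Set (IrrCharacter G)} {P : Subgroup G}
    {c : Set (IrrCharacter (Subgroup.centralizer (P : Set G)))}
    (hmax : IsMaximalBrauerPair 2 M B P c) (hP4 : Nat.card P = 4)
    (hPab : ∀ x ∈ P, ∀ y ∈ P, x * y = y * x)
    (hh : ∀ χ ∈ B, blockHeight 2 B (χ : G → ℂ) = 0) : Nat.card B ≤ 4 := by
  classical
  haveI : Fact (Nat.Prime 2) := ⟨Nat.prime_two⟩
  haveI hMp := isPModular_isPrime hM
  have hB : IsPBlock M B := hmax.1.2.1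
  have hPD : IsDefectGroup 2 M B P := isDefectGroup_of_isMaximalBrauerPair hM B P c hmax
  have hdB : blockDefect 2 B = 2 := blockDefect_eq_two_of_card_four hM hB hPD hP4
  have hPe : IsBrauerPair 2 M P c := hmax.1.1
  -- a nonidentity element of `P`
  obtain ⟨u, hu1⟩ : ∃ u : P, u ≠ 1 := by
    haveI : Nontrivial P := by
      rw [← Finite.one_lt_card_iff_nontrivial, hP4]
      norm_num
    exact exists_ne 1
  have huP : (u : G) ∈ P := u.2
  have hu1' : (u : G) ≠ 1 := fun h => hu1 (Subtype.ext h)
  have hu : ∃ k : ℕ, orderOf (u : G) = 2 ^ k := by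
    have h1 : orderOf (u : G) ∣ 2 ^ 2 := by
      rw [Subgroup.orderOf_coe]
      have := orderOf_dvd_natCard u
      rw [hP4] at this
      exact this
    obtain ⟨k, _, hk⟩ := (Nat.dvd_prime_pow Nat.prime_two).mp h1
    exact ⟨k, hk⟩
  have hQP : Subgroup.zpowers (u : G) ≤ P := Subgroup.zpowers_le.mpr huP
  obtain ⟨f, hf, hfle⟩ := Cfsg.Agent.S4655.exists_le hM (Nat.card P - Nat.card (Subgroup.zpowers (u : G)))
    (⟨P, c⟩ : BrauerPairIdx G) hPe _ hQP le_rfl
  have hfB : IsBrauerPairOf 2 M B (Subgroup.zpowers (u : G)) f :=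
    (Cfsg.Agent.S4658.chain_iff 2 M hM B _ _ hfle).mp hmax.1
  obtain ⟨hd, hl⟩ := local_block_facts hM hmax hP4 hPab (u : G) hu1' hu hfB
  haveI : Fintype ↥(Subgroup.centralizer (Subgroup.zpowers (u : G) : Set G)) := Fintype.ofFinite _
  have hind : IsInducedBlock M (Subgroup.centralizer (Subgroup.zpowers (u : G) : Set G)) f B :=
    Cfsg.Agent.Lib.Helper16.isInducedBlock_of_isBrauerPairOf hM (zpowers_le_centralizer_zpowers _) hfB
  have key := card_sq_le_of_major_subsection hM B hh (u : G) hu
    (Subgroup.centralizer (Subgroup.zpowers (u : G) : Set G))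
    (fun g => mem_centralizer_zpowers_iff (u : G) g) f hind (by rw [hd, hdB])
  rw [hl, hdB] at key
  have : Nat.card B ^ 2 ≤ 4 ^ 2 := by
    calc Nat.card B ^ 2 ≤ 2 ^ (2 * 2) * 1 := key
      _ = 4 ^ 2 := by norm_num
  exact (Nat.pow_le_pow_iff_left (by norm_num)).mp this

end Cfsg.Agent.Lib.Helper82
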