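import Mathlib
import Cfsg.Agent.Lib.Helper82.KleinLocal

/-!
# Brauer pairs on cyclic subgroups for a block with abelian defect group

Let `(P, c)` be a maximal Brauer pair of the block `B`, `P` abelian.

* `local_block_unique`: if `N_G(P, c)` is transitive on the nonidentity elements of `P` then for
  every nonidentity element `x` at most one block `b` of `C_G(x)` makes `(⟨x⟩, b)` a `B`-pair,
  and any two such elements are conjugate.
* `eq_of_conjPair_eq`: if `N_G(P, c) = C_G(P)` then the pairs `(⟨u⟩, f_u) ≤ (P, c)`, `u ∈ P`, are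
  pairwise non-conjugate.
-/

set_option autoImplicit false
set_option linter.unusedSectionVars false
set_option linter.style.haveILetI false

namespace Cfsg.Agent.Lib.Helper82

open Cfsg Cfsg.Agent.Lib.Helper16 Cfsg.Agent.Lib.Helper78 Cfsg.Agent.Lib.Helper77
  Cfsg.Agent.Lib.Helper79
open scoped ComplexConjugate

universe u

variable {G : Type u} [Group G] [Fintype G] {M : Ideal AlgInt}

theorem conjPair_one (a : BrauerPairIdx G) : conjPair 1 a = a := by
  obtain ⟨Q, f⟩ := a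
  exact conjPair_eq_self_of_stabilizes (Subgroup.one_mem _) (stabilizesBlock_one _ f)

theorem conjPair_inv_conjPair (y : G) (a : BrauerPairIdx G) :
    conjPair y⁻¹ (conjPair y a) = a := by
  rw [conjPair_conjPair, inv_mul_cancel, conjPair_one]

theorem conjPair_eq_self_of_mem_centralizer {Q : Subgroup G}
    (f : Set (IrrCharacter (Subgroup.centralizer (Q : Set G)))) {z : G}
    (hz : z ∈ Subgroup.centralizer (Q : Set G)) :
    conjPair z (⟨Q, f⟩ : BrauerPairIdx G) = ⟨Q, f⟩ :=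
  conjPair_eq_self_of_stabilizes (Subgroup.centralizer_le_normalizer _ hz)
    (stabilizesBlock_of_mem_sup_centralizer Q f (Subgroup.mem_sup_right hz))

omit [Fintype G] in
theorem pairIdx_snd_eq {Q : Subgroup G}
    {f f' : Set (IrrCharacter (Subgroup.centralizer (Q : Set G)))}
    (h : (⟨Q, f⟩ : BrauerPairIdx G) = ⟨Q, f'⟩) : f = f' := by
  have := Sigma.mk.inj_iff.mp h
  exact eq_of_heq this.2

/-- A `B`-pair on `⟨x⟩` is conjugate to a pair below `(P, c)` on `⟨u⟩` with `u ∈ P`. -/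
theorem exists_conj_le_of_isBrauerPairOf {p : ℕ} [Fact p.Prime] (hM : IsPModular p M)
    {B : Set (IrrCharacter G)} {P : Subgroup G}
    {c : Set (IrrCharacter (Subgroup.centralizer (P : Set G)))}
    (hmax : IsMaximalBrauerPair p M B P c) (x : G)
    {b : Set (IrrCharacter (Subgroup.centralizer (Subgroup.zpowers x : Set G)))}
    (hb : IsBrauerPairOf p M B (Subgroup.zpowers x) b) :
    ∃ y : G, y * x * y⁻¹ ∈ P ∧
      Relation.ReflTransGen (NormalSubpairRel p M)
        (conjPair y (⟨Subgroup.zpowers x, b⟩ : BrauerPairIdx G)) ⟨P, c⟩ := by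
  obtain ⟨y, hy⟩ := Cfsg.Agent.S4660.result p M hM B P (Subgroup.zpowers x) c b hmax hb
  refine ⟨y, ?_, hy⟩
  have hQP : (Subgroup.zpowers x).map (MulAut.conj y).toMonoidHom ≤ P :=
    Cfsg.Agent.S4655.le_le hy
  apply hQP
  rw [map_conj_zpowers]
  exact Subgroup.mem_zpowers _

/-- Under a transitive inertial group, the block at `x` is unique. -/
theorem local_block_unique {p : ℕ} [Fact p.Prime] (hM : IsPModular p M)
    {B : Set (IrrCharacter G)} {P : Subgroup G}
    {c : Set (IrrCharacter (Subgroup.centralizer (P : Set G)))}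
    (hmax : IsMaximalBrauerPair p M B P c)
    (htrans : ∀ u ∈ P, u ≠ 1 → ∀ v ∈ P, v ≠ 1 →
      ∃ t : G, conjPair t (⟨P, c⟩ : BrauerPairIdx G) = ⟨P, c⟩ ∧ t * u * t⁻¹ = v)
    (x : G) (hx1 : x ≠ 1)
    {b₁ b₂ : Set (IrrCharacter (Subgroup.centralizer (Subgroup.zpowers x : Set G)))}
    (h₁ : IsBrauerPairOf p M B (Subgroup.zpowers x) b₁)
    (h₂ : IsBrauerPairOf p M B (Subgroup.zpowers x) b₂) : b₁ = b₂ := by
  obtain ⟨y₁, hy₁P, hy₁⟩ := exists_conj_le_of_isBrauerPairOf hM hmax x h₁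
  obtain ⟨y₂, hy₂P, hy₂⟩ := exists_conj_le_of_isBrauerPairOf hM hmax x h₂
  have hne : ∀ y : G, y * x * y⁻¹ ≠ 1 := by
    intro y h
    apply hx1
    have : x = y⁻¹ * (y * x * y⁻¹) * y := by group
    rw [this, h]; group
  obtain ⟨t, ht, htu⟩ := htrans _ hy₁P (hne y₁) _ hy₂P (hne y₂)
  -- move the first pair by `t`
  have h3 : Relation.ReflTransGen (NormalSubpairRel p M)
      (conjPair (t * y₁) (⟨Subgroup.zpowers x, b₁⟩ : BrauerPairIdx G)) ⟨P, c⟩ := by
    have := subpairLE_conjPair hy₁ t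
    rwa [conjPair_conjPair, ht] at this
  have hfst : (conjPair (t * y₁) (⟨Subgroup.zpowers x, b₁⟩ : BrauerPairIdx G)).1 =
      (conjPair y₂ (⟨Subgroup.zpowers x, b₂⟩ : BrauerPairIdx G)).1 := by
    show (Subgroup.zpowers x).map (MulAut.conj (t * y₁)).toMonoidHom =
      (Subgroup.zpowers x).map (MulAut.conj y₂).toMonoidHom
    rw [map_conj_zpowers, map_conj_zpowers]
    congr 1
    rw [← htu]
    group
  have heq := subpair_unique hM hmax.1.1 h3 hy₂ hfst
  -- conjugate back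
  have h4 : (⟨Subgroup.zpowers x, b₂⟩ : BrauerPairIdx G) =
      conjPair (y₂⁻¹ * (t * y₁)) ⟨Subgroup.zpowers x, b₁⟩ := by
    rw [← conjPair_conjPair, heq, conjPair_inv_conjPair]
  have hz : y₂⁻¹ * (t * y₁) ∈ Subgroup.centralizer (Subgroup.zpowers x : Set G) := by
    rw [mem_centralizer_zpowers_iff]
    show x * (y₂⁻¹ * (t * y₁)) = y₂⁻¹ * (t * y₁) * x
    have e1 : t * (y₁ * x * y₁⁻¹) * t⁻¹ = y₂ * x * y₂⁻¹ := htu
    have e2 : y₂⁻¹ * (t * y₁) * x = y₂⁻¹ * (t * (y₁ * x * y₁⁻¹) * t⁻¹) * (t * y₁) := by group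
    rw [e2, e1]
    group
  rw [conjPair_eq_self_of_mem_centralizer b₁ hz] at h4
  exact (pairIdx_snd_eq h4).symm

/-- Under a transitive inertial group, two nonidentity elements carrying `B`-pairs are
conjugate. -/
theorem isConj_of_isBrauerPairOf {p : ℕ} [Fact p.Prime] (hM : IsPModular p M)
    {B : Set (IrrCharacter G)} {P : Subgroup G}
    {c : Set (IrrCharacter (Subgroup.centralizer (P : Set G)))}
    (hmax : IsMaximalBrauerPair p M B P c)
    (htrans : ∀ u ∈ P, u ≠ 1 → ∀ v ∈ P, v ≠ 1 →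
      ∃ t : G, conjPair t (⟨P, c⟩ : BrauerPairIdx G) = ⟨P, c⟩ ∧ t * u * t⁻¹ = v)
    (x x' : G) (hx1 : x ≠ 1) (hx1' : x' ≠ 1)
    {b : Set (IrrCharacter (Subgroup.centralizer (Subgroup.zpowers x : Set G)))}
    {b' : Set (IrrCharacter (Subgroup.centralizer (Subgroup.zpowers x' : Set G)))}
    (h : IsBrauerPairOf p M B (Subgroup.zpowers x) b)
    (h' : IsBrauerPairOf p M B (Subgroup.zpowers x') b') : IsConj x x' := by
  obtain ⟨y, hyP, _⟩ := exists_conj_le_of_isBrauerPairOf hM hmax x h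
  obtain ⟨y', hyP', _⟩ := exists_conj_le_of_isBrauerPairOf hM hmax x' h'
  have hne : ∀ (x : G), x ≠ 1 → ∀ y : G, y * x * y⁻¹ ≠ 1 := by
    intro x hx1 y h
    apply hx1
    have : x = y⁻¹ * (y * x * y⁻¹) * y := by group
    rw [this, h]; group
  obtain ⟨t, _, htu⟩ := htrans _ hyP (hne x hx1 y) _ hyP' (hne x' hx1' y')
  rw [isConj_iff]
  refine ⟨y'⁻¹ * t * y, ?_⟩
  have e1 : y'⁻¹ * t * y * x * (y'⁻¹ * t * y)⁻¹ = y'⁻¹ * (t * (y * x * y⁻¹) * t⁻¹) * y' := by group
  rw [e1, htu]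
  group

/-- If the inertial group is `C_G(P)`, distinct elements of `P` give non-conjugate pairs. -/
theorem eq_of_conjPair_eq {p : ℕ} [Fact p.Prime] (hM : IsPModular p M)
    {B : Set (IrrCharacter G)} {P : Subgroup G}
    {c : Set (IrrCharacter (Subgroup.centralizer (P : Set G)))}
    (hmax : IsMaximalBrauerPair p M B P c)
    (hPab : ∀ x ∈ P, ∀ y ∈ P, x * y = y * x)
    (hT1 : ∀ t : G, conjPair t (⟨P, c⟩ : BrauerPairIdx G) = ⟨P, c⟩ →
      t ∈ Subgroup.centralizer (P : Set G))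
    {u' u'' : G} (hu'' : u'' ∈ P)
    {f' : Set (IrrCharacter (Subgroup.centralizer (Subgroup.zpowers u' : Set G)))}
    {f'' : Set (IrrCharacter (Subgroup.centralizer (Subgroup.zpowers u'' : Set G)))}
    (hf' : SubpairLE p M (Subgroup.zpowers u') f' P c)
    (hf'' : SubpairLE p M (Subgroup.zpowers u'') f'' P c)
    {g' g'' : G} (hconj : g' * u' * g'⁻¹ = g'' * u'' * g''⁻¹)
    (hpair : conjPair g' (⟨Subgroup.zpowers u', f'⟩ : BrauerPairIdx G) =
      conjPair g'' ⟨Subgroup.zpowers u'', f''⟩) : u' = u'' := by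
  set z := g'⁻¹ * g'' with hz
  have hzu : z * u'' * z⁻¹ = u' := by
    have : z * u'' * z⁻¹ = g'⁻¹ * (g'' * u'' * g''⁻¹) * g' := by rw [hz]; group
    rw [this, ← hconj]
    group
  have h1 : (⟨Subgroup.zpowers u', f'⟩ : BrauerPairIdx G) =
      conjPair z ⟨Subgroup.zpowers u'', f''⟩ := by
    rw [hz, ← conjPair_conjPair, ← hpair, conjPair_inv_conjPair]
  have h2 : Relation.ReflTransGen (NormalSubpairRel p M)
      (⟨Subgroup.zpowers u', f'⟩ : BrauerPairIdx G) (conjPair z ⟨P, c⟩) := by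
    rw [h1]
    exact subpairLE_conjPair hf'' z
  have hQP : Subgroup.zpowers u' ≤ P := Cfsg.Agent.S4655.le_le hf'
  have hQPz : Subgroup.zpowers u' ≤ P.map (MulAut.conj z).toMonoidHom :=
    Cfsg.Agent.S4655.le_le h2
  have hPC := le_centralizer_of_le_of_comm hPab hQP
  have hPzab : ∀ x ∈ P.map (MulAut.conj z).toMonoidHom,
      ∀ y ∈ P.map (MulAut.conj z).toMonoidHom, x * y = y * x := by
    rintro _ ⟨a, ha, rfl⟩ _ ⟨b, hb, rfl⟩
    show z * a * z⁻¹ * (z * b * z⁻¹) = z * b * z⁻¹ * (z * a * z⁻¹)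
    have := hPab a ha b hb
    calc z * a * z⁻¹ * (z * b * z⁻¹) = z * (a * b) * z⁻¹ := by group
      _ = z * (b * a) * z⁻¹ := by rw [this]
      _ = z * b * z⁻¹ * (z * a * z⁻¹) := by group
  have hPzC := le_centralizer_of_le_of_comm hPzab hQPz
  obtain ⟨t, ht, htz⟩ := exists_mul_conjPair_eq_self_of_le hM hmax hf' hPC
    (x := z) h2 hPzC
  have htC : t ∈ Subgroup.centralizer (Subgroup.zpowers u' : Set G) := by
    have hle : Subgroup.zpowers u' ⊔ Subgroup.centralizer (Subgroup.zpowers u' : Set G) ≤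
        Subgroup.centralizer (Subgroup.zpowers u' : Set G) :=
      sup_le (zpowers_le_centralizer_zpowers u') le_rfl
    exact hle ht
  have htu : t * u' * t⁻¹ = u' := by
    have := (mem_centralizer_zpowers_iff u' t).mp htC
    calc t * u' * t⁻¹ = u' * t * t⁻¹ := by rw [this.eq]
      _ = u' := by group
  have htzC := hT1 _ htz
  have h3 : t * z * u'' * (t * z)⁻¹ = u'' := by
    have := (Subgroup.mem_centralizer_iff.mp htzC) u'' hu''
    calc t * z * u'' * (t * z)⁻¹ = (t * z * u'') * (t * z)⁻¹ := rfl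
      _ = (u'' * (t * z)) * (t * z)⁻¹ := by rw [this]
      _ = u'' := by group
  have h4 : t * z * u'' * (t * z)⁻¹ = t * (z * u'' * z⁻¹) * t⁻¹ := by group
  rw [h4, hzu, htu] at h3
  exact h3

end Cfsg.Agent.Lib.Helper82
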