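import Mathlib
import Cfsg.Agent.Lib.Helper82.KleinPairs
import Cfsg.Agent.Lib.Helper82.KleinAutomizer
import Cfsg.Agent.Lib.Helper82.DegreeSqSum
import Cfsg.Agent.S4511

/-!
# Counting the characters of a block with Klein four defect group

The blocks `b` of `C_G(x)` (in the form `Subgroup.centralizer {x}` of Brauer's count) inducing `B`
correspond to the `B`-pairs on `⟨x⟩`.
-/

set_option autoImplicit false
set_option linter.unusedSectionVars false
set_option linter.style.haveILetI false

namespace Cfsg.Agent.Lib.Helper82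

open Cfsg Cfsg.Agent.Lib.Helper16 Cfsg.Agent.Lib.Helper78 Cfsg.Agent.Lib.Helper77
  Cfsg.Agent.Lib.Helper79
open scoped ComplexConjugate

universe u

variable {G : Type u} [Group G] [Fintype G] {M : Ideal AlgInt}

omit [Fintype G] in
theorem centralizer_zpowers_eq (x : G) :
    Subgroup.centralizer (Subgroup.zpowers x : Set G) = Subgroup.centralizer ({x} : Set G) := by
  ext g
  rw [mem_centralizer_zpowers_iff, Subgroup.mem_centralizer_singleton_iff]
  constructor
  · intro h; exact h.eq.symm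
  · intro h; exact h.symm

/-- Transport of a set of characters of `C_G({x})` to `C_G(⟨x⟩)`. -/
noncomputable def toZ (x : G) (b : Set (IrrCharacter (Subgroup.centralizer ({x} : Set G)))) :
    Set (IrrCharacter (Subgroup.centralizer (Subgroup.zpowers x : Set G))) :=
  pullBlock (MulEquiv.subgroupCongr (centralizer_zpowers_eq x)) b

omit [Fintype G] in
theorem toZ_injective (x : G) : Function.Injective (toZ (G := G) x) :=
  pullBlock_injective _

omit [Fintype G] in
theorem blockRank_toZ (p : ℕ) (x : G)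
    (b : Set (IrrCharacter (Subgroup.centralizer ({x} : Set G)))) :
    blockRank p (toZ x b) = blockRank p b :=
  blockRank_pullBlock p _ b

theorem isInducedBlock_iff_isBrauerPairOf {p : ℕ} [Fact p.Prime] (hM : IsPModular p M)
    {B : Set (IrrCharacter G)} (x : G) (hx : ∃ k : ℕ, orderOf x = p ^ k)
    (b : Set (IrrCharacter (Subgroup.centralizer ({x} : Set G)))) :
    IsInducedBlock M (Subgroup.centralizer ({x} : Set G)) b B ↔
      IsBrauerPairOf p M B (Subgroup.zpowers x) (toZ x b) := by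
  have hQ : IsPGroup p (Subgroup.zpowers x) := by
    obtain ⟨k, hk⟩ := hx
    apply IsPGroup.of_card (n := k)
    rw [Nat.card_zpowers, hk]
  unfold toZ
  rw [← isInducedBlock_subgroupCongr (centralizer_zpowers_eq x) b B]
  constructor
  · intro h
    exact Cfsg.Agent.Lib.Helper16.isBrauerPairOf_of_isInducedBlock hM hQ h
  · intro h
    exact Cfsg.Agent.Lib.Helper16.isInducedBlock_of_isBrauerPairOf hM
      (zpowers_le_centralizer_zpowers x) h

/-- A `B`-pair whose subgroup is `⟨x⟩` comes from a block of `C_G({x})` inducing `B`. -/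
theorem exists_block_of_pair {p : ℕ} [Fact p.Prime] (hM : IsPModular p M)
    {B : Set (IrrCharacter G)} (x : G) (hx : ∃ k : ℕ, orderOf x = p ^ k)
    (a : BrauerPairIdx G) (ha1 : a.1 = Subgroup.zpowers x)
    (ha : IsBrauerPairOf p M B a.1 a.2) :
    ∃ b : Set (IrrCharacter (Subgroup.centralizer ({x} : Set G))),
      IsInducedBlock M (Subgroup.centralizer ({x} : Set G)) b B ∧
        (⟨Subgroup.zpowers x, toZ x b⟩ : BrauerPairIdx G) = a := by
  obtain ⟨Q, f⟩ := a
  simp only at ha1 ha
  subst ha1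
  refine ⟨pullBlock (MulEquiv.subgroupCongr (centralizer_zpowers_eq x).symm) f, ?_, ?_⟩
  · rw [isInducedBlock_iff_isBrauerPairOf hM x hx]
    have : toZ x (pullBlock (MulEquiv.subgroupCongr (centralizer_zpowers_eq x).symm) f) = f := by
      unfold toZ pullBlock
      rw [Set.image_image]
      have : ∀ χ, irrPull (MulEquiv.subgroupCongr (centralizer_zpowers_eq x))
          (irrPull (MulEquiv.subgroupCongr (centralizer_zpowers_eq x).symm) χ) = χ := by
        intro χ
        apply Subtype.ext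
        funext k
        rfl
      simp only [this, Set.image_id']
    rw [this]
    exact ha
  · congr 1
    unfold toZ pullBlock
    rw [Set.image_image]
    have : ∀ χ, irrPull (MulEquiv.subgroupCongr (centralizer_zpowers_eq x))
        (irrPull (MulEquiv.subgroupCongr (centralizer_zpowers_eq x).symm) χ) = χ := by
      intro χ
      apply Subtype.ext
      funext k
      rfl
    simp only [this, Set.image_id']

/-- The set of blocks of `C_G({x})` inducing `B`. -/
def indSet (M : Ideal AlgInt) (B : Set (IrrCharacter G)) (x : G) :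
    Set (Set (IrrCharacter (Subgroup.centralizer ({x} : Set G)))) :=
  {b | IsInducedBlock M (Subgroup.centralizer ({x} : Set G)) b B}

omit [Fintype G] in
theorem finsum_mem_eq_ncard_of_forall_eq_one {α : Type*} [Finite α] (S : Set α) (f : α → ℕ)
    (h : ∀ b ∈ S, f b = 1) : ∑ᶠ b ∈ S, f b = S.ncard := by
  classical
  have hfin : S.Finite := Set.toFinite S
  rw [finsum_mem_eq_finite_toFinset_sum _ hfin, Set.ncard_eq_toFinset_card S hfin]
  rw [Finset.card_eq_sum_ones]
  apply Finset.sum_congr rfl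
  intro b hb
  exact h b ((Set.Finite.mem_toFinset hfin).mp hb)

/-- The identity contributes the rank of `B` to Brauer's count. -/
theorem finsum_indSet_one {p : ℕ} [Fact p.Prime] (hM : IsPModular p M)
    {B : Set (IrrCharacter G)} (hB : IsPBlock M B) :
    ∑ᶠ b ∈ indSet M B (1 : G), blockRank p b = blockRank p B := by
  classical
  haveI hMp := isPModular_isPrime hM
  have htop : Subgroup.centralizer ({1} : Set G) = ⊤ := by
    ext g
    simp [Subgroup.mem_centralizer_singleton_iff]
  haveI : Fintype ↥(Subgroup.centralizer ({(1 : G)} : Set G)) := Fintype.ofFinite _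
  have hset : indSet M B (1 : G) = {pullBlock (topEquivOf htop) B} := by
    ext b
    rw [Set.mem_singleton_iff]
    constructor
    · intro hb
      exact (isInducedBlock_iff_of_eq_top htop hb.1 hB).mp hb
    · rintro rfl
      exact (isInducedBlock_iff_of_eq_top htop (isPBlock_pullBlock _ hB) hB).mpr rfl
  rw [hset, finsum_mem_singleton, blockRank_pullBlock]

section Klein

variable {B : Set (IrrCharacter G)} {P : Subgroup G}
  {c : Set (IrrCharacter (Subgroup.centralizer (P : Set G)))}

/-- All blocks in `indSet` at a nontrivial `2`-element have rank one. -/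
theorem blockRank_eq_one_of_mem_indSet (hM : IsPModular 2 M)
    (hmax : IsMaximalBrauerPair 2 M B P c) (hP4 : Nat.card P = 4)
    (hPab : ∀ x ∈ P, ∀ y ∈ P, x * y = y * x) (x : G) (hx1 : x ≠ 1)
    (hx : ∃ k : ℕ, orderOf x = 2 ^ k)
    {b : Set (IrrCharacter (Subgroup.centralizer ({x} : Set G)))} (hb : b ∈ indSet M B x) :
    blockRank 2 b = 1 := by
  haveI : Fact (Nat.Prime 2) := ⟨Nat.prime_two⟩
  have h1 := (isInducedBlock_iff_isBrauerPairOf hM x hx b).mp hb
  rw [← blockRank_toZ 2 x b]
  exact (local_block_facts hM hmax hP4 hPab x hx1 hx h1).2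

/-- Transitive case: the nonidentity representatives contribute at most one to Brauer's count. -/
theorem sum_indSet_le_one [DecidableEq G] (hM : IsPModular 2 M)
    (hmax : IsMaximalBrauerPair 2 M B P c) (hP4 : Nat.card P = 4)
    (hPab : ∀ x ∈ P, ∀ y ∈ P, x * y = y * x)
    (htrans : ∀ u ∈ P, u ≠ 1 → ∀ v ∈ P, v ≠ 1 →
      ∃ t : G, conjPair t (⟨P, c⟩ : BrauerPairIdx G) = ⟨P, c⟩ ∧ t * u * t⁻¹ = v)
    (X : Finset G) (hX : ∀ x ∈ X, ∃ k : ℕ, orderOf x = 2 ^ k)
    (hXrep : ∀ g : G, (∃ k : ℕ, orderOf g = 2 ^ k) → ∃! x, x ∈ X ∧ IsConj g x) :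
    ∑ x ∈ X.erase 1, ∑ᶠ b ∈ indSet M B x, blockRank 2 b ≤ 1 := by
  classical
  haveI : Fact (Nat.Prime 2) := ⟨Nat.prime_two⟩
  -- each term is the cardinality of `indSet`, at most one
  have hterm : ∀ x ∈ X.erase 1, ∑ᶠ b ∈ indSet M B x, blockRank 2 b = (indSet M B x).ncard := by
    intro x hx
    have hx1 : x ≠ 1 := (Finset.mem_erase.mp hx).1
    have hxX : x ∈ X := (Finset.mem_erase.mp hx).2
    exact finsum_mem_eq_ncard_of_forall_eq_one _ _
      (fun b hb => blockRank_eq_one_of_mem_indSet hM hmax hP4 hPab x hx1 (hX x hxX) hb)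
  have hle1 : ∀ x ∈ X.erase 1, (indSet M B x).ncard ≤ 1 := by
    intro x hx
    have hx1 : x ≠ 1 := (Finset.mem_erase.mp hx).1
    have hxX : x ∈ X := (Finset.mem_erase.mp hx).2
    rw [Set.ncard_le_one_iff]
    intro b b' hb hb'
    have h1 := (isInducedBlock_iff_isBrauerPairOf hM x (hX x hxX) b).mp hb
    have h2 := (isInducedBlock_iff_isBrauerPairOf hM x (hX x hxX) b').mp hb'
    exact toZ_injective x (local_block_unique hM hmax htrans x hx1 h1 h2)
  rw [Finset.sum_congr rfl hterm]
  by_cases hall : ∀ x ∈ X.erase 1, (indSet M B x).ncard = 0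
  · rw [Finset.sum_congr rfl hall]
    simp
  · push Not at hall
    obtain ⟨x₀, hx₀, hx₀ne⟩ := hall
    rw [Finset.sum_eq_single_of_mem x₀ hx₀]
    · exact hle1 x₀ hx₀
    · intro x hx hne
      by_contra hcon
      apply hne
      have hx1 : x ≠ 1 := (Finset.mem_erase.mp hx).1
      have hxX : x ∈ X := (Finset.mem_erase.mp hx).2
      have hx₀1 : x₀ ≠ 1 := (Finset.mem_erase.mp hx₀).1
      have hx₀X : x₀ ∈ X := (Finset.mem_erase.mp hx₀).2
      obtain ⟨b, hb⟩ : (indSet M B x).Nonempty := by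
        rw [← Set.ncard_pos]
        exact Nat.pos_of_ne_zero hcon
      obtain ⟨b₀, hb₀⟩ : (indSet M B x₀).Nonempty := by
        rw [← Set.ncard_pos]
        exact Nat.pos_of_ne_zero hx₀ne
      have h1 := (isInducedBlock_iff_isBrauerPairOf hM x (hX x hxX) b).mp hb
      have h2 := (isInducedBlock_iff_isBrauerPairOf hM x₀ (hX x₀ hx₀X) b₀).mp hb₀
      have hconj : IsConj x x₀ := isConj_of_isBrauerPairOf hM hmax htrans x x₀ hx1 hx₀1 h1 h2
      obtain ⟨y, _, hy⟩ := hXrep x (hX x hxX)
      have e1 : x = y := hy x ⟨hxX, IsConj.refl x⟩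
      have e2 : x₀ = y := hy x₀ ⟨hx₀X, hconj⟩
      rw [e1, e2]

/-- Trivial inertial quotient: the nonidentity representatives contribute at least three to
Brauer's count. -/
theorem three_le_sum_indSet [DecidableEq G] (hM : IsPModular 2 M)
    (hmax : IsMaximalBrauerPair 2 M B P c) (hP4 : Nat.card P = 4)
    (hPab : ∀ x ∈ P, ∀ y ∈ P, x * y = y * x)
    (hT1 : ∀ t : G, conjPair t (⟨P, c⟩ : BrauerPairIdx G) = ⟨P, c⟩ →
      t ∈ Subgroup.centralizer (P : Set G))
    (X : Finset G) (hX : ∀ x ∈ X, ∃ k : ℕ, orderOf x = 2 ^ k)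
    (hXrep : ∀ g : G, (∃ k : ℕ, orderOf g = 2 ^ k) → ∃! x, x ∈ X ∧ IsConj g x) :
    3 ≤ ∑ x ∈ X.erase 1, ∑ᶠ b ∈ indSet M B x, blockRank 2 b := by
  classical
  haveI : Fact (Nat.Prime 2) := ⟨Nat.prime_two⟩
  have hPe : IsBrauerPair 2 M P c := hmax.1.1
  have hterm : ∀ x ∈ X.erase 1, ∑ᶠ b ∈ indSet M B x, blockRank 2 b = (indSet M B x).ncard := by
    intro x hx
    have hx1 : x ≠ 1 := (Finset.mem_erase.mp hx).1
    have hxX : x ∈ X := (Finset.mem_erase.mp hx).2
    exact finsum_mem_eq_ncard_of_forall_eq_one _ _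
      (fun b hb => blockRank_eq_one_of_mem_indSet hM hmax hP4 hPab x hx1 (hX x hxX) hb)
  rw [Finset.sum_congr rfl hterm]
  -- the nonidentity elements of `P`
  set Pn : Finset G := Finset.univ.filter (fun u : G => u ∈ P ∧ u ≠ 1) with hPn
  have hPncard : Pn.card = 3 := by
    have h1 := card_nonId P hP4
    rw [Nat.card_eq_fintype_card, Fintype.card_subtype] at h1
    exact h1
  have hord : ∀ u ∈ Pn, ∃ k : ℕ, orderOf u = 2 ^ k := by
    intro u hu
    have huP : u ∈ P := (Finset.mem_filter.mp hu).2.1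
    have h1 : orderOf u ∣ 2 ^ 2 := by
      have := orderOf_dvd_natCard (⟨u, huP⟩ : P)
      rw [hP4, ← Subgroup.orderOf_coe] at this
      exact this
    obtain ⟨k, _, hk⟩ := (Nat.dvd_prime_pow Nat.prime_two).mp h1
    exact ⟨k, hk⟩
  -- representatives
  have hrep : ∀ u : G, ∃ x : G, u ∈ Pn → x ∈ X.erase 1 ∧ IsConj u x := by
    intro u
    by_cases hu : u ∈ Pn
    · obtain ⟨x, ⟨hxX, hconj⟩, _⟩ := hXrep u (hord u hu)
      refine ⟨x, fun _ => ⟨Finset.mem_erase.mpr ⟨?_, hxX⟩, hconj⟩⟩
      rintro rfl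
      have : u = 1 := by
        obtain ⟨y, hy⟩ := isConj_iff.mp hconj
        have : u = y⁻¹ * (y * u * y⁻¹) * y := by group
        rw [this, hy]; group
      exact (Finset.mem_filter.mp hu).2.2 this
    · exact ⟨1, fun h => absurd h hu⟩
  choose ρ hρ using hrep
  have hfib : ∀ x ∈ X.erase 1, (Pn.filter (fun u => ρ u = x)).card ≤ (indSet M B x).ncard := by
    intro x hx
    have hx1 : x ≠ 1 := (Finset.mem_erase.mp hx).1
    have hxX : x ∈ X := (Finset.mem_erase.mp hx).2
    set F := Pn.filter (fun u => ρ u = x) with hF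
    have hex : ∀ u ∈ F, ∃ (γ : G)
        (f : Set (IrrCharacter (Subgroup.centralizer (Subgroup.zpowers u : Set G))))
        (b : Set (IrrCharacter (Subgroup.centralizer ({x} : Set G)))),
        γ * u * γ⁻¹ = x ∧ SubpairLE 2 M (Subgroup.zpowers u) f P c ∧ b ∈ indSet M B x ∧
        (⟨Subgroup.zpowers x, toZ x b⟩ : BrauerPairIdx G) =
          conjPair γ ⟨Subgroup.zpowers u, f⟩ := by
      intro u hu
      obtain ⟨huPn, hρu⟩ := Finset.mem_filter.mp hu
      have huP : u ∈ P := (Finset.mem_filter.mp huPn).2.1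
      have hconj : IsConj u x := by
        rw [← hρu]
        exact (hρ u huPn).2
      obtain ⟨γ, hγ⟩ := isConj_iff.mp hconj
      have hQP : Subgroup.zpowers u ≤ P := Subgroup.zpowers_le.mpr huP
      obtain ⟨f, hf, hfle⟩ := Cfsg.Agent.S4655.exists_le hM
        (Nat.card P - Nat.card (Subgroup.zpowers u)) (⟨P, c⟩ : BrauerPairIdx G) hPe _ hQP le_rfl
      have hfB : IsBrauerPairOf 2 M B (Subgroup.zpowers u) f :=
        (Cfsg.Agent.S4658.chain_iff 2 M hM B _ _ hfle).mp hmax.1
      have hfB' := isBrauerPairOf_conj hfB γ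
      have ha1 : (conjPair γ (⟨Subgroup.zpowers u, f⟩ : BrauerPairIdx G)).1 =
          Subgroup.zpowers x := by
        show (Subgroup.zpowers u).map (MulAut.conj γ).toMonoidHom = _
        rw [map_conj_zpowers, hγ]
      obtain ⟨b, hb, hbeq⟩ := exists_block_of_pair hM x (hX x hxX)
        (conjPair γ (⟨Subgroup.zpowers u, f⟩ : BrauerPairIdx G)) ha1 hfB'
      exact ⟨γ, f, b, hγ, hfle, hb, hbeq⟩
    choose γ f b hγ hf hb hbeq using hex
    have hfin : (indSet M B x).Finite := Set.toFinite _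
    rw [Set.ncard_eq_toFinset_card _ hfin, ← Finset.card_attach]
    apply Finset.card_le_card_of_injOn (fun u => b u.1 u.2)
    · intro u _
      exact (Set.Finite.mem_toFinset hfin).mpr (hb u.1 u.2)
    · intro u _ v _ huv
      simp only at huv
      have hpair : conjPair (γ u.1 u.2) (⟨Subgroup.zpowers u.1, f u.1 u.2⟩ : BrauerPairIdx G) =
          conjPair (γ v.1 v.2) ⟨Subgroup.zpowers v.1, f v.1 v.2⟩ := by
        rw [← hbeq u.1 u.2, ← hbeq v.1 v.2, huv]
      have hvP : v.1 ∈ P :=
        (Finset.mem_filter.mp (Finset.mem_filter.mp v.2).1).2.1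
      have := eq_of_conjPair_eq hM hmax hPab hT1 hvP (hf u.1 u.2) (hf v.1 v.2)
        (by rw [hγ u.1 u.2, hγ v.1 v.2]) hpair
      exact Subtype.ext this
  calc 3 = Pn.card := hPncard.symm
    _ = ∑ x ∈ X.erase 1, (Pn.filter (fun u => ρ u = x)).card :=
        Finset.card_eq_sum_card_fiberwise (fun u hu => (hρ u hu).1)
    _ ≤ ∑ x ∈ X.erase 1, (indSet M B x).ncard := Finset.sum_le_sum hfib

end Klein

end Cfsg.Agent.Lib.Helper82
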