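import Mathlib
import Cfsg.Agent.Lib.Helper82.IsoSection
import Cfsg.Agent.Lib.Helper82.KleinCount
import Cfsg.Agent.Lib.Helper78.SMTOrtho2

/-!
# The values of the characters of a Klein four block on the `2`-singular elements

For a `2`-block `B` with Klein four defect group and a `2`-singular element `x`, the values
`χ(x)` (`χ ∈ B`) are `∑_k δ_k(χ) A_k` with signs `δ_k(χ)` and algebraic integers `A_k` with
`4 A_k / |C_G(x)|` local integers; the index `k` runs over the blocks of the centralizer of the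
`2`-part of `x` inducing `B`.
-/

set_option autoImplicit false
set_option linter.unusedSectionVars false
set_option linter.style.haveILetI false

namespace Cfsg.Agent.Lib.Helper82

open Cfsg Finset Cfsg.Agent.Lib.Helper16 Cfsg.Agent.Lib.Helper78 Cfsg.Agent.Lib.Helper79
open scoped ComplexConjugate

universe u

section Blocks

variable {H : Type u} [Group H] [Fintype H] {M : Ideal AlgInt}

open scoped Classical in
/-- The finite set of the blocks contained in a union of blocks. -/
noncomputable def blocksIn (M : Ideal AlgInt) (T : Set (IrrCharacter H)) :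
    Finset (Set (IrrCharacter H)) :=
  (Finset.univ.filter (fun ξ : IrrCharacter H => ξ ∈ T)).image
    (fun ξ : IrrCharacter H => blockOf M (ξ : H → ℂ))

open scoped Classical in
theorem mem_blocksIn [hMp : M.IsPrime] {T : Set (IrrCharacter H)} {b : Set (IrrCharacter H)} :
    b ∈ blocksIn M T ↔ ∃ ξ ∈ T, b = blockOf M (ξ : H → ℂ) := by
  unfold blocksIn
  rw [Finset.mem_image]
  constructor
  · rintro ⟨ξ, hξ, rfl⟩
    exact ⟨ξ, (Finset.mem_filter.mp hξ).2, rfl⟩
  · rintro ⟨ξ, hξ, rfl⟩
    exact ⟨ξ, Finset.mem_filter.mpr ⟨Finset.mem_univ _, hξ⟩, rfl⟩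

open scoped Classical in
/-- The part of a function in a union of blocks is the sum of its parts in the blocks. -/
theorem blockPart_eq_sum_blocksIn [hMp : M.IsPrime] (T : Set (IrrCharacter H))
    (hT : ∀ ξ ξ' : IrrCharacter H, ξ ∈ T → SameBlock M (ξ : H → ℂ) (ξ' : H → ℂ) → ξ' ∈ T)
    (f : H → ℂ) (y : H) :
    blockPart T f y = ∑ b ∈ blocksIn M T, blockPart b f y := by
  rw [blockPart_apply]
  unfold blocksIn
  rw [← Finset.sum_fiberwise_of_maps_to (t := (Finset.univ.filter
    (fun ξ : IrrCharacter H => ξ ∈ T)).image (fun ξ : IrrCharacter H => blockOf M (ξ : H → ℂ)))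
    (g := fun ξ : IrrCharacter H => blockOf M (ξ : H → ℂ))
    (fun ξ hξ => Finset.mem_image_of_mem _ hξ)]
  apply Finset.sum_congr rfl
  intro b hb
  rw [blockPart_apply]
  apply Finset.sum_congr
  · ext ξ
    simp only [Finset.mem_filter, Finset.mem_univ, true_and]
    obtain ⟨ξ₀, hξ₀, rfl⟩ := Finset.mem_image.mp hb
    have hξ₀T : ξ₀ ∈ T := (Finset.mem_filter.mp hξ₀).2
    constructor
    · rintro ⟨_, h2⟩
      rw [← h2]
      exact self_mem_blockOf hMp.ne_top ξ
    · intro h
      exact ⟨hT ξ₀ ξ hξ₀T h, blockOf_eq_of_mem h⟩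
  · intro ξ _
    rfl

end Blocks

section Local

variable {G : Type u} [Group G] [Fintype G] {M : Ideal AlgInt}

open scoped Classical in
/-- **Divisibility of the parts of a character.** -/
theorem memLocalRing_four_mul_secPart_div (hM : IsPModular 2 M) (u : G)
    (hu : ∃ k : ℕ, orderOf u = 2 ^ k) (H : Subgroup G) [Fintype H]
    (hH : ∀ g : G, g ∈ H ↔ Commute u g) {b : Set (IrrCharacter H)} (hdb : blockDefect 2 b = 2)
    (χ : IrrCharacter G) (s : H) (hs : ¬ 2 ∣ orderOf s) :
    MemLocalRing M (4 * secPart u H b (χ : G → ℂ) s /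
      (Nat.card (Subgroup.centralizer ({u * (s : G)} : Set G)) : ℂ)) := by
  haveI : Fact (Nat.Prime 2) := ⟨Nat.prime_two⟩
  haveI hMp := isPModular_isPrime hM
  have huH : u ∈ H := (hH u).mpr (Commute.refl u)
  obtain ⟨z, hzu⟩ : ∃ z : H, (z : G) = u := ⟨⟨u, huH⟩, rfl⟩
  have hzc : z ∈ Subgroup.center H := by
    rw [Subgroup.mem_center_iff]
    intro h
    apply Subtype.ext
    simp only [Subgroup.coe_mul, hzu]
    exact ((hH h).mp h.2).eq.symm
  rw [card_centralizer_mul_eq_gen u hu H hH s hs]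
  have h1 := secPart_apply_eq H b χ hzc s
  rw [hzu] at h1
  rw [h1, Finset.mul_sum, Finset.sum_div]
  apply memLocalRing_sum
  intro ξ hξ
  have hξb : ξ ∈ b := (Finset.mem_filter.mp hξ).2
  have h2 := memLocalRing_pow_mul_apply_div hM hξb s
  rw [hdb] at h2
  have h3 : MemLocalRing M ((resMult H χ ξ : ℂ) * cScalar ξ z) :=
    memLocalRing_mul (memLocalRing_natCast hMp.ne_top _)
      (memLocalRing_of_isIntegral hMp.ne_top (Cfsg.Agent.Lib.Helper75.isIntegral_cScalar ξ hzc))
  have h4 := memLocalRing_mul h3 h2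
  convert h4 using 1
  push_cast
  ring

open scoped Classical in
/-- If the sum of the members of `B` vanishes on the `2`-singular elements, the signs of a
nontrivial subsection of rank one add up to zero. -/
theorem sum_sign_eq_zero (hM : IsPModular 2 M) {B : Set (IrrCharacter G)}
    (hS1 : ∀ y : G, 2 ∣ orderOf y →
      ∑ χ ∈ Finset.univ.filter (fun χ : IrrCharacter G => χ ∈ B), (χ : G → ℂ) y = 0)
    (u : G) (hu1 : u ≠ 1) (hu : ∃ k : ℕ, orderOf u = 2 ^ k) (H : Subgroup G) [Fintype H]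
    (hH : ∀ g : G, g ∈ H ↔ Commute u g) {b : Set (IrrCharacter H)} (hb : IsPBlock M b)
    {χ₀ : IrrCharacter G} (δ : IrrCharacter G → ℤ)
    (hδ : ∀ χ ∈ B, ∀ s : H, ¬ 2 ∣ orderOf s →
        secPart u H b (χ : G → ℂ) s = (δ χ : ℂ) * secPart u H b (χ₀ : G → ℂ) s)
    (hne : ∃ s : H, ¬ 2 ∣ orderOf s ∧ secPart u H b (χ₀ : G → ℂ) s ≠ 0) :
    ∑ χ ∈ Finset.univ.filter (fun χ : IrrCharacter G => χ ∈ B), δ χ = 0 := by
  haveI : Fact (Nat.Prime 2) := ⟨Nat.prime_two⟩
  haveI hMp := isPModular_isPrime hM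
  obtain ⟨s, hs, hs0⟩ := hne
  set S := Finset.univ.filter (fun χ : IrrCharacter G => χ ∈ B) with hS
  -- the sum of the parts vanishes
  have h1 : ∑ χ ∈ S, secPart u H b (χ : G → ℂ) s = 0 := by
    have h2 : blockPart b (fun c : H => ∑ χ ∈ S, (χ : G → ℂ) (u * (c : G))) s = 0 := by
      apply blockPart_eq_zero_of_vanish_pRegular hM hb _ hs
      intro c hc
      apply hS1
      -- `u * c` is singular
      have hpp := isPPart_mul_of_mem_gen u hu H hH c hc
      by_contra hreg
      have h1' : IsPPart 2 (u * (c : G)) 1 :=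
        ⟨u * (c : G), one_mul _, Commute.one_left _, ⟨0, by simp⟩, hreg⟩
      exact hu1 (isPPart_unique hpp h1')
    have h3 : (fun c : H => ∑ χ ∈ S, (χ : G → ℂ) (u * (c : G))) =
        ∑ χ ∈ S, (1 : ℂ) • (fun c : H => (χ : G → ℂ) (u * (c : G))) := by
      funext c
      rw [Finset.sum_apply]
      simp
    rw [h3, blockPart_sum_smul] at h2
    simpa [secPart] using h2
  have h4 : (∑ χ ∈ S, (δ χ : ℂ)) * secPart u H b (χ₀ : G → ℂ) s = 0 := by
    rw [Finset.sum_mul, ← h1]
    apply Finset.sum_congr rfl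
    intro χ hχ
    exact (hδ χ (Finset.mem_filter.mp hχ).2 s hs).symm
  rcases mul_eq_zero.mp h4 with h | h
  · exact_mod_cast h
  · exact absurd h hs0

end Local

end Cfsg.Agent.Lib.Helper82
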