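import Cfsg.Agent.Lib.Helper16.NilCentralizer
import Cfsg.Agent.Lib.Helper16.MaxPair
import Cfsg.Agent.Lib.Helper82.KleinCount

/-!
# Local blocks of a block with abelian defect group and trivial inertial quotient (helper82)

If `(P, c)` is a maximal `B`-pair with `P` abelian and `N_G(P, c) = C_G(P)`, and `Q ≤ P`, then the
block `f` of `C_G(Q)` with `(Q, f) ≤ (P, c)` has the restricted pair as a maximal pair, again with
trivial inertial quotient.
-/

set_option autoImplicit false

namespace Cfsg.Agent.Lib.Helper82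

open Cfsg MonoidAlgebra Cfsg.Agent.Lib.Helper77 Cfsg.Agent.Lib.Helper16
open scoped ComplexConjugate

universe u

variable {G : Type u} [Group G] [Fintype G] {M : Ideal AlgInt}

namespace NilAbel

/-- The hypothesis of Theorem N: some maximal `B`-pair `(P, c)` has `P` abelian and trivial
inertial quotient. -/
def TrivInertial {H : Type u} [Group H] (p : ℕ) (M : Ideal AlgInt) (b : Set (IrrCharacter H))
    (D : Subgroup H) : Prop :=
  ∃ c : Set (IrrCharacter (Subgroup.centralizer (D : Set H))),
    IsMaximalBrauerPair p M b D c ∧ (∀ x ∈ D, ∀ y ∈ D, x * y = y * x) ∧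
    ∀ t : H, conjPair t (⟨D, c⟩ : BrauerPairIdx H) = ⟨D, c⟩ →
      t ∈ Subgroup.centralizer (D : Set H)

variable {B : Set (IrrCharacter G)} {P : Subgroup G}
  {c : Set (IrrCharacter (Subgroup.centralizer (P : Set G)))}

/-- If `(P_L, c_L)` (the restriction of the maximal `B`-pair `(P, c)` to `L = C_G(Q)`, `Q ≤ P`
abelian) is a pair of the block `f` of `L`, and the elements of `N_G(P, c)` centralizing `Q`
centralize `P`, then `f` has trivial inertial quotient. -/
theorem trivInertial_of_isBrauerPairOf {p : ℕ} [Fact p.Prime] (hM : IsPModular p M)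
    (hmax : IsMaximalBrauerPair p M B P c)
    (hPab : ∀ x ∈ P, ∀ y ∈ P, x * y = y * x)
    {Q : Subgroup G} (hQP : Q ≤ P) (hPL : P ≤ Subgroup.centralizer (Q : Set G))
    (hCP : Subgroup.centralizer (P : Set G) ≤ Subgroup.centralizer (Q : Set G))
    {f : Set (IrrCharacter (Subgroup.centralizer (Q : Set G)))}
    (hpair : IsBrauerPairOf p M f (P.subgroupOf (Subgroup.centralizer (Q : Set G)))
      (pullBlock (centEquivIn (Subgroup.centralizer (Q : Set G)) P hPL hCP) c))
    (hloc : ∀ t ∈ Subgroup.centralizer (Q : Set G),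
      conjPair t (⟨P, c⟩ : BrauerPairIdx G) = ⟨P, c⟩ → t ∈ Subgroup.centralizer (P : Set G)) :
    TrivInertial p M f (P.subgroupOf (Subgroup.centralizer (Q : Set G))) := by
  classical
  have : Fintype ↥(Subgroup.centralizer (Q : Set G)) := Fintype.ofFinite _
  have hQL : Q ≤ Subgroup.centralizer (Q : Set G) := hQP.trans hPL
  have hmaxK := isMaximalBrauerPair_restrictPair hM hmax hQL le_rfl hQP hPL hCP hpair
  refine ⟨pullBlock (centEquivIn (Subgroup.centralizer (Q : Set G)) P hPL hCP) c,
    hmaxK, ?_, ?_⟩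
  · intro x hx y hy
    apply Subtype.ext
    exact hPab _ (Subgroup.mem_subgroupOf.mp hx) _ (Subgroup.mem_subgroupOf.mp hy)
  · intro t ht
    have ha' : P.map (MulAut.conj (t : G)).toMonoidHom ≤ Subgroup.centralizer (Q : Set G) :=
      map_conj_le_of_mem hPL t.2
    have hC' : Subgroup.centralizer ((P.map (MulAut.conj (t : G)).toMonoidHom : Subgroup G) :
        Set G) ≤ Subgroup.centralizer (Q : Set G) := centralizer_map_conj_le hCP t.2
    have h1 := restrictPair_conjPair (Subgroup.centralizer (Q : Set G)) P c hPL hCP t ha' hC'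
    have ht' : conjPair t (restrictPair (Subgroup.centralizer (Q : Set G))
        (⟨P, c⟩ : BrauerPairIdx G) hPL hCP) =
        restrictPair (Subgroup.centralizer (Q : Set G)) (⟨P, c⟩ : BrauerPairIdx G) hPL hCP := ht
    rw [ht'] at h1
    have h2 : (⟨P.map (MulAut.conj (t : G)).toMonoidHom, conjBlock P (t : G) c⟩ :
        BrauerPairIdx G) = ⟨P, c⟩ :=
      restrictPair_injective (a := (⟨P.map (MulAut.conj (t : G)).toMonoidHom,
        conjBlock P (t : G) c⟩ : BrauerPairIdx G)) (b := (⟨P, c⟩ : BrauerPairIdx G))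
        ha' hC' hPL hCP h1
    have h3 : (t : G) ∈ Subgroup.centralizer (P : Set G) := hloc (t : G) t.2 h2
    exact mk_mem_centralizer_of_subgroupOf _ P t.2 h3

/-- The block `f` of `C_G(Q)` below `(P, c)` has the restricted pair as a Brauer pair. -/
theorem exists_local_pair {p : ℕ} [Fact p.Prime] (hM : IsPModular p M)
    (hmax : IsMaximalBrauerPair p M B P c)
    {Q : Subgroup G} (hQP : Q ≤ P) (hPL : P ≤ Subgroup.centralizer (Q : Set G))
    (hCP : Subgroup.centralizer (P : Set G) ≤ Subgroup.centralizer (Q : Set G)) :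
    ∃ f : Set (IrrCharacter (Subgroup.centralizer (Q : Set G))),
      SubpairLE p M Q f P c ∧ IsBrauerPairOf p M B Q f ∧
      IsBrauerPairOf p M f (P.subgroupOf (Subgroup.centralizer (Q : Set G)))
        (pullBlock (centEquivIn (Subgroup.centralizer (Q : Set G)) P hPL hCP) c) := by
  classical
  have hPe : IsBrauerPair p M P c := hmax.1.1
  have : Fintype ↥(Subgroup.centralizer (Q : Set G)) := Fintype.ofFinite _
  obtain ⟨f₀, hf₀, hle⟩ := Cfsg.Agent.S4655.exists_le hM
    (Nat.card P - Nat.card Q) (⟨P, c⟩ : BrauerPairIdx G) hPe Q hQP le_rfl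
  have hfB : IsBrauerPairOf p M B Q f₀ :=
    (Cfsg.Agent.S4658.chain_iff p M hM B _ _ hle).mp hmax.1
  have hPN : P ≤ Subgroup.normalizer (Q : Set G) :=
    hPL.trans (Subgroup.centralizer_le_normalizer _)
  have hN : IsNormalSubpair p M Q f₀ P c := isNormalSubpair_of_subpairLE hM hPe hle hPN
  have hF'f : ∀ t : ↥(Subgroup.centralizer (Q : Set G)),
      blockCoeff f₀ t = subgroupBlockCoeff (Subgroup.centralizer (Q : Set G)) f₀ (t : G) := by
    intro t
    unfold subgroupBlockCoeff
    rw [dif_pos t.2]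
  exact ⟨f₀, hle, hfB, isBrauerPairOf_subgroupOf_of_isNormalSubpair le_rfl hf₀ hF'f hPL hN⟩

/-- The local block at `Q ≤ P`. -/
theorem exists_local_block {p : ℕ} [Fact p.Prime] (hM : IsPModular p M)
    (hmax : IsMaximalBrauerPair p M B P c)
    (hPab : ∀ x ∈ P, ∀ y ∈ P, x * y = y * x)
    (hT1 : ∀ t : G, conjPair t (⟨P, c⟩ : BrauerPairIdx G) = ⟨P, c⟩ →
      t ∈ Subgroup.centralizer (P : Set G))
    {Q : Subgroup G} (hQP : Q ≤ P) :
    ∃ f : Set (IrrCharacter (Subgroup.centralizer (Q : Set G))),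
      SubpairLE p M Q f P c ∧ IsBrauerPairOf p M B Q f ∧
      TrivInertial p M f (P.subgroupOf (Subgroup.centralizer (Q : Set G))) := by
  have hPL : P ≤ Subgroup.centralizer (Q : Set G) := by
    intro y hy
    rw [Subgroup.mem_centralizer_iff]
    intro q hq
    exact hPab q (hQP hq) y hy
  have hCP : Subgroup.centralizer (P : Set G) ≤ Subgroup.centralizer (Q : Set G) :=
    Subgroup.centralizer_le hQP
  obtain ⟨f, hle, hfB, hpair⟩ := exists_local_pair hM hmax hQP hPL hCP
  exact ⟨f, hle, hfB, trivInertial_of_isBrauerPairOf hM hmax hPab hQP hPL hCP hpair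
    (fun t _ ht => hT1 t ht)⟩

omit [Fintype G] in
/-- Transport of defect groups along an equality of subgroups. -/
theorem isDefectGroup_pullBlock_subgroupCongr {p : ℕ} {H₁ H₂ : Subgroup G} (h : H₁ = H₂)
    (b : Set (IrrCharacter H₂)) (D : Subgroup G) :
    IsDefectGroup p M (pullBlock (MulEquiv.subgroupCongr h) b) (D.subgroupOf H₁) ↔
      IsDefectGroup p M b (D.subgroupOf H₂) := by
  subst h
  have : MulEquiv.subgroupCongr (rfl : H₁ = H₁) = MulEquiv.refl _ := by
    ext x
    rfl
  rw [this, pullBlock_refl]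

end NilAbel

end Cfsg.Agent.Lib.Helper82
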