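import Cfsg.Agent.Lib.Helper16.MaxPair
import Cfsg.Agent.Lib.Helper16.Covering
import Cfsg.Agent.Lib.Helper16.BlockTransport
import Cfsg.Agent.Lib.Helper16.PIndex
import Cfsg.Agent.Lib.Helper16.Nilpotent
import Cfsg.Agent.S0918
import Cfsg.Agent.S0958

/-!
# Extended first main theorem (helper82)

* `isDefectGroup_subgroupOf_of_isInducedBlock`: if `P` is a defect group of `B`, `P ≤ H ≤ N_G(P)`
  and the block `b` of `H` induces `B`, then `b` has defect group `P` (viewed in `H`).
* `brauerCentralChar_over`: for `C_G(P) ≤ H ≤ L ≤ N_G(P)` with `H` normal in `L`, the Brauer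
  central character of `χ ∈ Irr(L)` equals that of any constituent `θ ∈ Irr(H)` of `χ`.
* `exists_conj_of_isInducedBlock`: two blocks of `H` (normal in `N_G(P)`) inducing the block `B`
  with defect group `P` are conjugate under `N_G(P)`.
-/

set_option autoImplicit false

namespace Cfsg.Agent.Lib.Helper82

open Cfsg MonoidAlgebra Cfsg.Agent.Lib.Helper16

universe u

variable {G : Type u} [Group G] [Fintype G] {M : Ideal AlgInt}

/-- If `P` is a defect group of `B`, `P ≤ H ≤ N_G(P)` and the block `b` of `H` induces `B`, then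
`b` has defect group `P`. -/
theorem isDefectGroup_subgroupOf_of_isInducedBlock {p : ℕ} [Fact p.Prime] (hM : IsPModular p M)
    (P H : Subgroup G) [Fintype H] (hPH : P ≤ H) (hHN : H ≤ Subgroup.normalizer (P : Set G))
    {B : Set (IrrCharacter G)} (hB : IsPBlock M B) (hP : IsDefectGroup p M B P)
    {b : Set (IrrCharacter H)} (hind : IsInducedBlock M H b B) :
    IsDefectGroup p M b (P.subgroupOf H) := by
  classical
  have hMp := isPModular_isPrime hM
  have hPp : IsPGroup p P := isPGroup_of_isDefectGroup hP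
  have hb : IsPBlock M b := hind.1
  obtain ⟨Db, hDb⟩ := exists_isDefectGroup p hb
  have hn : (P.subgroupOf H).Normal := Subgroup.normal_subgroupOf_of_le_normalizer hHN
  have h1 : P.subgroupOf H ≤ Db :=
    normal_pGroup_le_defectGroup hM (P.subgroupOf H) hPp.comap_subtype hb hDb
  obtain ⟨E, hE, hDE⟩ := Cfsg.Agent.S0917.result p M hM H b hb B hB hind Db hDb
  have hcardE := Cfsg.Agent.Lib.Helper78.card_defectGroup hM hB hE
  have hcardP := Cfsg.Agent.Lib.Helper78.card_defectGroup hM hB hP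
  have hcard : Nat.card Db ≤ Nat.card (P.subgroupOf H) := by
    calc Nat.card Db = Nat.card (Db.map H.subtype) :=
          (Subgroup.card_map_of_injective (Subgroup.subtype_injective _)).symm
      _ ≤ Nat.card E := Subgroup.card_le_of_le hDE
      _ = Nat.card P := by rw [hcardE, hcardP]
      _ = Nat.card (P.subgroupOf H) :=
          (Nat.card_congr (Subgroup.subgroupOfEquivOfLe hPH).toEquiv).symm
  have hEq := Subgroup.eq_of_le_of_card_ge h1 hcard
  rw [hEq]
  exact hDb

/-- For `C_G(P) ≤ H ≤ L ≤ N_G(P)` with `H` normal in `L`, the Brauer central character of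
`χ ∈ Irr(L)` equals that of any constituent `θ ∈ Irr(H)` of `χ`. -/
theorem brauerCentralChar_over {P H L : Subgroup G} [Fintype H] [Fintype L]
    (hHL : H ≤ L) (hCH : Subgroup.centralizer (P : Set G) ≤ H)
    (hLN : L ≤ Subgroup.normalizer (P : Set G))
    [hn : (H.subgroupOf L).Normal] [Fintype ↥(H.subgroupOf L)]
    (θ : IrrCharacter H) (χ : IrrCharacter L)
    (hover : classInner (fun n : ↥(H.subgroupOf L) => (χ : L → ℂ) n)
      (irrPull (Subgroup.subgroupOfEquivOfLe hHL) θ : ↥(H.subgroupOf L) → ℂ) ≠ 0) (g : G) :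
    brauerCentralChar P L (χ : L → ℂ) g = brauerCentralChar P H (θ : H → ℂ) g := by
  classical
  rw [← omega_brP_classSum, ← omega_brP_classSum]
  have hz : brP P L (classSum g) ∈ Subalgebra.center ℂ (MonoidAlgebra ℂ L) :=
    brP_mem_center P L hLN (classSum_mem_center g)
  have hsupp : ∀ l : L, l ∉ H.subgroupOf L → (brP P L (classSum g)).coeff l = 0 := by
    intro l hl
    rw [coeff_brP, if_neg]
    intro hc
    exact hl (Subgroup.mem_subgroupOf.mpr (hCH hc))
  rw [omega_eq_omega_resAlg_of_support (H.subgroupOf L) hz hsupp χ _ hover]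
  unfold omega
  congr 1
  apply Fintype.sum_equiv (Subgroup.subgroupOfEquivOfLe hHL).toEquiv
  intro h
  rw [coeff_resAlg, coeff_brP, coeff_brP, irrPull_apply]
  rfl

omit [Fintype G] in
/-- Conjugation by an element of `N_G(P)` preserves `P ⊔ C_G(P)`. -/
theorem conj_mem_sup_centralizer (P : Subgroup G) {n k : G}
    (hn : n ∈ Subgroup.normalizer (P : Set G))
    (hk : k ∈ P ⊔ Subgroup.centralizer (P : Set G)) :
    n * k * n⁻¹ ∈ P ⊔ Subgroup.centralizer (P : Set G) := by
  have h1 : (P ⊔ Subgroup.centralizer (P : Set G)).map (MulAut.conj n).toMonoidHom ≤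
      P ⊔ Subgroup.centralizer (P : Set G) := by
    rw [Subgroup.map_sup]
    apply sup_le_sup
    · rintro _ ⟨x, hx, rfl⟩
      exact (Subgroup.mem_normalizer_iff.mp hn x).mp hx
    · rintro _ ⟨x, hx, rfl⟩
      show n * x * n⁻¹ ∈ Subgroup.centralizer (P : Set G)
      replace hx : x ∈ Subgroup.centralizer (P : Set G) := hx
      rw [Subgroup.mem_centralizer_iff] at hx ⊢
      intro h hh
      have h1 : n⁻¹ * h * n ∈ P := by
        have := (Subgroup.mem_normalizer_iff.mp (Subgroup.inv_mem _ hn) h).mp hh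
        simpa using this
      have h2 := hx _ h1
      calc h * (n * x * n⁻¹) = n * ((n⁻¹ * h * n) * x) * n⁻¹ := by group
        _ = n * (x * (n⁻¹ * h * n)) * n⁻¹ := by rw [h2]
        _ = n * x * n⁻¹ * h := by group
  exact h1 ⟨k, hk, rfl⟩

omit [Fintype G] in
/-- `P ⊔ C_G(P)` is normal in `N_G(P)`. -/
theorem sup_centralizer_subgroupOf_normalizer_normal (P : Subgroup G) :
    ((P ⊔ Subgroup.centralizer (P : Set G)).subgroupOf
      (Subgroup.normalizer (P : Set G))).Normal := by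
  refine ⟨fun k hk l => ?_⟩
  rw [Subgroup.mem_subgroupOf] at hk ⊢
  have := conj_mem_sup_centralizer P l.2 hk
  simpa using this

/-- Two blocks of `H` (with `P C_G(P) ≤ H ≤ N_G(P)`, `H` normal in `N_G(P)`) inducing the block
`B` with defect group `P` are conjugate under `N_G(P)`. -/
theorem exists_conj_of_isInducedBlock {p : ℕ} [Fact p.Prime] (hM : IsPModular p M)
    (P H : Subgroup G) (hPH : P ≤ H) (hCH : Subgroup.centralizer (P : Set G) ≤ H)
    (hHN : H ≤ Subgroup.normalizer (P : Set G))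
    [hn : (H.subgroupOf (Subgroup.normalizer (P : Set G))).Normal]
    {B : Set (IrrCharacter G)} (hB : IsPBlock M B) (hP : IsDefectGroup p M B P)
    {b b' : Set (IrrCharacter H)} (hind : IsInducedBlock M H b B)
    (hind' : IsInducedBlock M H b' B) :
    ∃ n ∈ Subgroup.normalizer (P : Set G), ∀ θ ∈ b, ∃ θ' ∈ b', ∀ x : H,
      ∀ hx : n * (x : G) * n⁻¹ ∈ H, (θ' : H → ℂ) x = (θ : H → ℂ) ⟨n * (x : G) * n⁻¹, hx⟩ := by
  classical
  have hMp := isPModular_isPrime hM
  have hPp : IsPGroup p P := isPGroup_of_isDefectGroup hP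
  have : Fintype ↥(Subgroup.normalizer (P : Set G)) := Fintype.ofFinite _
  have : Fintype H := Fintype.ofFinite _
  have : Fintype ↥(H.subgroupOf (Subgroup.normalizer (P : Set G))) := Fintype.ofFinite _
  obtain ⟨χ₀, hχ₀⟩ := IsPBlock_nonempty hMp.ne_top hB
  have hBeq : B = blockOf M (χ₀ : G → ℂ) := IsPBlock_eq_blockOf hB hχ₀
  have key : ∀ {c : Set (IrrCharacter H)}, IsInducedBlock M H c B → ∀ θ ∈ c,
      ∀ χL : IrrCharacter ↥(Subgroup.normalizer (P : Set G)),
      classInner (fun n : ↥(H.subgroupOf (Subgroup.normalizer (P : Set G))) =>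
        (χL : ↥(Subgroup.normalizer (P : Set G)) → ℂ) n)
        (irrPull (Subgroup.subgroupOfEquivOfLe hHN) θ :
          ↥(H.subgroupOf (Subgroup.normalizer (P : Set G))) → ℂ) ≠ 0 →
      IsInducedBlock M (Subgroup.normalizer (P : Set G))
        (blockOf M (χL : ↥(Subgroup.normalizer (P : Set G)) → ℂ)) B := by
    intro c hc θ hθ χL hover
    rw [hBeq]
    apply isInducedBlock_of_brauerCentralChar hM P (Subgroup.normalizer (P : Set G)) hPp
      Subgroup.le_normalizer le_rfl χL χ₀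
    intro g
    rw [brauerCentralChar_over hHN hCH le_rfl θ χL hover g]
    exact (Cfsg.Agent.S0918.result p M hM P H hPp hPH hCH hHN c hc.1 B hB).mp hc θ hθ χ₀ hχ₀ g
  obtain ⟨θ₁, hθ₁⟩ := IsPBlock_nonempty hMp.ne_top hind.1
  obtain ⟨θ₂, hθ₂⟩ := IsPBlock_nonempty hMp.ne_top hind'.1
  obtain ⟨χ₁, hχ₁⟩ := exists_irr_over (H.subgroupOf (Subgroup.normalizer (P : Set G)))
    (irrPull (Subgroup.subgroupOfEquivOfLe hHN) θ₁)
  obtain ⟨χ₂, hχ₂⟩ := exists_irr_over (H.subgroupOf (Subgroup.normalizer (P : Set G)))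
    (irrPull (Subgroup.subgroupOfEquivOfLe hHN) θ₂)
  have hi₁ := key hind θ₁ hθ₁ χ₁ hχ₁
  have hi₂ := key hind' θ₂ hθ₂ χ₂ hχ₂
  have hD₁ := isDefectGroup_subgroupOf_of_isInducedBlock hM P (Subgroup.normalizer (P : Set G))
    Subgroup.le_normalizer le_rfl hB hP hi₁
  have hbb : blockOf M (χ₁ : ↥(Subgroup.normalizer (P : Set G)) → ℂ) =
      blockOf M (χ₂ : ↥(Subgroup.normalizer (P : Set G)) → ℂ) :=
    firstMain_unique hM P hPp B hB (isPBlock_blockOf χ₁) hD₁ hi₁ (isPBlock_blockOf χ₂) hi₂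
  have hsb : SameBlock M (χ₂ : ↥(Subgroup.normalizer (P : Set G)) → ℂ)
      (χ₁ : ↥(Subgroup.normalizer (P : Set G)) → ℂ) := by
    have h : χ₁ ∈ blockOf M (χ₂ : ↥(Subgroup.normalizer (P : Set G)) → ℂ) := by
      rw [← hbb]
      exact self_mem_blockOf hMp.ne_top χ₁
    exact mem_blockOf_iff.mp h
  have hb'' : IsPBlock M (pullBlock (Subgroup.subgroupOfEquivOfLe hHN) b') :=
    isPBlock_pullBlock _ hind'.1
  obtain ⟨g, hg⟩ := mem_conjClosure_of_sameBlock
    (H.subgroupOf (Subgroup.normalizer (P : Set G))) hb'' hsb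
    (irrPull_mem_pullBlock _ hθ₂) hχ₂ (irrPull (Subgroup.subgroupOfEquivOfLe hHN) θ₁) hχ₁
  refine ⟨(g : G), g.2, ?_⟩
  intro θ hθ
  have h1 : SameBlock M (θ₁ : H → ℂ) (θ : H → ℂ) := sameBlock_of_mem hind.1 hθ₁ hθ
  have h2 : SameBlock M
      (irrPull (Subgroup.subgroupOfEquivOfLe hHN) θ₁ :
        ↥(H.subgroupOf (Subgroup.normalizer (P : Set G))) → ℂ)
      (irrPull (Subgroup.subgroupOfEquivOfLe hHN) θ :
        ↥(H.subgroupOf (Subgroup.normalizer (P : Set G))) → ℂ) :=
    (sameBlock_comp_mulEquiv_iff (Subgroup.subgroupOfEquivOfLe hHN) _ _).mpr h1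
  have h3 := sameBlock_conjIrrN (H.subgroupOf (Subgroup.normalizer (P : Set G))) g h2
  have h4 : conjIrrN (H.subgroupOf (Subgroup.normalizer (P : Set G))) g
      (irrPull (Subgroup.subgroupOfEquivOfLe hHN) θ) ∈
      pullBlock (Subgroup.subgroupOfEquivOfLe hHN) b' := by
    rw [IsPBlock_eq_blockOf hb'' hg, mem_blockOf_iff]
    exact h3
  refine ⟨irrPull (Subgroup.subgroupOfEquivOfLe hHN).symm
    (conjIrrN (H.subgroupOf (Subgroup.normalizer (P : Set G))) g
      (irrPull (Subgroup.subgroupOfEquivOfLe hHN) θ)), (mem_pullBlock_iff _).mp h4, ?_⟩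
  intro x hx
  rw [irrPull_apply, conjIrrN_apply, irrPull_apply]
  congr 1

end Cfsg.Agent.Lib.Helper82
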