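import Mathlib
import Cfsg.Prelude
import Cfsg.Agent.S0188
import Cfsg.Agent.Lib.Helper81.IrrTwist
import Cfsg.Agent.Lib.Helper78.CharOrtho

/-!
# Characters of a central product `G = P · C_G(P)` (helper82)

For a subgroup `P` of a finite group `G` with `P ⊔ C_G(P) = ⊤`, the multiplication map
`cprodHom P : P × C_G(P) →* G` is a surjective homomorphism; pulling an irreducible character
`θ` of `G` back along it and using the description of the irreducible characters of a direct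
product (`S0188`) gives an irreducible character `ζ` of `P` (the `P`-factor of `θ`) with
`θ (y * c) * ζ 1 = ζ y * θ c` for `y ∈ P`, `c ∈ C_G(P)` (`exists_isPFactor`).  The `P`-factor is
unique (`IsPFactor.unique`).
-/

set_option autoImplicit false
set_option linter.unusedSectionVars false
set_option linter.style.haveILetI false

namespace Cfsg.Agent.Lib.Helper82

open Cfsg
open scoped ComplexConjugate

section CentralProduct

variable {G : Type*} [Group G] (P : Subgroup G)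

/-- The multiplication map `P × C_G(P) → G`, a homomorphism since the two factors commute. -/
noncomputable def cprodHom : ↥P × ↥(Subgroup.centralizer (P : Set G)) →* G :=
  MonoidHom.noncommCoprod P.subtype (Subgroup.centralizer (P : Set G)).subtype
    (fun y c => show Commute (P.subtype y) ((Subgroup.centralizer (P : Set G)).subtype c) from
      c.2 y y.2)

theorem cprodHom_apply (x : ↥P × ↥(Subgroup.centralizer (P : Set G))) :
    cprodHom P x = (x.1 : G) * (x.2 : G) := rfl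

theorem cprodHom_surjective (hG : P ⊔ Subgroup.centralizer (P : Set G) = ⊤) :
    Function.Surjective (cprodHom P) := by
  rw [← MonoidHom.range_eq_top]
  unfold cprodHom
  rw [MonoidHom.noncommCoprod_range, Subgroup.range_subtype, Subgroup.range_subtype, hG]

/-- `ζ` is a `P`-factor of `θ`: `θ (y c) ζ(1) = ζ(y) θ(c)` for `y ∈ P` and `c ∈ C_G(P)`. -/
def IsPFactor (θ : G → ℂ) (ζ : P → ℂ) : Prop :=
  ∀ (y : P) (c : G), c ∈ Subgroup.centralizer (P : Set G) → θ ((y : G) * c) * ζ 1 = ζ y * θ c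

variable {P}

theorem IsPFactor.apply_coe {θ : G → ℂ} {ζ : P → ℂ} (h : IsPFactor P θ ζ) (y : P) :
    θ (y : G) * ζ 1 = ζ y * θ 1 := by
  have := h y 1 (Subgroup.one_mem _)
  rwa [mul_one] at this

end CentralProduct

section Finite

variable {G : Type*} [Group G] [Finite G] {P : Subgroup G}

/-- Every irreducible character of `G = P · C_G(P)` has a `P`-factor. -/
theorem exists_isPFactor (hG : P ⊔ Subgroup.centralizer (P : Set G) = ⊤) (θ : IrrCharacter G) :
    ∃ ζ : IrrCharacter P, IsPFactor P (θ : G → ℂ) (ζ : P → ℂ) := by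
  have h1 : IsIrrCharacter (↥P × ↥(Subgroup.centralizer (P : Set G))) ((θ : G → ℂ) ∘ cprodHom P) :=
    Cfsg.Agent.Lib.Helper81.isIrrCharacter_comp_surjective θ.2 (cprodHom P) (cprodHom_surjective P hG)
  obtain ⟨ζ, ψ, hζ, hψ, heq⟩ := (Cfsg.Agent.S0188.result _).mp h1
  refine ⟨⟨ζ, hζ⟩, ?_⟩
  intro y c hc
  have e1 : (θ : G → ℂ) ((y : G) * c) = ζ y * ψ ⟨c, hc⟩ := by
    have := congrFun heq (y, ⟨c, hc⟩)
    simpa [cprodHom_apply] using this
  have e2 : (θ : G → ℂ) c = ζ 1 * ψ ⟨c, hc⟩ := by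
    have := congrFun heq (1, ⟨c, hc⟩)
    simpa [cprodHom_apply] using this
  show (θ : G → ℂ) ((y : G) * c) * ζ 1 = ζ y * (θ : G → ℂ) c
  rw [e1, e2]; ring

/-- Two irreducible characters one of which is a nonzero multiple of the other are equal. -/
theorem irr_eq_of_mul_eq {H : Type*} [Group H] [Finite H] {χ ψ : IrrCharacter H} {a b : ℂ}
    (hb : b ≠ 0) (h : ∀ x : H, (χ : H → ℂ) x * a = (ψ : H → ℂ) x * b) : χ = ψ := by
  classical
  haveI := Fintype.ofFinite H
  by_contra hne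
  have hne' : (χ : H → ℂ) ≠ (ψ : H → ℂ) := fun h' => hne (Subtype.ext h')
  have h0 := Cfsg.Agent.Lib.Helper78.classInner_irr_ne χ.2 ψ.2 hne'
  have h1 := Cfsg.Agent.Lib.Helper78.classInner_irr_self ψ.2
  have h2 : classInner (χ : H → ℂ) (ψ : H → ℂ) * a = classInner (ψ : H → ℂ) (ψ : H → ℂ) * b := by
    unfold classInner
    rw [mul_assoc, mul_assoc, Finset.sum_mul, Finset.sum_mul]
    congr 1
    apply Finset.sum_congr rfl
    intro x _
    rw [mul_right_comm, h x, mul_right_comm]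
  rw [h0, h1, zero_mul, one_mul] at h2
  exact hb h2.symm

/-- The `P`-factor of an irreducible character is unique. -/
theorem IsPFactor.unique {θ : IrrCharacter G} {ζ ζ' : IrrCharacter P}
    (h : IsPFactor P (θ : G → ℂ) (ζ : P → ℂ)) (h' : IsPFactor P (θ : G → ℂ) (ζ' : P → ℂ)) :
    ζ = ζ' := by
  have hθ1 : (θ : G → ℂ) 1 ≠ 0 := Cfsg.Agent.Lib.Helper78.IsIrrCharacter.apply_one_ne_zero θ.2
  have hζ1 : (ζ : P → ℂ) 1 ≠ 0 := Cfsg.Agent.Lib.Helper78.IsIrrCharacter.apply_one_ne_zero ζ.2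
  have hζ'1 : (ζ' : P → ℂ) 1 ≠ 0 := Cfsg.Agent.Lib.Helper78.IsIrrCharacter.apply_one_ne_zero ζ'.2
  apply irr_eq_of_mul_eq hζ1
  intro y
  have e1 := h.apply_coe y
  have e2 := h'.apply_coe y
  -- ζ y θ1 ζ'1 = θ y ζ1 ζ'1 = ζ' y θ1 ζ1
  have : ((ζ : P → ℂ) y * (ζ' : P → ℂ) 1) * (θ : G → ℂ) 1 =
      ((ζ' : P → ℂ) y * (ζ : P → ℂ) 1) * (θ : G → ℂ) 1 := by
    calc ((ζ : P → ℂ) y * (ζ' : P → ℂ) 1) * (θ : G → ℂ) 1
        = ((ζ : P → ℂ) y * (θ : G → ℂ) 1) * (ζ' : P → ℂ) 1 := by ring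
      _ = ((θ : G → ℂ) (y : G) * (ζ : P → ℂ) 1) * (ζ' : P → ℂ) 1 := by rw [e1]
      _ = ((θ : G → ℂ) (y : G) * (ζ' : P → ℂ) 1) * (ζ : P → ℂ) 1 := by ring
      _ = ((ζ' : P → ℂ) y * (θ : G → ℂ) 1) * (ζ : P → ℂ) 1 := by rw [e2]
      _ = ((ζ' : P → ℂ) y * (ζ : P → ℂ) 1) * (θ : G → ℂ) 1 := by ring
  exact mul_right_cancel₀ hθ1 this

end Finite

end Cfsg.Agent.Lib.Helper82
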