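import Mathlib
import Cfsg.Prelude
import Cfsg.Agent.Lib.Helper82.CentralProduct
import Cfsg.Agent.Lib.Helper82.RankQuotient
import Cfsg.Agent.Lib.Helper82.BlockInflation
import Cfsg.Agent.Lib.Helper78.SMTMain
import Cfsg.Agent.Lib.Helper78.BlockRankDefect
import Cfsg.Agent.Lib.Helper78.DefectOrder
import Cfsg.Agent.Lib.Helper77.CenterIrr
import Cfsg.Agent.S4434
import Cfsg.Agent.S4675
import Cfsg.Agent.S0924
import Cfsg.Agent.S0941

/-!
# Blocks of `G = P · C_G(P)` with defect group `P` (helper82)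

Let `P` be a `p`-subgroup of the finite group `G` with `G = P · C_G(P)` and `B` a block of `G`
with defect group `P`.  Then `B` has `p`-regular rank one, its members vanish off the elements
whose `p`-part lies in `P`, and `θ ↦ (P`-factor of `θ)` is a bijection from `B` onto the
irreducible characters of `P` (`eq_of_isPFactor`, `exists_mem_isPFactor`).
-/

set_option autoImplicit false
set_option linter.unusedSectionVars false
set_option linter.style.haveILetI false

namespace Cfsg.Agent.Lib.Helper82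

open Cfsg Cfsg.Agent.Lib.Helper16 Cfsg.Agent.Lib.Helper78 Cfsg.Agent.Lib.Helper77
open scoped ComplexConjugate

universe u

section GroupTheory

variable {G : Type u} [Group G] {P : Subgroup G}

theorem normal_of_sup_centralizer_eq_top (hG : P ⊔ Subgroup.centralizer (P : Set G) = ⊤) :
    P.Normal := by
  rw [← Subgroup.normalizer_eq_top_iff, eq_top_iff, ← hG]
  exact sup_le Subgroup.le_normalizer (Subgroup.centralizer_le_normalizer _)

theorem index_centralizer_of_sup_eq_top [Finite G] {p : ℕ} [hp : Fact p.Prime] (hP : IsPGroup p P)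
    (hG : P ⊔ Subgroup.centralizer (P : Set G) = ⊤) :
    ∃ k : ℕ, (Subgroup.centralizer (P : Set G)).index = p ^ k := by
  haveI : P.Normal := normal_of_sup_centralizer_eq_top hG
  haveI hCn : (Subgroup.centralizer (P : Set G)).Normal := Subgroup.normal_centralizer
  have h1 : (Subgroup.centralizer (P : Set G)).index =
      (Subgroup.centralizer (P : Set G)).relIndex P := by
    rw [← Subgroup.relIndex_top_right, ← hG, Subgroup.relIndex_sup_right]
  obtain ⟨n, hn⟩ := IsPGroup.iff_card.mp hP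
  have h2 : (Subgroup.centralizer (P : Set G)).relIndex P ∣ p ^ n := by
    rw [← hn]
    exact Subgroup.index_dvd_card _
  obtain ⟨k, _, hk⟩ := (Nat.dvd_prime_pow hp.out).mp h2
  exact ⟨k, by rw [h1, hk]⟩

/-- The product of an element of the `p`-group `P` with a commuting `p`-regular element has
`p`-part the former. -/
theorem isPPart_mul_of_mem {p : ℕ} [hp : Fact p.Prime] (hP : IsPGroup p P) (y : P) {x : G}
    (hx : ¬ p ∣ orderOf x) (hcomm : Commute (y : G) x) : IsPPart p ((y : G) * x) (y : G) := by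
  refine ⟨x, rfl, hcomm, ?_, hx⟩
  obtain ⟨k, hk⟩ := hP y
  obtain ⟨j, _, hj⟩ := (Nat.dvd_prime_pow hp.out).mp (orderOf_dvd_of_pow_eq_one hk)
  exact ⟨j, by rw [Subgroup.orderOf_coe, hj]⟩

/-- Summation over the elements whose `p`-part lies in `P`, when the `p`-regular elements
centralize `P`. -/
theorem sum_eq_sum_pPart [Fintype G] [Fintype P] {p : ℕ} [hp : Fact p.Prime] (hP : IsPGroup p P)
    (hreg : ∀ x : G, ¬ p ∣ orderOf x → x ∈ Subgroup.centralizer (P : Set G))
    (F : G → ℂ) (hF : ∀ g x : G, IsPPart p g x → x ∉ P → F g = 0) :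
    ∑ g : G, F g = ∑ y : P, ∑ x ∈ Finset.univ.filter (fun x : G => ¬ p ∣ orderOf x),
      F ((y : G) * x) := by
  classical
  rw [← Finset.sum_product' (Finset.univ : Finset P)
    (Finset.univ.filter (fun x : G => ¬ p ∣ orderOf x)) (fun y x => F ((y : G) * x))]
  symm
  apply Finset.sum_of_injOn (fun yx : P × G => (yx.1 : G) * yx.2)
  · rintro ⟨y, x⟩ hyx ⟨y', x'⟩ hyx' heq
    simp only [Finset.coe_product, Finset.coe_univ, Finset.coe_filter, Finset.mem_univ, true_and,
      Set.mem_prod, Set.mem_univ, Set.mem_ofPred_eq] at hyx hyx'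
    simp only at heq
    have h1 := isPPart_mul_of_mem hP y hyx ((hreg x hyx) y y.2)
    have h2 := isPPart_mul_of_mem hP y' hyx' ((hreg x' hyx') y' y'.2)
    rw [heq] at h1
    have h3 : (y : G) = (y' : G) := isPPart_unique h1 h2
    have h4 : x = x' := by
      rw [h3] at heq
      exact mul_left_cancel heq
    exact Prod.ext (Subtype.ext h3) h4
  · intro _ _; exact Finset.mem_coe.mpr (Finset.mem_univ _)
  · intro g _ hg
    obtain ⟨x₀, hx₀⟩ := exists_isPPart p g
    by_cases hmem : x₀ ∈ P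
    · exfalso
      apply hg
      obtain ⟨y₀, hy₀, hc, ho, hreg₀⟩ := hx₀
      refine ⟨(⟨x₀, hmem⟩, y₀), ?_, hy₀⟩
      simp only [Finset.coe_product, Finset.coe_univ, Finset.coe_filter, Finset.mem_univ,
        true_and, Set.mem_prod, Set.mem_univ, Set.mem_ofPred_eq]
      exact hreg₀
    · exact hF g x₀ hx₀ hmem
  · intro _ _; rfl

end GroupTheory

section Block

variable {G : Type u} [Group G] [Fintype G] {p : ℕ} [hp : Fact p.Prime] {M : Ideal AlgInt}
  {P : Subgroup G}

/-- For a block `B` whose defect group is the normal `p`-subgroup `P` with `C_G(P)` of `p`-power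
index, exactly one irreducible character of `G ⧸ P` inflates into `B`, and it has defect zero. -/
theorem exists_quotient_singleton [P.Normal] (hM : IsPModular p M) (hP : IsPGroup p P)
    (hC : ∃ k : ℕ, (Subgroup.centralizer (P : Set G)).index = p ^ k)
    {B : Set (IrrCharacter G)} (hB : IsPBlock M B) (hD : IsDefectGroup p M B P) :
    ∃ θbar : IrrCharacter (G ⧸ P), {ψ : IrrCharacter (G ⧸ P) | inflate P ψ ∈ B} = {θbar} ∧
      ¬ p ∣ Nat.card (G ⧸ P) / charDegree (θbar : G ⧸ P → ℂ) := by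
  haveI hMp := isPModular_isPrime hM
  haveI : Fintype (G ⧸ P) := Fintype.ofFinite _
  obtain ⟨Bbar, hBbar, hsub, hdef⟩ := Cfsg.Agent.S4434.result p M hM P hP B hB
  have hDbar : IsDefectGroup p M Bbar (P.map (QuotientGroup.mk' P)) := (hdef _).mpr ⟨P, hD, rfl⟩
  have hcard := card_defectGroup hM hBbar hDbar
  have hbot : P.map (QuotientGroup.mk' P) = ⊥ := QuotientGroup.map_mk'_self P
  rw [hbot, Subgroup.card_bot] at hcard
  have hdz : blockDefect p Bbar = 0 := by
    by_contra h
    have : 1 < p ^ blockDefect p Bbar := Nat.one_lt_pow h hp.out.one_lt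
    omega
  obtain ⟨θbar, hθbar⟩ := eq_singleton_of_blockDefect_eq_zero hM hBbar hdz
  have hθmem : θbar ∈ Bbar := by rw [hθbar]; rfl
  have hdeg := (blockDefect_eq_zero_iff hM hBbar).mp hdz θbar hθmem
  refine ⟨θbar, ?_, hdeg⟩
  have hθB : inflate P θbar ∈ B := hsub θbar hθmem (inflate P θbar) (by
    funext g; rw [inflate_apply]; rfl)
  ext ψ
  simp only [Set.mem_ofPred_eq, Set.mem_singleton_iff]
  constructor
  · intro hψ
    have hsame : SameBlock M ((inflate P ψ : IrrCharacter G) : G → ℂ) (inflate P θbar : G → ℂ) :=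
      sameBlock_of_mem hB hψ hθB
    have h0941 := (Cfsg.Agent.S0941.result p M hM P hP hC).1 ψ θbar
    have h1 : SameBlock M (ψ : G ⧸ P → ℂ) (θbar : G ⧸ P → ℂ) := by
      rw [h0941]
      exact hsame
    have hBbar' : Bbar = blockOf M (θbar : G ⧸ P → ℂ) := IsPBlock_eq_blockOf hBbar hθmem
    have h2 : ψ ∈ Bbar := by
      rw [hBbar']
      exact sameBlock_symm h1
    rw [hθbar] at h2
    exact h2
  · rintro rfl
    exact hθB

/-- A block of `G` whose defect group is the normal `p`-subgroup `P` with `C_G(P)` of `p`-power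
index has `p`-regular rank one. -/
theorem blockRank_eq_one_of_defectGroup [P.Normal] (hM : IsPModular p M) (hP : IsPGroup p P)
    (hC : ∃ k : ℕ, (Subgroup.centralizer (P : Set G)).index = p ^ k)
    {B : Set (IrrCharacter G)} (hB : IsPBlock M B) (hD : IsDefectGroup p M B P) :
    blockRank p B = 1 := by
  haveI : Fintype (G ⧸ P) := Fintype.ofFinite _
  obtain ⟨θbar, hθ, _⟩ := exists_quotient_singleton hM hP hC hB hD
  rw [blockRank_eq_blockRank_quotient p P hM hP hC hB, hθ]
  exact blockRank_singleton p θbar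

/-- The members of a block with normal defect group `P` vanish off the elements whose `p`-part
lies in `P`. -/
theorem vanish_of_defectGroup_normal [P.Normal] (hM : IsPModular p M)
    {B : Set (IrrCharacter G)} (hB : IsPBlock M B) (hD : IsDefectGroup p M B P)
    {θ : IrrCharacter G} (hθ : θ ∈ B) {g x : G} (hx : IsPPart p g x) (hxP : x ∉ P) :
    (θ : G → ℂ) g = 0 := by
  haveI hMp := isPModular_isPrime hM
  apply Cfsg.Agent.S0924.result p M hM θ g x hx
  intro D hD'
  rw [← IsPBlock_eq_blockOf hB hθ] at hD'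
  obtain ⟨c, hc⟩ := Cfsg.Agent.S4434.defectGroups_conj p M hM B hB P D hD hD'
  have hDP : D = P := by
    rw [hc]
    exact Subgroup.Normal.map_conj_eq P c
  rw [hDP]
  exact hxP

/-- The inner product of two functions with `P`-factors, the first of which vanishes off the
elements with `p`-part in `P`, and which are multiples of a common function on the `p`-regular
elements. -/
theorem classInner_mul_of_isPFactor [Fintype P] (hP : IsPGroup p P)
    (hreg : ∀ x : G, ¬ p ∣ orderOf x → x ∈ Subgroup.centralizer (P : Set G))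
    {θ θ' : G → ℂ} {ζ ζ' : P → ℂ} (hζ : IsPFactor P θ ζ) (hζ' : IsPFactor P θ' ζ')
    (hvan : ∀ g x : G, IsPPart p g x → x ∉ P → θ g = 0)
    {φ : G → ℂ} {a a' : ℂ} (ha : ∀ x : G, ¬ p ∣ orderOf x → θ x = a * φ x)
    (ha' : ∀ x : G, ¬ p ∣ orderOf x → θ' x = a' * φ x) :
    classInner θ θ' * ((Nat.card G : ℂ) * (ζ 1 * conj (ζ' 1))) =
      a * conj a' * ((Nat.card P : ℂ) * classInner ζ ζ') *
        ∑ x ∈ Finset.univ.filter (fun x : G => ¬ p ∣ orderOf x), φ x * conj (φ x) := by
  classical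
  have hG0 : (Nat.card G : ℂ) ≠ 0 := by exact_mod_cast Nat.card_pos.ne'
  have hP0 : (Nat.card P : ℂ) ≠ 0 := by exact_mod_cast Nat.card_pos.ne'
  have key : ∀ (y : P) (x : G), ¬ p ∣ orderOf x →
      θ ((y : G) * x) * conj (θ' ((y : G) * x)) * (ζ 1 * conj (ζ' 1)) =
      (a * conj a') * (ζ y * conj (ζ' y)) * (φ x * conj (φ x)) := by
    intro y x hx
    have h1 := hζ y x (hreg x hx)
    have h2 := hζ' y x (hreg x hx)
    rw [ha x hx] at h1
    rw [ha' x hx] at h2
    calc θ ((y : G) * x) * conj (θ' ((y : G) * x)) * (ζ 1 * conj (ζ' 1))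
        = (θ ((y : G) * x) * ζ 1) * conj (θ' ((y : G) * x) * ζ' 1) := by rw [map_mul]; ring
      _ = (ζ y * (a * φ x)) * conj (ζ' y * (a' * φ x)) := by rw [h1, h2]
      _ = _ := by simp only [map_mul]; ring
  have hsum : ∑ g : G, θ g * conj (θ' g) =
      ∑ y : P, ∑ x ∈ Finset.univ.filter (fun x : G => ¬ p ∣ orderOf x),
        θ ((y : G) * x) * conj (θ' ((y : G) * x)) :=
    sum_eq_sum_pPart hP hreg (fun g => θ g * conj (θ' g))
      (fun g x hx hxP => by simp only [hvan g x hx hxP, zero_mul])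
  have hinner : (Nat.card P : ℂ) * classInner ζ ζ' = ∑ y : P, ζ y * conj (ζ' y) := by
    unfold classInner
    rw [← mul_assoc, mul_inv_cancel₀ hP0, one_mul]
  rw [hinner]
  unfold classInner
  rw [hsum]
  have e1 : (Nat.card G : ℂ)⁻¹ * (∑ y : P, ∑ x ∈ Finset.univ.filter (fun x : G => ¬ p ∣ orderOf x),
        θ ((y : G) * x) * conj (θ' ((y : G) * x))) * ((Nat.card G : ℂ) * (ζ 1 * conj (ζ' 1))) =
      ∑ y : P, ∑ x ∈ Finset.univ.filter (fun x : G => ¬ p ∣ orderOf x),
        θ ((y : G) * x) * conj (θ' ((y : G) * x)) * (ζ 1 * conj (ζ' 1)) := by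
    rw [show ∀ S c : ℂ, (Nat.card G : ℂ)⁻¹ * S * ((Nat.card G : ℂ) * c) = S * c from
      fun S c => by field_simp]
    rw [Finset.sum_mul]
    apply Finset.sum_congr rfl
    intro y _
    rw [Finset.sum_mul]
  rw [e1, mul_assoc (a * conj a'), Finset.sum_mul_sum, Finset.mul_sum]
  apply Finset.sum_congr rfl
  intro y _
  rw [Finset.mul_sum]
  apply Finset.sum_congr rfl
  intro x hx
  rw [key y x (Finset.mem_filter.mp hx).2]
  ring

/-- The common shape on the `p`-regular elements of the members of a block of `G = P·C_G(P)`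
with defect group `P`. -/
theorem exists_phi [P.Normal] (hM : IsPModular p M) (hP : IsPGroup p P)
    (hC : ∃ k : ℕ, (Subgroup.centralizer (P : Set G)).index = p ^ k)
    {B : Set (IrrCharacter G)} (hB : IsPBlock M B) (hD : IsDefectGroup p M B P) :
    ∃ (φ : G → ℂ) (d : IrrCharacter G → ℕ),
      (∀ χ ∈ B, ∀ x : G, ¬ p ∣ orderOf x → (χ : G → ℂ) x = (d χ : ℂ) * φ x) ∧
      (∀ χ ∈ B, d χ ≠ 0) ∧
      ∑ x ∈ Finset.univ.filter (fun x : G => ¬ p ∣ orderOf x), φ x * conj (φ x) ≠ 0 := by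
  classical
  haveI hMp := isPModular_isPrime hM
  obtain ⟨φ, d, -, hd, -⟩ := Cfsg.Agent.S4675.result p M hM B hB P hD
    (blockRank_eq_one_of_defectGroup hM hP hC hB hD)
  have h1reg : ¬ p ∣ orderOf (1 : G) := by
    rw [orderOf_one]; exact hp.out.one_lt.ne' ∘ Nat.dvd_one.mp
  obtain ⟨χ₀, hχ₀⟩ := IsPBlock_nonempty hMp.ne_top hB
  have hφ1 : φ 1 ≠ 0 := by
    intro h0
    have := hd χ₀ hχ₀ 1 h1reg
    rw [h0, mul_zero] at this
    exact Cfsg.Agent.Lib.Helper79.irr_apply_one_ne_zero χ₀ this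
  refine ⟨φ, d, fun χ hχ x hx => hd χ hχ x hx, ?_, ?_⟩
  · intro χ hχ h0
    have := hd χ hχ 1 h1reg
    rw [h0, Nat.cast_zero, zero_mul] at this
    exact Cfsg.Agent.Lib.Helper79.irr_apply_one_ne_zero χ this
  · have hre : ∑ x ∈ Finset.univ.filter (fun x : G => ¬ p ∣ orderOf x), φ x * conj (φ x) =
        ((∑ x ∈ Finset.univ.filter (fun x : G => ¬ p ∣ orderOf x), Complex.normSq (φ x) : ℝ) : ℂ) := by
      push_cast
      apply Finset.sum_congr rfl
      intro x _
      rw [Complex.mul_conj]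
    rw [hre]
    norm_cast
    apply ne_of_gt
    apply Finset.sum_pos' (fun x _ => Complex.normSq_nonneg _)
    exact ⟨1, Finset.mem_filter.mpr ⟨Finset.mem_univ _, h1reg⟩, Complex.normSq_pos.mpr hφ1⟩

/-- **Injectivity of the `P`-factor on a block of `G = P·C_G(P)` with defect group `P`.** -/
theorem eq_of_isPFactor (hM : IsPModular p M) (hP : IsPGroup p P)
    (hG : P ⊔ Subgroup.centralizer (P : Set G) = ⊤)
    {B : Set (IrrCharacter G)} (hB : IsPBlock M B) (hD : IsDefectGroup p M B P)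
    {θ θ' : IrrCharacter G} (hθ : θ ∈ B) (hθ' : θ' ∈ B) {ζ : IrrCharacter P}
    (hζ : IsPFactor P (θ : G → ℂ) (ζ : P → ℂ)) (hζ' : IsPFactor P (θ' : G → ℂ) (ζ : P → ℂ)) :
    θ = θ' := by
  classical
  haveI : P.Normal := normal_of_sup_centralizer_eq_top hG
  haveI : Fintype P := Fintype.ofFinite _
  have hC := index_centralizer_of_sup_eq_top hP hG
  have hreg : ∀ x : G, ¬ p ∣ orderOf x → x ∈ Subgroup.centralizer (P : Set G) :=
    fun x hx => Cfsg.Agent.S0941.mem_centralizer_of_pRegular p P hC x hx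
  obtain ⟨φ, d, hd, hd0, hS⟩ := exists_phi hM hP hC hB hD
  have hform := classInner_mul_of_isPFactor hP hreg hζ hζ'
    (fun g x hx hxP => vanish_of_defectGroup_normal hM hB hD hθ hx hxP)
    (hd θ hθ) (hd θ' hθ')
  rw [classInner_irr_self ζ.2, mul_one] at hform
  by_contra hne
  have hne' : (θ : G → ℂ) ≠ (θ' : G → ℂ) := fun h => hne (Subtype.ext h)
  rw [classInner_irr_ne θ.2 θ'.2 hne', zero_mul] at hform
  have hP0 : (Nat.card P : ℂ) ≠ 0 := by exact_mod_cast Nat.card_pos.ne'
  have h1 : (d θ : ℂ) ≠ 0 := by exact_mod_cast hd0 θ hθ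
  have h2 : conj (d θ' : ℂ) ≠ 0 := by
    rw [Complex.conj_natCast]; exact_mod_cast hd0 θ' hθ'
  exact (mul_ne_zero (mul_ne_zero (mul_ne_zero h1 h2) hP0) hS) hform.symm

/-- **Surjectivity of the `P`-factor**: in a block of `G = P·C_G(P)`, `P` a `p`-group, every
irreducible character of `P` is the `P`-factor of some member (Osima). -/
theorem exists_mem_isPFactor (hM : IsPModular p M) (hP : IsPGroup p P)
    (hG : P ⊔ Subgroup.centralizer (P : Set G) = ⊤)
    {B : Set (IrrCharacter G)} (hB : IsPBlock M B) (ζ : IrrCharacter P) :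
    ∃ θ ∈ B, IsPFactor P (θ : G → ℂ) (ζ : P → ℂ) := by
  classical
  haveI hMp := isPModular_isPrime hM
  haveI : Fintype P := Fintype.ofFinite _
  by_contra hno
  push Not at hno
  have hP0 : (Nat.card P : ℂ) ≠ 0 := by exact_mod_cast Nat.card_pos.ne'
  -- (ii) the sum vanishes
  have h0 : ∀ χ ∈ B, ∑ y : P, (ζ : P → ℂ) y * conj ((χ : G → ℂ) y) = 0 := by
    intro χ hχ
    obtain ⟨ζ', hζ'⟩ := exists_isPFactor hG χ
    have hne : (ζ : P → ℂ) ≠ (ζ' : P → ℂ) := by
      intro h
      apply hno χ hχ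
      rw [h]; exact hζ'
    have hζ'1 : conj ((ζ' : P → ℂ) 1) ≠ 0 := by
      rw [Ne, map_eq_zero]
      exact Cfsg.Agent.Lib.Helper79.irr_apply_one_ne_zero ζ'
    apply (mul_eq_zero.mp ?_).resolve_right hζ'1
    rw [Finset.sum_mul]
    have h1 : ∀ y : P, (ζ : P → ℂ) y * conj ((χ : G → ℂ) y) * conj ((ζ' : P → ℂ) 1) =
        conj ((χ : G → ℂ) 1) * ((ζ : P → ℂ) y * conj ((ζ' : P → ℂ) y)) := by
      intro y
      rw [mul_assoc, ← map_mul, hζ'.apply_coe y, map_mul]
      ring
    rw [Finset.sum_congr rfl (fun y _ => h1 y), ← Finset.mul_sum]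
    have h2 := classInner_irr_ne ζ.2 ζ'.2 hne
    unfold classInner at h2
    rcases mul_eq_zero.mp h2 with h3 | h3
    · exact absurd h3 (inv_ne_zero hP0)
    · rw [h3, mul_zero]
  have h1 : ∑ y : P, (ζ : P → ℂ) y * blockCoeff B (y : G) = 0 := by
    simp only [blockCoeff_eq_sum, Finset.mul_sum]
    rw [Finset.sum_comm]
    apply Finset.sum_eq_zero
    intro χ hχ
    have := h0 χ (Finset.mem_filter.mp hχ).2
    calc ∑ y : P, (ζ : P → ℂ) y * ((Nat.card G : ℂ)⁻¹ *
          ((χ : G → ℂ) 1 * conj ((χ : G → ℂ) y)))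
        = (Nat.card G : ℂ)⁻¹ * (χ : G → ℂ) 1 *
          ∑ y : P, (ζ : P → ℂ) y * conj ((χ : G → ℂ) y) := by
          rw [Finset.mul_sum]
          apply Finset.sum_congr rfl
          intro y _
          ring
      _ = 0 := by rw [this, mul_zero]
  have h2 : ∑ y : P, (ζ : P → ℂ) y * blockCoeff B (y : G) =
      (ζ : P → ℂ) 1 * blockCoeff B 1 := by
    rw [Finset.sum_eq_single (1 : P)]
    · rfl
    · intro q _ hq1
      rw [blockCoeff_eq_zero_of_pSingular hM hB, mul_zero]
      obtain ⟨k, hk⟩ := (IsPGroup.iff_orderOf.mp hP) q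
      rw [Subgroup.orderOf_coe, hk]
      cases k with
      | zero =>
        exfalso
        apply hq1
        rw [pow_zero, orderOf_eq_one_iff] at hk
        exact hk
      | succ k => exact dvd_pow_self p (Nat.succ_ne_zero k)
    · intro h
      exact absurd (Finset.mem_univ _) h
  have h3 : blockCoeff B 1 ≠ 0 := by
    rw [blockCoeff_eq_sum]
    apply mul_ne_zero (inv_ne_zero (by exact_mod_cast Nat.card_pos.ne'))
    have hsq : ∀ χ : IrrCharacter G, (χ : G → ℂ) 1 * conj ((χ : G → ℂ) 1) =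
        ((charDegree (χ : G → ℂ) ^ 2 : ℕ) : ℂ) := by
      intro χ
      rw [Cfsg.Agent.Lib.Helper79.irr_apply_one_eq_charDegree, Complex.conj_natCast]
      push_cast
      ring
    simp only [hsq]
    rw [← Nat.cast_sum, Nat.cast_ne_zero]
    obtain ⟨χ, hχ⟩ := IsPBlock_nonempty hMp.ne_top hB
    apply ne_of_gt
    apply Finset.sum_pos' (fun _ _ => Nat.zero_le _)
    exact ⟨χ, Finset.mem_filter.mpr ⟨Finset.mem_univ _, hχ⟩,
      pow_pos (Cfsg.Agent.Lib.Helper79.irr_charDegree_pos χ) 2⟩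
  rw [h2] at h1
  exact (mul_ne_zero (Cfsg.Agent.Lib.Helper79.irr_apply_one_ne_zero ζ) h3) h1

/-- The trivial character of a subgroup. -/
noncomputable def trivIrr (P : Subgroup G) : IrrCharacter P :=
  ⟨fun _ => 1, isIrrCharacter_one⟩

theorem trivIrr_apply (P : Subgroup G) (y : P) : (trivIrr P : P → ℂ) y = 1 := rfl

/-- If `P` lies in the kernel of the irreducible character `θ`, the trivial character of `P` is a
`P`-factor of `θ`. -/
theorem isPFactor_trivIrr {θ : IrrCharacter G} (h : ∀ x ∈ P, (θ : G → ℂ) x = (θ : G → ℂ) 1) :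
    IsPFactor P (θ : G → ℂ) (trivIrr P : P → ℂ) := by
  intro y c _
  rw [trivIrr_apply, trivIrr_apply, mul_one, one_mul]
  have hk : (y : G) ∈ irrKer θ := (mem_irrKer θ y).mpr (h y y.2)
  have hz : (y : G) ∈ irrCenter θ := irrKer_le_irrCenter θ hk
  have := irr_center_mul θ ⟨(y : G), hz⟩ c
  rw [irrCenterScalar_apply] at this
  simp only at this
  rw [this, h y y.2, div_self (Cfsg.Agent.Lib.Helper79.irr_apply_one_ne_zero θ), one_mul]

/-- Conversely, an irreducible character whose `P`-factor is trivial has `P` in its kernel. -/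
theorem apply_eq_of_isPFactor_trivIrr {θ : G → ℂ} (h : IsPFactor P θ (trivIrr P : P → ℂ))
    (x : G) (hx : x ∈ P) : θ x = θ 1 := by
  have := h.apply_coe ⟨x, hx⟩
  simpa [trivIrr_apply] using this

/-- **Values of the members of a block of `G = P·C_G(P)` with defect group `P`**: if `χ ∈ B` has
`P` in its kernel and `θ ∈ B` has `P`-factor `ζ`, then `θ (y x) = ζ(y) χ(x)` for `y ∈ P` and `x`
a `p`-regular element. -/
theorem apply_mul_of_isPFactor (hM : IsPModular p M) (hP : IsPGroup p P)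
    (hG : P ⊔ Subgroup.centralizer (P : Set G) = ⊤)
    {B : Set (IrrCharacter G)} (hB : IsPBlock M B) (hD : IsDefectGroup p M B P)
    {χ θ : IrrCharacter G} (hχ : χ ∈ B) (hθ : θ ∈ B)
    (hker : ∀ x ∈ P, (χ : G → ℂ) x = (χ : G → ℂ) 1) {ζ : IrrCharacter P}
    (hζ : IsPFactor P (θ : G → ℂ) (ζ : P → ℂ)) (y : P) {x : G} (hx : ¬ p ∣ orderOf x) :
    (θ : G → ℂ) ((y : G) * x) = (ζ : P → ℂ) y * (χ : G → ℂ) x := by
  classical
  haveI : P.Normal := normal_of_sup_centralizer_eq_top hG
  haveI : Fintype P := Fintype.ofFinite _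
  have hC := index_centralizer_of_sup_eq_top hP hG
  have hreg : ∀ x : G, ¬ p ∣ orderOf x → x ∈ Subgroup.centralizer (P : Set G) :=
    fun x hx => Cfsg.Agent.S0941.mem_centralizer_of_pRegular p P hC x hx
  obtain ⟨φ, d, hd, hd0, hS⟩ := exists_phi hM hP hC hB hD
  have hP0 : (Nat.card P : ℂ) ≠ 0 := by exact_mod_cast Nat.card_pos.ne'
  have hG0 : (Nat.card G : ℂ) ≠ 0 := by exact_mod_cast Nat.card_pos.ne'
  have hone := isPFactor_trivIrr hker
  -- norms
  have hN1 := classInner_mul_of_isPFactor hP hreg hζ hζ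
    (fun g x hx hxP => vanish_of_defectGroup_normal hM hB hD hθ hx hxP)
    (hd θ hθ) (hd θ hθ)
  have hN2 := classInner_mul_of_isPFactor hP hreg hone hone
    (fun g x hx hxP => vanish_of_defectGroup_normal hM hB hD hχ hx hxP)
    (hd χ hχ) (hd χ hχ)
  rw [classInner_irr_self θ.2, classInner_irr_self ζ.2, one_mul, mul_one,
    Cfsg.Agent.Lib.Helper79.irr_apply_one_eq_charDegree ζ, Complex.conj_natCast,
    Complex.conj_natCast] at hN1
  rw [classInner_irr_self χ.2, classInner_irr_self (trivIrr P).2, one_mul, mul_one,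
    trivIrr_apply, map_one, mul_one, mul_one, Complex.conj_natCast] at hN2
  set n := charDegree (ζ : P → ℂ) with hn
  set S := ∑ x ∈ Finset.univ.filter (fun x : G => ¬ p ∣ orderOf x), φ x * conj (φ x) with hSdef
  -- `d θ = d χ * n`
  have hsq : ((d χ * n : ℕ) : ℂ) ^ 2 = ((d θ : ℕ) : ℂ) ^ 2 := by
    have hPS : (Nat.card P : ℂ) * S ≠ 0 := mul_ne_zero hP0 hS
    apply mul_right_cancel₀ hPS
    push_cast
    calc ((d χ : ℂ) * (n : ℂ)) ^ 2 * ((Nat.card P : ℂ) * S)
        = ((d χ : ℂ) * (d χ : ℂ) * (Nat.card P : ℂ) * S) * ((n : ℂ) * (n : ℂ)) := by ring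
      _ = (Nat.card G : ℂ) * ((n : ℂ) * (n : ℂ)) := by rw [← hN2]
      _ = (d θ : ℂ) * (d θ : ℂ) * (Nat.card P : ℂ) * S := hN1
      _ = (d θ : ℂ) ^ 2 * ((Nat.card P : ℂ) * S) := by ring
  have hdd : d χ * n = d θ := by
    have h1 : (d χ * n) ^ 2 = (d θ) ^ 2 := by exact_mod_cast hsq
    exact Nat.pow_left_injective (n := 2) (by norm_num) h1
  have hζ1 : (ζ : P → ℂ) 1 ≠ 0 := Cfsg.Agent.Lib.Helper79.irr_apply_one_ne_zero ζ
  apply mul_right_cancel₀ hζ1
  rw [hζ y x (hreg x hx), hd θ hθ x hx, hd χ hχ x hx,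
    Cfsg.Agent.Lib.Helper79.irr_apply_one_eq_charDegree ζ, ← hdd]
  push_cast
  ring

/-- A block of `G = P·C_G(P)` with defect group `P` has a member with `P` in its kernel whose
degree has the `p`-part of `|G : P|`. -/
theorem exists_mem_ker (hM : IsPModular p M) (hP : IsPGroup p P)
    (hG : P ⊔ Subgroup.centralizer (P : Set G) = ⊤)
    {B : Set (IrrCharacter G)} (hB : IsPBlock M B) (hD : IsDefectGroup p M B P) :
    ∃ θ ∈ B, (∀ x ∈ P, (θ : G → ℂ) x = (θ : G → ℂ) 1) ∧
      (charDegree (θ : G → ℂ)).factorization p = P.index.factorization p := by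
  classical
  haveI : P.Normal := normal_of_sup_centralizer_eq_top hG
  haveI : Fintype (G ⧸ P) := Fintype.ofFinite _
  have hC := index_centralizer_of_sup_eq_top hP hG
  obtain ⟨θbar, hθ, hdeg⟩ := exists_quotient_singleton hM hP hC hB hD
  have hmem : inflate P θbar ∈ B := by
    have : θbar ∈ {ψ : IrrCharacter (G ⧸ P) | inflate P ψ ∈ B} := by rw [hθ]; rfl
    exact this
  refine ⟨inflate P θbar, hmem, fun x hx => inflate_apply_of_mem P θbar x hx, ?_⟩
  have hdeg_eq : charDegree ((inflate P θbar : IrrCharacter G) : G → ℂ) =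
      charDegree (θbar : G ⧸ P → ℂ) := by
    unfold charDegree
    rw [inflate_apply, QuotientGroup.mk_one]
  rw [hdeg_eq, Subgroup.index_eq_card]
  exact (not_dvd_div_iff_factorization_eq hp.out
    (Cfsg.Agent.Lib.Helper79.irr_charDegree_dvd_card θbar) Nat.card_pos.ne').mp hdeg

end Block

end Cfsg.Agent.Lib.Helper82
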