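import Mathlib
import Cfsg.Prelude
import Cfsg.Agent.Lib.Helper16.OrbitCount
import Cfsg.Agent.Lib.Helper16.Covering
import Cfsg.Agent.Lib.Helper16.Induced
import Cfsg.Agent.S0932
import Cfsg.Agent.Lib.Helper75.Clifford
import Cfsg.Agent.Lib.Helper81.IrrTwist
import Cfsg.Agent.Lib.Helper78.CharMore
import Cfsg.Agent.Lib.Helper79.Integrality

/-!
# `p`-subgroups of an inertia group (helper82)

Let `N` be a normal subgroup of `G`, `χ ∈ Irr(G)` lying over `θ ∈ Irr(N)`, and `n ∈ N` an element
at which the central character of `χ` is not in the local ideal and such that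
`p ∤ |C_G(n) : C_N(n)|`.  Then every `p`-subgroup of `G` fixing `θ` lies in `N`
(`pSubgroup_le_of_fixes`).  This is the orbit-counting step in the theorems of Fong and Reynolds.
-/

set_option autoImplicit false
set_option linter.unusedSectionVars false
set_option linter.style.haveILetI false

namespace Cfsg.Agent.Lib.Helper82

open Cfsg Cfsg.Agent.Lib.Helper16 Cfsg.Agent.Lib.Helper78 Cfsg.Agent.Lib.Helper75
open scoped ComplexConjugate

universe u

section

variable {G : Type u} [Group G] [Fintype G] (N : Subgroup G) [hN : N.Normal] [Fintype N]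
  {M : Ideal AlgInt}

/-- The elements `t` with `F (x t) = F x` for all `x`. -/
def rightStab (F : G → ℂ) : Subgroup G where
  carrier := {t | ∀ x, F (x * t) = F x}
  mul_mem' := by
    intro a b ha hb x
    rw [← mul_assoc, hb, ha]
  one_mem' := by
    intro x
    rw [mul_one]
  inv_mem' := by
    intro a ha x
    have := ha (x * a⁻¹)
    rw [inv_mul_cancel_right] at this
    exact this.symm

/-- the function `x ↦ ω_θ (x n x⁻¹)` -/
noncomputable def conjOmega (θ : IrrCharacter N) (n : N) (x : G) : ℂ :=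
  centralChar (θ : N → ℂ) ⟨x * n * x⁻¹, hN.conj_mem n n.2 x⟩

theorem conjOmega_mul_of_mem_centralizer (θ : IrrCharacter N) (n : N) (x t : G)
    (ht : t ∈ Subgroup.centralizer ({(n : G)} : Set G)) :
    conjOmega N θ n (x * t) = conjOmega N θ n x := by
  unfold conjOmega
  congr 1
  apply Subtype.ext
  have h1 : t * (n : G) = (n : G) * t := (Subgroup.mem_centralizer_singleton_iff.mp ht)
  show x * t * (n : G) * (x * t)⁻¹ = x * (n : G) * x⁻¹
  calc x * t * (n : G) * (x * t)⁻¹ = x * (t * (n : G)) * t⁻¹ * x⁻¹ := by group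
    _ = x * ((n : G) * t) * t⁻¹ * x⁻¹ := by rw [h1]
    _ = x * (n : G) * x⁻¹ := by group

theorem conjOmega_mul_of_mem (θ : IrrCharacter N) (n : N) (x t : G) (ht : t ∈ N) :
    conjOmega N θ n (x * t) = conjOmega N θ n x := by
  unfold conjOmega
  set u : N := ⟨x * t * x⁻¹, hN.conj_mem t ht x⟩ with hu
  set m : N := ⟨x * n * x⁻¹, hN.conj_mem n n.2 x⟩ with hm
  have h1 : (⟨x * t * (n : G) * (x * t)⁻¹, hN.conj_mem n n.2 (x * t)⟩ : N) = u * m * u⁻¹ := by
    apply Subtype.ext
    show x * t * (n : G) * (x * t)⁻¹ = x * t * x⁻¹ * (x * (n : G) * x⁻¹) * (x * t * x⁻¹)⁻¹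
    group
  rw [h1]
  exact centralChar_conj θ m u

theorem sup_le_rightStab (θ : IrrCharacter N) (n : N) :
    N ⊔ Subgroup.centralizer ({(n : G)} : Set G) ≤ rightStab (conjOmega N θ n) := by
  apply sup_le
  · intro t ht x
    exact conjOmega_mul_of_mem N θ n x t ht
  · intro t ht x
    exact conjOmega_mul_of_mem_centralizer N θ n x t ht

theorem conjOmega_mul_left_of_fixes (θ : IrrCharacter N) (n : N) (d x : G)
    (hd : conjIrrN N d θ = θ) : conjOmega N θ n (d * x) = conjOmega N θ n x := by
  unfold conjOmega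
  set m : N := ⟨x * n * x⁻¹, hN.conj_mem n n.2 x⟩ with hm
  have h1 : (⟨d * x * (n : G) * (d * x)⁻¹, hN.conj_mem n n.2 (d * x)⟩ : N) =
      ⟨d * m * d⁻¹, hN.conj_mem m m.2 d⟩ := by
    apply Subtype.ext
    show d * x * (n : G) * (d * x)⁻¹ = d * (x * (n : G) * x⁻¹) * d⁻¹
    group
  rw [h1, ← centralChar_conjIrrN, hd]

omit [Fintype G] [Fintype N] in
/-- `C_G(n) ∩ N`, as a subgroup of `N`, is the centralizer of `n` in `N`. -/
theorem centralizer_subgroupOf (n : N) :
    (Subgroup.centralizer ({(n : G)} : Set G)).subgroupOf N =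
      Subgroup.centralizer ({n} : Set N) := by
  ext m
  rw [Subgroup.mem_subgroupOf, Subgroup.mem_centralizer_singleton_iff,
    Subgroup.mem_centralizer_singleton_iff]
  constructor
  · intro h
    exact Subtype.ext h
  · intro h
    exact congrArg Subtype.val h

omit [Fintype N] in
/-- `|N C_G(n)| = |C_G(n)| |N : C_N(n)|`. -/
theorem card_sup_centralizer (n : N) :
    Nat.card ↥(N ⊔ Subgroup.centralizer ({(n : G)} : Set G)) =
      Nat.card (Subgroup.centralizer ({(n : G)} : Set G)) *
        (Subgroup.centralizer ({n} : Set N)).index := by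
  set C := Subgroup.centralizer ({(n : G)} : Set G) with hC
  set T := N ⊔ C with hT
  have hidx : (Subgroup.centralizer ({n} : Set N)).index = C.relIndex N := by
    rw [← centralizer_subgroupOf]
    rfl
  rw [hidx]
  have e1 : N.relIndex T * T.index = N.index := Subgroup.relIndex_mul_index le_sup_left
  have e2 : N.relIndex T = N.relIndex C := Subgroup.relIndex_sup_left C N
  have e3 : (N ⊓ C).relIndex C * C.index = (N ⊓ C).index :=
    Subgroup.relIndex_mul_index inf_le_right
  have e4 : (N ⊓ C).relIndex C = N.relIndex C := Subgroup.inf_relIndex_right N C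
  have e5 : (N ⊓ C).relIndex N * N.index = (N ⊓ C).index :=
    Subgroup.relIndex_mul_index inf_le_left
  have e6 : (N ⊓ C).relIndex N = C.relIndex N := Subgroup.inf_relIndex_left N C
  have hrel0 : N.relIndex C ≠ 0 :=
    (show (N.subgroupOf C).index ≠ 0 from Subgroup.index_ne_zero_of_finite)
  have hTi0 : T.index ≠ 0 := Subgroup.index_ne_zero_of_finite
  -- `C.index = C.relIndex N * T.index`
  have h1 : C.index = C.relIndex N * T.index := by
    apply Nat.eq_of_mul_eq_mul_left (Nat.pos_of_ne_zero hrel0)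
    rw [← e4, e3, ← e5, e6, ← e1, e2, e4]
    ring
  have h2 := T.card_mul_index
  have h3 := C.card_mul_index
  apply Nat.eq_of_mul_eq_mul_right (Nat.pos_of_ne_zero hTi0)
  rw [h2, ← h3, h1]
  ring

open scoped Classical in
/-- Averaging `ω_θ` over the conjugates `x n x⁻¹` gives the induced central character. -/
theorem sum_conjOmega (θ : IrrCharacter N) (n : N) :
    (Nat.card ↥(N ⊔ Subgroup.centralizer ({(n : G)} : Set G)) : ℂ)⁻¹ *
      ∑ x : G, conjOmega N θ n x = inducedCentralChar N (θ : N → ℂ) (n : G) := by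
  have hval : ∀ x : G, conjOmega N θ n x =
      ((Subgroup.centralizer ({n} : Set N)).index : ℂ) / (θ : N → ℂ) 1 *
        extendByZero N (θ : N → ℂ) (x * (n : G) * x⁻¹) := by
    intro x
    unfold conjOmega centralChar
    rw [index_centralizer_conjNormal]
    have h1 := Cfsg.Agent.S0932.extendByZero_coe N (θ : N → ℂ)
      ⟨x * n * x⁻¹, hN.conj_mem n n.2 x⟩
    rw [show extendByZero N (θ : N → ℂ) (x * (n : G) * x⁻¹) =
      (θ : N → ℂ) ⟨x * n * x⁻¹, hN.conj_mem n n.2 x⟩ from h1]
    ring
  rw [Finset.sum_congr rfl (fun x _ => hval x), ← Finset.mul_sum]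
  have hre : ∑ x : G, extendByZero N (θ : N → ℂ) (x * (n : G) * x⁻¹) =
      ∑ x : G, extendByZero N (θ : N → ℂ) (x⁻¹ * (n : G) * x) := by
    rw [← Equiv.sum_comp (Equiv.inv G) (fun x => extendByZero N (θ : N → ℂ) (x⁻¹ * (n : G) * x))]
    apply Finset.sum_congr rfl
    intro x _
    simp
  rw [hre, Cfsg.Agent.S0932.sum_conj_eq, Cfsg.Agent.S0932.sum_filter_extendByZero,
    card_sup_centralizer]
  unfold inducedCentralChar
  rw [finsum_mem_eq_sum_of_subset (t := Finset.univ.filter (fun h : N => IsConj (n : G) (h : G)))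
      _ (by intro x hx; simpa using hx.1) (by intro x hx; simpa using hx)]
  have hC0 : (Nat.card (Subgroup.centralizer ({(n : G)} : Set G)) : ℂ) ≠ 0 := by
    exact_mod_cast Nat.card_pos.ne'
  have hi0 : ((Subgroup.centralizer ({n} : Set N)).index : ℂ) ≠ 0 := by
    exact_mod_cast Subgroup.index_ne_zero_of_finite
  simp only [div_eq_mul_inv]
  rw [← Finset.sum_mul]
  push_cast
  field_simp
  congr! 2
  ext h
  simp only [Finset.mem_filter, Finset.mem_univ, true_and]

/-- **`p`-subgroups of the inertia group lie in `N`.**  Let `χ ∈ Irr(G)` lie over `θ ∈ Irr(N)`,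
`N` normal in `G`, and let `n ∈ N` be such that `ω_χ(n)` is not in the local ideal and
`p ∤ |C_G(n) : C_N(n)|`.  Then every `p`-subgroup of `G` fixing `θ` lies in `N`. -/
theorem pSubgroup_le_of_fixes {p : ℕ} [Fact p.Prime] (hM : IsPModular p M) (χ : IrrCharacter G)
    (θ : IrrCharacter N)
    (hθ : classInner (fun n : N => (χ : G → ℂ) n) (θ : N → ℂ) ≠ 0) (n : N)
    (hω : ¬ MemLocalIdeal M (centralChar (χ : G → ℂ) (n : G)))
    (hrel : ¬ p ∣ N.relIndex (Subgroup.centralizer ({(n : G)} : Set G)))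
    (D : Subgroup G) (hD : IsPGroup p D) (hfix : ∀ d ∈ D, conjIrrN N d θ = θ) : D ≤ N := by
  classical
  haveI hMp := isPModular_isPrime hM
  have hp : p.Prime := Fact.out
  set C := Subgroup.centralizer ({(n : G)} : Set G) with hC
  set T := N ⊔ C with hT
  obtain ⟨x, hx, -⟩ := exists_fixed_coset_not_memLocalIdeal hM T D hD (conjOmega N θ n)
    (fun x t ht => sup_le_rightStab N θ n ht x)
    (fun d hd x => conjOmega_mul_left_of_fixes N θ n d x (hfix d hd))
    (fun x => memLocalRing_of_isIntegral hMp.ne_top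
      (Cfsg.Agent.Lib.Helper79.isIntegral_centralChar θ _))
    (by
      rw [sum_conjOmega, ← centralChar_eq_inducedCentralChar_of_constituent N χ θ hθ n]
      exact hω)
  intro d hd
  have h1 : x⁻¹ * d * x ∈ T := hx d hd
  suffices h : x⁻¹ * d * x ∈ N by
    have := hN.conj_mem _ h x
    have e : x * (x⁻¹ * d * x) * x⁻¹ = d := by group
    rwa [e] at this
  set r := x⁻¹ * d * x with hr
  -- `r ^ m ∈ N`
  set m := N.relIndex T with hm
  have hm' : m = N.relIndex C := Subgroup.relIndex_sup_left C N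
  haveI : (N.subgroupOf T).Normal := Subgroup.Normal.subgroupOf hN T
  have h2 : (⟨r, h1⟩ : T) ^ m ∈ N.subgroupOf T := Subgroup.pow_index_mem (N.subgroupOf T) _
  have h3 : r ^ m ∈ N := by
    have := Subgroup.mem_subgroupOf.mp h2
    simpa using this
  -- `r` is a `p`-element
  obtain ⟨k, hk⟩ := hD ⟨d, hd⟩
  have hdk : d ^ p ^ k = 1 := by
    have := congrArg Subtype.val hk
    simpa using this
  have h4 : r ^ p ^ k = 1 := by
    rw [hr, show x⁻¹ * d * x = x⁻¹ * d * x⁻¹⁻¹ by rw [inv_inv], conj_pow, hdk]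
    group
  -- the image of `r` in `G ⧸ N` is trivial
  have h5 : ((r : G) : G ⧸ N) ^ m = 1 := by
    rw [← QuotientGroup.mk_pow]
    exact (QuotientGroup.eq_one_iff _).mpr h3
  have h6 : ((r : G) : G ⧸ N) ^ p ^ k = 1 := by
    rw [← QuotientGroup.mk_pow, h4, QuotientGroup.mk_one]
  have h7 : orderOf ((r : G) : G ⧸ N) ∣ Nat.gcd m (p ^ k) :=
    Nat.dvd_gcd (orderOf_dvd_of_pow_eq_one h5) (orderOf_dvd_of_pow_eq_one h6)
  have hcop : Nat.Coprime m (p ^ k) := by
    apply Nat.Coprime.pow_right
    rw [Nat.coprime_comm, hm']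
    exact (Nat.Prime.coprime_iff_not_dvd hp).mpr hrel
  rw [hcop, Nat.dvd_one, orderOf_eq_one_iff] at h7
  exact (QuotientGroup.eq_one_iff _).mp h7

/-- **Degrees over a character whose inertia group has `p'`-index over `N`.**  If every
`p`-subgroup of `G` fixing the constituent `θ` of `χ_N` lies in `N`, then
`ν_p |G : N| + ν_p θ(1) ≤ ν_p χ(1)`. -/
theorem factorization_degree_ge {p : ℕ} [Fact p.Prime] (χ : IrrCharacter G) (θ : IrrCharacter N)
    (hθ : classInner (fun n : N => (χ : G → ℂ) n) (θ : N → ℂ) ≠ 0)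
    (hD : ∀ D : Subgroup G, IsPGroup p D → (∀ d ∈ D, conjIrrN N d θ = θ) → D ≤ N) :
    (Nat.card G).factorization p + (charDegree (θ : N → ℂ)).factorization p ≤
      (charDegree (χ : G → ℂ)).factorization p + (Nat.card N).factorization p := by
  classical
  have hp : p.Prime := Fact.out
  let _ : MulAction G (IrrCharacter N) := Cfsg.Agent.Lib.Helper81.conjIrrMulAction N
  have hsmul : ∀ (g : G) (φ : IrrCharacter N), ((g • φ : IrrCharacter N) : N → ℂ) =
      Cfsg.Agent.Lib.Helper75.conjFun N g⁻¹ (φ : N → ℂ) := by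
    intro g φ
    funext n
    rfl
  set I : Subgroup G := MulAction.stabilizer G θ with hI
  -- `p`-part of `|I|` is at most that of `|N|`
  have hIN : (Nat.card I).factorization p ≤ (Nat.card N).factorization p := by
    obtain S : Sylow p I := default
    set D : Subgroup G := (S : Subgroup I).map I.subtype with hDdef
    have hDp : IsPGroup p D := S.isPGroup'.map I.subtype
    have hDI : D ≤ I := Subgroup.map_subtype_le _
    have hDN : D ≤ N := by
      apply hD D hDp
      intro d hd
      have h1 : d⁻¹ ∈ I := I.inv_mem (hDI hd)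
      have h2 : (d⁻¹ • θ : IrrCharacter N) = θ := MulAction.mem_stabilizer_iff.mp h1
      apply Subtype.ext
      have h3 := congrArg Subtype.val h2
      rw [hsmul, inv_inv] at h3
      exact h3
    have hcard : Nat.card D = p ^ (Nat.card I).factorization p := by
      rw [hDdef, Subgroup.card_map_of_injective (Subgroup.subtype_injective _),
        Sylow.card_eq_multiplicity]
    have hdvd : p ^ (Nat.card I).factorization p ∣ Nat.card N := by
      rw [← hcard]
      exact Subgroup.card_dvd_of_le hDN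
    exact (hp.pow_dvd_iff_le_factorization Nat.card_pos.ne').mp hdvd
  -- Clifford: `χ(1) = e t θ(1)` with `t = |G : I|`
  obtain ⟨e, he⟩ := IsCharacter.exists_nat_classInner
    (isCharacter_res N (IsIrrCharacter.isCharacter χ.2)) θ
  have hcl := clifford_finset N χ.2 θ.2 hθ
  have h1 := congrFun hcl 1
  have hdeg : ∀ φ ∈ conjOrbit N (θ : N → ℂ), (φ : N → ℂ) 1 = (θ : N → ℂ) 1 := by
    intro φ hφ
    obtain ⟨g, hg⟩ := (mem_conjOrbit N).mp hφ
    rw [← hg, Cfsg.Agent.Lib.Helper75.conjFun_apply]
    exact congrArg _ (Subtype.ext (by simp))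
  simp only [Pi.smul_apply, Finset.sum_apply, smul_eq_mul] at h1
  rw [Finset.sum_congr rfl hdeg, Finset.sum_const, nsmul_eq_mul, he] at h1
  -- the orbit has `|G : I|` elements
  have hcardorb : (conjOrbit N (θ : N → ℂ)).card = I.index := by
    rw [hI, MulAction.index_stabilizer, ← Nat.card_coe_set_eq, Nat.card_eq_fintype_card,
      ← Fintype.card_coe]
    apply Fintype.card_congr
    refine Equiv.subtypeEquivRight ?_
    intro φ
    rw [mem_conjOrbit, MulAction.mem_orbit_iff]
    constructor
    · rintro ⟨g, hg⟩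
      refine ⟨g⁻¹, Subtype.ext ?_⟩
      rw [hsmul, inv_inv, hg]
    · rintro ⟨g, rfl⟩
      exact ⟨g⁻¹, (hsmul g θ).symm⟩
  rw [hcardorb] at h1
  have hχ1 := Cfsg.Agent.Lib.Helper79.irr_apply_one_eq_charDegree χ
  have hθ1 := Cfsg.Agent.Lib.Helper79.irr_apply_one_eq_charDegree θ
  have h1' : ((χ : G → ℂ) 1) = (e : ℂ) * ((I.index : ℂ) * (θ : N → ℂ) 1) := h1
  rw [hχ1, hθ1] at h1'
  have hnat : charDegree (χ : G → ℂ) = e * (I.index * charDegree (θ : N → ℂ)) := by
    exact_mod_cast h1'
  have hχpos := Cfsg.Agent.Lib.Helper79.irr_charDegree_pos χ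
  have hθpos := Cfsg.Agent.Lib.Helper79.irr_charDegree_pos θ
  have he0 : e ≠ 0 := by
    rintro rfl
    rw [zero_mul] at hnat
    omega
  have hIi0 : I.index ≠ 0 := Subgroup.index_ne_zero_of_finite
  have hfac : (charDegree (χ : G → ℂ)).factorization p =
      e.factorization p + (I.index.factorization p + (charDegree (θ : N → ℂ)).factorization p) := by
    rw [hnat, Nat.factorization_mul he0 (Nat.mul_ne_zero hIi0 hθpos.ne'),
      Nat.factorization_mul hIi0 hθpos.ne']
    rfl
  have hGI := I.card_mul_index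
  have hfacG : (Nat.card G).factorization p =
      (Nat.card I).factorization p + I.index.factorization p := by
    rw [← hGI, Nat.factorization_mul Nat.card_pos.ne' hIi0]
    rfl
  omega

end

end Cfsg.Agent.Lib.Helper82
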