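import Mathlib
import Cfsg.Prelude
import Cfsg.Agent.Lib.Helper82.CentralProductBlock
import Cfsg.Agent.Lib.Helper82.InertiaIndex
import Cfsg.Agent.Lib.Helper16.Nilpotent
import Cfsg.Agent.Lib.Helper16.BrauerHom
import Cfsg.Agent.Lib.Helper16.BrauerIdem
import Cfsg.Agent.Lib.Helper16.PIndex
import Cfsg.Agent.S0971
import Cfsg.Agent.S0917
import Cfsg.Agent.Lib.Helper76.SylowNorm

/-!
# Blocks with a normal defect group `P` and the subgroup `N = P · C_G(P)` (helper82)

Let `B` be a block of `G` with normal defect group `P`, `N = P ⊔ C_G(P)`.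

* `covered_block_facts`: a block `b` of `N` covered by `B` induces `B` and has defect group `P`.
* `sup_centralizer_subgroupOf_eq_top`: inside `N`, `P` and its centralizer generate `N`.
* `factorization_degree_over`: if `χ ∈ B` lies over `θ ∈ b`, where `θ` has `P`-factor `ζ`, then
  `ν_p |G : P| + ν_p ζ(1) ≤ ν_p χ(1)`.
-/

set_option autoImplicit false
set_option linter.unusedSectionVars false
set_option linter.style.haveILetI false

namespace Cfsg.Agent.Lib.Helper82

open Cfsg Cfsg.Agent.Lib.Helper16 Cfsg.Agent.Lib.Helper78 Cfsg.Agent.Lib.Helper77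
open scoped ComplexConjugate

universe u

section

variable {G : Type u} [Group G] [Fintype G] {p : ℕ} [hp : Fact p.Prime] {M : Ideal AlgInt}
  {P : Subgroup G} [hPn : P.Normal]

omit [Fintype G] hp in
/-- Inside `N = P ⊔ C_G(P)`, the subgroup `P` and its centralizer generate everything. -/
theorem sup_centralizer_subgroupOf_eq_top (N : Subgroup G)
    (hN : N = P ⊔ Subgroup.centralizer (P : Set G)) :
    P.subgroupOf N ⊔ Subgroup.centralizer ((P.subgroupOf N : Subgroup N) : Set N) = ⊤ := by
  have h1 : (Subgroup.centralizer (P : Set G)).subgroupOf N ≤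
      Subgroup.centralizer ((P.subgroupOf N : Subgroup N) : Set N) := by
    intro c hc y hy
    apply Subtype.ext
    exact (Subgroup.mem_subgroupOf.mp hc) (y : G) (Subgroup.mem_subgroupOf.mp hy)
  have hPN : P ≤ N := by rw [hN]; exact le_sup_left
  have hCN : Subgroup.centralizer (P : Set G) ≤ N := by rw [hN]; exact le_sup_right
  have h2 : P.subgroupOf N ⊔ (Subgroup.centralizer (P : Set G)).subgroupOf N = ⊤ := by
    rw [← Subgroup.subgroupOf_sup hPN hCN, ← hN, Subgroup.subgroupOf_self]
  rw [eq_top_iff, ← h2]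
  exact sup_le_sup_left h1 _

/-- A block of `N = P ⊔ C_G(P)` covered by a block `B` of `G` with normal defect group `P` induces
`B` and has defect group `P`. -/
theorem covered_block_facts (hM : IsPModular p M) {B : Set (IrrCharacter G)} (hB : IsPBlock M B)
    (hP : IsDefectGroup p M B P) (N : Subgroup G)
    (hN : N = P ⊔ Subgroup.centralizer (P : Set G)) [Fintype N]
    {b : Set (IrrCharacter N)} (hb : IsPBlock M b)
    (hcov : ∃ χ ∈ B, ∃ θ ∈ b, classInner (fun n : N => (χ : G → ℂ) n) (θ : N → ℂ) ≠ 0) :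
    IsInducedBlock M N b B ∧ IsDefectGroup p M b (P.subgroupOf N) := by
  classical
  subst hN
  haveI hMp := isPModular_isPrime hM
  have hPp : IsPGroup p P := IsPGroup.of_card (card_defectGroup hM hB hP)
  have hind : IsInducedBlock M (P ⊔ Subgroup.centralizer (P : Set G)) b B :=
    (Cfsg.Agent.S0971.result p M hM P hPp b hb).2 B hB hcov
  refine ⟨hind, ?_⟩
  obtain ⟨Db, hDb⟩ := exists_isDefectGroup p hb
  obtain ⟨E, hE, hle⟩ := Cfsg.Agent.S0917.result p M hM _ b hb B hB hind Db hDb
  have hEP : E = P := by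
    obtain ⟨c, hc⟩ := Cfsg.Agent.S4434.defectGroups_conj p M hM B hB P E hP hE
    rw [hc]
    exact Subgroup.Normal.map_conj_eq P c
  rw [hEP] at hle
  haveI : (P.subgroupOf (P ⊔ Subgroup.centralizer (P : Set G))).Normal :=
    Subgroup.Normal.subgroupOf hPn _
  have hP'p : IsPGroup p (P.subgroupOf (P ⊔ Subgroup.centralizer (P : Set G))) :=
    hPp.comap_subtype
  have h1 : P.subgroupOf (P ⊔ Subgroup.centralizer (P : Set G)) ≤ Db :=
    normal_pGroup_le_defectGroup hM _ hP'p hb hDb
  have h2 : Db ≤ P.subgroupOf (P ⊔ Subgroup.centralizer (P : Set G)) := by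
    intro x hx
    rw [Subgroup.mem_subgroupOf]
    exact hle (Subgroup.mem_map_of_mem _ hx)
  rw [le_antisymm h1 h2]
  exact hDb

/-- An irreducible character of `G` lying over a member of a block `b` of `N = P ⊔ C_G(P)`
covered by `B` (`P` a normal `p`-subgroup) lies in `B`: `B` is the only block covering `b`. -/
theorem mem_of_over_covered (hM : IsPModular p M) (hPp : IsPGroup p P) {B : Set (IrrCharacter G)}
    (hB : IsPBlock M B) (N : Subgroup G)
    (hN : N = P ⊔ Subgroup.centralizer (P : Set G)) [Fintype N]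
    {b : Set (IrrCharacter N)} (hb : IsPBlock M b)
    (hcov : ∃ χ ∈ B, ∃ θ ∈ b, classInner (fun n : N => (χ : G → ℂ) n) (θ : N → ℂ) ≠ 0)
    {χ : IrrCharacter G} {θ : IrrCharacter N} (hθb : θ ∈ b)
    (hover : classInner (fun n : N => (χ : G → ℂ) n) (θ : N → ℂ) ≠ 0) : χ ∈ B := by
  classical
  subst hN
  haveI hMp := isPModular_isPrime hM
  have h971 := (Cfsg.Agent.S0971.result p M hM P hPp b hb).2
  have hind := h971 B hB hcov
  have hself : χ ∈ blockOf M (χ : G → ℂ) := self_mem_blockOf hMp.ne_top χ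
  have hind' := h971 (blockOf M (χ : G → ℂ)) (isPBlock_blockOf χ) ⟨χ, hself, θ, hθb, hover⟩
  rw [isInducedBlock_unique _ hind hind']
  exact hself

/-- **Degrees in a block with normal defect group.**  Let `B` have the normal defect group `P`,
`N = P ⊔ C_G(P)`, `b` a block of `N` with defect group `P`, `χ ∈ B` over `θ ∈ b`, and `ζ` the
`P`-factor of `θ`.  Then `ν_p |G| + ν_p ζ(1) ≤ ν_p χ(1) + ν_p |P|`. -/
theorem factorization_degree_over (hM : IsPModular p M) {B : Set (IrrCharacter G)}
    (hB : IsPBlock M B) (hP : IsDefectGroup p M B P) (N : Subgroup G) [hNn : N.Normal]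
    (hN : N = P ⊔ Subgroup.centralizer (P : Set G)) [Fintype N]
    {b : Set (IrrCharacter N)} (hb : IsPBlock M b)
    (hbD : IsDefectGroup p M b (P.subgroupOf N))
    {χ : IrrCharacter G} (hχ : χ ∈ B) {θ : IrrCharacter N} (hθb : θ ∈ b)
    (hover : classInner (fun n : N => (χ : G → ℂ) n) (θ : N → ℂ) ≠ 0)
    {ζ : IrrCharacter (P.subgroupOf N)}
    (hζ : IsPFactor (P.subgroupOf N) (θ : N → ℂ) (ζ : P.subgroupOf N → ℂ)) :
    (Nat.card G).factorization p + (charDegree (ζ : P.subgroupOf N → ℂ)).factorization p ≤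
      (charDegree (χ : G → ℂ)).factorization p + (Nat.card P).factorization p := by
  classical
  haveI hMp := isPModular_isPrime hM
  have hpp : p.Prime := hp.out
  have hPp : IsPGroup p P := IsPGroup.of_card (card_defectGroup hM hB hP)
  have hPN : P ≤ N := by rw [hN]; exact le_sup_left
  have hCN : Subgroup.centralizer (P : Set G) ≤ N := by rw [hN]; exact le_sup_right
  -- a defect class
  obtain ⟨g, hg, S, hS⟩ := hP
  have hPC : P ≤ Subgroup.centralizer ({g} : Set G) := by
    rw [hS]
    exact Subgroup.map_subtype_le _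
  have hgC : g ∈ Subgroup.centralizer (P : Set G) := by
    intro y hy
    exact Subgroup.mem_centralizer_singleton_iff.mp (hPC hy)
  have hgN : g ∈ N := hCN hgC
  have hω : ¬ MemLocalIdeal M (centralChar (χ : G → ℂ) g) := hg.2.2 χ hχ
  have hrel : ¬ p ∣ N.relIndex (Subgroup.centralizer ({g} : Set G)) := by
    apply Cfsg.Agent.Lib.Helper76.not_dvd_index_of_sylow_le p
      (N.subgroupOf (Subgroup.centralizer ({g} : Set G))) S
    intro s hs
    rw [Subgroup.mem_subgroupOf]
    apply hPN
    rw [hS]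
    exact Subgroup.mem_map_of_mem _ hs
  have hD : ∀ D : Subgroup G, IsPGroup p D → (∀ d ∈ D, conjIrrN N d θ = θ) → D ≤ N :=
    fun D hDp hfix => pSubgroup_le_of_fixes N hM χ θ hover ⟨g, hgN⟩ hω hrel D hDp hfix
  have h3 := factorization_degree_ge N χ θ hover hD
  -- inside `N`
  have hG' := sup_centralizer_subgroupOf_eq_top (P := P) N hN
  have hP'p : IsPGroup p (P.subgroupOf N) := hPp.comap_subtype
  obtain ⟨θ₀, hθ₀b, hθ₀ker, hθ₀deg⟩ := exists_mem_ker hM hP'p hG' hb hbD
  have h1reg : ¬ p ∣ orderOf (1 : N) := by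
    rw [orderOf_one]; exact hpp.one_lt.ne' ∘ Nat.dvd_one.mp
  have h4 := apply_mul_of_isPFactor hM hP'p hG' hb hbD hθ₀b hθb hθ₀ker hζ 1 h1reg
  rw [OneMemClass.coe_one, one_mul, Cfsg.Agent.Lib.Helper79.irr_apply_one_eq_charDegree θ,
    Cfsg.Agent.Lib.Helper79.irr_apply_one_eq_charDegree ζ,
    Cfsg.Agent.Lib.Helper79.irr_apply_one_eq_charDegree θ₀] at h4
  have h5 : charDegree (θ : N → ℂ) =
      charDegree (ζ : P.subgroupOf N → ℂ) * charDegree (θ₀ : N → ℂ) := by exact_mod_cast h4
  have hζpos := Cfsg.Agent.Lib.Helper79.irr_charDegree_pos ζ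
  have hθ₀pos := Cfsg.Agent.Lib.Helper79.irr_charDegree_pos θ₀
  have h6 : (charDegree (θ : N → ℂ)).factorization p =
      (charDegree (ζ : P.subgroupOf N → ℂ)).factorization p +
        (charDegree (θ₀ : N → ℂ)).factorization p := by
    rw [h5, Nat.factorization_mul hζpos.ne' hθ₀pos.ne']
    rfl
  have h7 := (P.subgroupOf N).card_mul_index
  have h8 : Nat.card (P.subgroupOf N) = Nat.card P :=
    Nat.card_congr (Subgroup.subgroupOfEquivOfLe hPN).toEquiv
  have h9 : (Nat.card N).factorization p =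
      (Nat.card P).factorization p + (P.subgroupOf N).index.factorization p := by
    rw [← h7, h8, Nat.factorization_mul Nat.card_pos.ne' Subgroup.index_ne_zero_of_finite]
    rfl
  omega

end

end Cfsg.Agent.Lib.Helper82
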