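import Mathlib
import Cfsg.Prelude
import Cfsg.Agent.Lib.Helper15.NilpotentKer
import Cfsg.Agent.Lib.Helper77.BlockIdem

/-!
# Block idempotents and normal `p`-subgroups (helper82)

* `exists_pow_classSum_coeffsInIdeal`, `memLocalIdeal_centralChar_of_not_mem_centralizer`:
  transfer of S0905 (helper15) to the local ring: for a normal `p`-subgroup `P` and
  `g ∉ C_G(P)`, the central characters `ω_χ(g)` all lie in the local ideal.
* `blockCoeff_memLocalIdeal_of_not_mem_centralizer`: the coefficients of a block idempotent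
  outside `C_G(P)` lie in the local ideal.
-/

set_option autoImplicit false

namespace Cfsg.Agent.Lib.Helper82

open Cfsg MonoidAlgebra Cfsg.Agent.Lib.Helper16 Cfsg.Agent.Lib.Helper77

universe u

section Alpha

variable {G : Type u} [Group G] [Fintype G] {M : Ideal AlgInt}

/-- Transfer of the nilpotency of class sums outside `C_G(P)` (S0905, over `ZMod p`) to `ℂ[G]`:
some power of the complex class sum has all its coefficients in the local ideal. -/
theorem exists_pow_classSum_coeffsInIdeal {p : ℕ} [Fact p.Prime] (hM : IsPModular p M)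
    (P : Subgroup G) [P.Normal] (hP : IsPGroup p P) (g : G)
    (hg : g ∉ Subgroup.centralizer (P : Set G)) :
    ∃ n : ℕ, CoeffsInIdeal M ((classSum g) ^ n) := by
  classical
  have := isPModular_isPrime hM
  have hg' : ∀ x : G, IsConj g x → x ∉ Subgroup.centralizer (P : Set G) := by
    intro x hx hxc
    apply hg
    obtain ⟨c, hc⟩ := isConj_iff.mp hx.symm
    rw [← hc]
    exact (Subgroup.normal_centralizer (H := P)).conj_mem x hxc c
  have hnil := Cfsg.Agent.Lib.Helper15.isNilpotent_classSum_of_normal_pGroup (ZMod p) p P hP g hg'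
  obtain ⟨n, hn⟩ := hnil
  refine ⟨n, ?_⟩
  -- the integral class sum
  let KZ : MonoidAlgebra ℤ G := ∑ y ∈ Cfsg.Agent.Lib.Helper79.conjFinset g, single y 1
  have h1 : mapRingHom G (Int.castRingHom ℂ) KZ = classSum g := by
    unfold classSum
    rw [map_sum]
    simp
  have h2 : mapRingHom G (Int.castRingHom (ZMod p)) KZ =
      ∑ᶠ x ∈ ConjClasses.carrier (ConjClasses.mk g), MonoidAlgebra.single x (1 : ZMod p) := by
    have hfin : (ConjClasses.carrier (ConjClasses.mk g)).Finite := Set.toFinite _
    rw [finsum_mem_eq_finite_toFinset_sum _ hfin, map_sum]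
    simp only [mapRingHom_single, map_one]
    apply Finset.sum_congr _ (fun _ _ => rfl)
    ext x
    rw [Cfsg.Agent.Lib.Helper79.mem_conjFinset, Set.Finite.mem_toFinset,
      ConjClasses.mem_carrier_iff_mk_eq, eq_comm, ConjClasses.mk_eq_mk_iff_isConj]
  have h3 : mapRingHom G (Int.castRingHom (ZMod p)) (KZ ^ n) = 0 := by
    rw [map_pow, h2, hn]
  intro x
  rw [← h1, ← map_pow, coeff_mapRingHom]
  have h4 := congrArg (fun z => z.coeff x) h3
  simp only [coeff_mapRingHom, coeff_zero, Finsupp.coe_zero, Pi.zero_apply] at h4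
  have h5 : (p : ℤ) ∣ (KZ ^ n).coeff x := by
    rwa [eq_intCast, ZMod.intCast_zmod_eq_zero_iff_dvd] at h4
  rw [eq_intCast]
  exact (memLocalIdeal_intCast_iff hM _).mpr h5

/-- **(α)**: for a normal `p`-subgroup `P` and `g ∉ C_G(P)`, every central character takes a
value in the local ideal at the class of `g`. -/
theorem memLocalIdeal_centralChar_of_not_mem_centralizer {p : ℕ} [Fact p.Prime]
    (hM : IsPModular p M) (P : Subgroup G) [P.Normal] (hP : IsPGroup p P)
    (χ : IrrCharacter G) (g : G) (hg : g ∉ Subgroup.centralizer (P : Set G)) :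
    MemLocalIdeal M (centralChar (χ : G → ℂ) g) := by
  classical
  have := isPModular_isPrime hM
  obtain ⟨n, hn⟩ := exists_pow_classSum_coeffsInIdeal hM P hP g hg
  have hn0 : n ≠ 0 := by
    rintro rfl
    have h1 := hn 1
    rw [pow_zero, coeff_one_apply, if_pos rfl] at h1
    exact one_not_memLocalIdeal h1
  have hc : ((classSumC g ^ n : Subalgebra.center ℂ (MonoidAlgebra ℂ G)) : MonoidAlgebra ℂ G) =
      classSum g ^ n := by
    push_cast
    rfl
  have h1 : MemLocalIdeal M (omegaHom χ (classSumC g ^ n)) := by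
    rw [omegaHom_apply]
    apply omega_memLocalIdeal χ (classSumC g ^ n).2
    rw [hc]
    exact hn
  rw [map_pow, omegaHom_classSumC] at h1
  have hR : MemLocalRing M (centralChar (χ : G → ℂ) g) :=
    memLocalRing_of_isIntegral this.ne_top (Cfsg.Agent.Lib.Helper79.isIntegral_centralChar χ g)
  exact (memLocalIdeal_pow_iff hR hn0).mp h1

end Alpha

section Support

variable {G : Type u} [Group G] [Fintype G] {M : Ideal AlgInt} [hMp : M.IsPrime]

/-- Extension by zero from a subgroup. -/
noncomputable def extZero (H : Subgroup G) : MonoidAlgebra ℂ H →+* MonoidAlgebra ℂ G :=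
  mapDomainRingHom ℂ H.subtype

omit [Fintype G] in
theorem coeff_extZero_of_mem (H : Subgroup G) (x : MonoidAlgebra ℂ H) {g : G} (hg : g ∈ H) :
    (extZero H x).coeff g = x.coeff ⟨g, hg⟩ := by
  show (Finsupp.mapDomain H.subtype x.coeff) g = _
  exact Finsupp.mapDomain_apply (f := H.subtype) Subtype.val_injective x.coeff ⟨g, hg⟩

omit [Fintype G] in
theorem coeff_extZero_of_not_mem (H : Subgroup G) (x : MonoidAlgebra ℂ H) {g : G} (hg : g ∉ H) :
    (extZero H x).coeff g = 0 := by
  show (Finsupp.mapDomain H.subtype x.coeff) g = _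
  apply Finsupp.mapDomain_of_notMem_range
  rintro ⟨h, rfl⟩
  exact hg h.2

omit [Fintype G] in
theorem coeffsInIdeal_extZero (H : Subgroup G) {x : MonoidAlgebra ℂ H}
    (hx : CoeffsInIdeal M x) : CoeffsInIdeal M (extZero H x) := by
  intro g
  by_cases hg : g ∈ H
  · rw [coeff_extZero_of_mem H x hg]; exact hx _
  · rw [coeff_extZero_of_not_mem H x hg]; exact memLocalIdeal_zero hMp.ne_top

theorem coeffsInRing_pow {a : MonoidAlgebra ℂ G} (ha : CoeffsInRing M a) (n : ℕ) :
    CoeffsInRing M (a ^ n) := by
  induction n with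
  | zero => rw [pow_zero]; exact coeffsInRing_one
  | succ n ih => rw [pow_succ]; exact CoeffsInRing.mul ih ha

theorem cube_identity {R' : Type*} [CommRing R'] (E E₁ : R') (hEE : E * E = E) :
    (E - E₁) ^ 3 - (E - E₁) = (E + E + E - E₁ - 1) * (E₁ * E₁ - E₁) := by
  linear_combination (E - 3 * E₁ + 1) * hEE

/-- Abstract step: a central element `e₂` with coefficients in the local ring such that
`e₂ ^ 3 ≡ e₂` and `e₂ ^ k ≡ 0` modulo the local ideal has coefficients in the local ideal. -/
theorem coeffsInIdeal_of_pow_three {a : MonoidAlgebra ℂ G} (ha : CoeffsInRing M a)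
    (h3 : CoeffsInIdeal M (a ^ 3 - a)) {k : ℕ} (hk : CoeffsInIdeal M (a ^ k)) :
    CoeffsInIdeal M a := by
  have hodd : ∀ j : ℕ, CoeffsInIdeal M (a ^ (2 * j + 1) - a) := by
    intro j
    induction j with
    | zero => simpa using CoeffsInIdeal.zero
    | succ j ih =>
      have e : a ^ (2 * (j + 1) + 1) - a = a ^ (2 * j) * (a ^ 3 - a) + (a ^ (2 * j + 1) - a) := by
        rw [mul_sub, ← pow_add, ← pow_succ]
        have : 2 * (j + 1) + 1 = 2 * j + 3 := by ring
        rw [this]
        abel
      rw [e]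
      exact (CoeffsInIdeal.mul_left (coeffsInRing_pow ha _) h3).add ih
  have hbig : CoeffsInIdeal M (a ^ (2 * k + 1)) := by
    have : 2 * k + 1 = k + (k + 1) := by ring
    rw [this, pow_add]
    exact hk.mul_right (coeffsInRing_pow ha _)
  have := hbig.sub (hodd k)
  simpa using this

/-- **(A)**: for a normal `p`-subgroup `P`, the coefficients of a block idempotent at elements
outside `C_G(P)` lie in the local ideal. -/
theorem blockCoeff_memLocalIdeal_of_not_mem_centralizer {p : ℕ} [Fact p.Prime]
    (hM : IsPModular p M) (P : Subgroup G) [P.Normal] (hP : IsPGroup p P)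
    {B : Set (IrrCharacter G)} (hB : IsPBlock M B) (g : G)
    (hg : g ∉ Subgroup.centralizer (P : Set G)) : MemLocalIdeal M (blockCoeff B g) := by
  classical
  set C : Subgroup G := Subgroup.centralizer (P : Set G) with hC
  have hCn : C.Normal := Subgroup.normal_centralizer (H := P)
  -- the idempotent and its two parts
  set e : MonoidAlgebra ℂ G := idemOf B with he
  have hec : e ∈ Subalgebra.center ℂ (MonoidAlgebra ℂ G) := idemOf_mem_center B
  have heR : CoeffsInRing M e := fun x => by
    rw [he, coeff_idemOf]; exact blockCoeff_memLocalRing hB x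
  have hee : e * e = e := congrArg Subtype.val (idemC_mul_self B)
  set e₁ : MonoidAlgebra ℂ G := extZero C (trunc C e) with he₁
  have he₁coeff : ∀ x : G, e₁.coeff x = if x ∈ C then e.coeff x else 0 := by
    intro x
    split_ifs with hx
    · rw [he₁, coeff_extZero_of_mem C _ hx, coeff_trunc]
    · rw [he₁, coeff_extZero_of_not_mem C _ hx]
  have he₁c : e₁ ∈ Subalgebra.center ℂ (MonoidAlgebra ℂ G) := by
    apply mem_center_of_coeff_conj
    intro x h
    rw [he₁coeff, he₁coeff, coeff_conj_of_mem_center hec]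
    have : h * x * h⁻¹ ∈ C ↔ x ∈ C := by
      constructor
      · intro h1
        have := hCn.conj_mem _ h1 h⁻¹
        simpa [mul_assoc] using this
      · intro h1
        exact hCn.conj_mem _ h1 h
    simp only [this]
  have he₁R : CoeffsInRing M e₁ := fun x => by
    rw [he₁coeff]
    split_ifs
    · exact heR x
    · exact memLocalRing_zero hMp.ne_top
  set e₂ : MonoidAlgebra ℂ G := e - e₁ with he₂
  have he₂c : e₂ ∈ Subalgebra.center ℂ (MonoidAlgebra ℂ G) := Subalgebra.sub_mem _ hec he₁c
  have he₂R : CoeffsInRing M e₂ := CoeffsInRing.sub heR he₁R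
  have he₂coeff : ∀ x : G, e₂.coeff x = if x ∈ C then 0 else e.coeff x := by
    intro x
    rw [he₂, coeff_sub, Finsupp.sub_apply, he₁coeff]
    split_ifs <;> simp
  -- (i) `e₁` is idempotent modulo the local ideal
  have hd : CoeffsInIdeal M (e₁ * e₁ - e₁) := by
    have hPe : ConjInv P e := conjInv_of_mem_center P hec
    have h1 := coeffsInIdeal_trunc_mul hM P hP heR heR hPe hPe
    rw [hee] at h1
    have h2 := (coeffsInIdeal_extZero C h1).neg
    have e3 : -(extZero C (trunc C e - trunc C e * trunc C e)) = e₁ * e₁ - e₁ := by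
      rw [map_sub, map_mul, he₁]
      abel
    rwa [e3] at h2
  -- (ii) central characters of `e₂` lie in the local ideal
  have hω : ∀ ψ : IrrCharacter G, MemLocalIdeal M (omegaHom ψ ⟨e₂, he₂c⟩) := by
    intro ψ
    rw [omegaHom_apply]
    show MemLocalIdeal M (omega (ψ : G → ℂ) e₂)
    rw [omega_eq_sum_classes _ (irr_conj ψ) he₂c]
    apply memLocalIdeal_sum
    intro c _
    rw [he₂coeff]
    split_ifs with hx
    · rw [zero_mul]; exact memLocalIdeal_zero hMp.ne_top
    · exact memLocalIdeal_mul_left (heR _)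
        (memLocalIdeal_centralChar_of_not_mem_centralizer hM P hP ψ _ hx)
  -- (iii) nilpotency modulo the local ideal
  have hpow := exists_pow_coeffsInIdeal (z := ⟨e₂, he₂c⟩) (fun x => he₂R x) hω
  have hpow' : CoeffsInIdeal M (e₂ ^ Nat.card (IrrCharacter G)) := by
    have hc : (((⟨e₂, he₂c⟩ : Subalgebra.center ℂ (MonoidAlgebra ℂ G)) ^
        Nat.card (IrrCharacter G) : Subalgebra.center ℂ (MonoidAlgebra ℂ G)) :
        MonoidAlgebra ℂ G) = e₂ ^ Nat.card (IrrCharacter G) := by
      push_cast
      rfl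
    rwa [hc] at hpow
  -- (iv) `e₂ ^ 3 ≡ e₂`
  have h3 : CoeffsInIdeal M (e₂ ^ 3 - e₂) := by
    have hid : e₂ ^ 3 - e₂ = (e + e + e - e₁ - 1) * (e₁ * e₁ - e₁) := by
      -- compute in the commutative centre
      have hEE : (⟨e, hec⟩ : Subalgebra.center ℂ (MonoidAlgebra ℂ G)) * ⟨e, hec⟩ = ⟨e, hec⟩ :=
        Subtype.ext hee
      exact congrArg Subtype.val (cube_identity
        (⟨e, hec⟩ : Subalgebra.center ℂ (MonoidAlgebra ℂ G)) ⟨e₁, he₁c⟩ hEE)
    rw [hid]
    apply CoeffsInIdeal.mul_left _ hd
    exact CoeffsInRing.sub (CoeffsInRing.sub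
      (CoeffsInRing.add (CoeffsInRing.add heR heR) heR) he₁R) coeffsInRing_one
  have hfin := coeffsInIdeal_of_pow_three he₂R h3 hpow'
  have := hfin g
  rw [he₂coeff, if_neg hg, he, coeff_idemOf] at this
  exact this

end Support

end Cfsg.Agent.Lib.Helper82
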