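import Mathlib
import Cfsg.Agent.Lib.Helper16.Nilpotent
import Cfsg.Agent.Lib.Helper16.BrauerHom
import Cfsg.Agent.Lib.Helper78.BlockCount
import Cfsg.Agent.Lib.Helper77.Deflation

/-!
# Blocks of a group with a normal Sylow `p`-subgroup (helper82)

For a finite group `G` with a normal Sylow `p`-subgroup `Q` (a normal `p`-subgroup of index prime
to `p`):

* `isDefectGroup_of_normal_sylow`: every block has defect group `Q`;
* `isConj_of_isConj_mk`: `p`-regular elements of `C_G(Q)` that are conjugate modulo `Q` are
  conjugate;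
* `card_classes_le_card_blocks`: there are at least as many blocks as `p`-regular classes inside
  `C_G(Q)` (the class sums are independent modulo the radical, seen in `G ⧸ Q`);
* `card_blocks_eq_card_classes`: the number of blocks is the number of such classes.
-/

set_option autoImplicit false
set_option linter.unusedSectionVars false
set_option linter.style.haveILetI false

namespace Cfsg.Agent.Lib.Helper82

open Cfsg Cfsg.Agent.Lib.Helper16 Cfsg.Agent.Lib.Helper78
open scoped ComplexConjugate

section

variable {G : Type*} [Group G] [Fintype G]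

/-- The order of a normal Sylow subgroup. -/
theorem card_eq_of_not_dvd_index {p : ℕ} [Fact p.Prime] (Q : Subgroup G) (hQ : IsPGroup p Q)
    (hidx : ¬ p ∣ Q.index) : Nat.card Q = p ^ (Nat.card G).factorization p := by
  have hp : p.Prime := Fact.out
  obtain ⟨n, hn⟩ := IsPGroup.iff_card.mp hQ
  have h1 := Q.card_mul_index
  have h2 : (Nat.card G).factorization p = n := by
    rw [← h1, hn, Nat.factorization_mul (pow_ne_zero _ hp.ne_zero) Q.index_ne_zero_of_finite,
      Finsupp.add_apply, hp.factorization_pow, Finsupp.single_eq_same,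
      Nat.factorization_eq_zero_of_not_dvd hidx, add_zero]
  rw [h2, hn]

/-- Every `p`-subgroup lies in a normal Sylow `p`-subgroup. -/
theorem le_of_normal_sylow {p : ℕ} [Fact p.Prime] (Q : Subgroup G) [Q.Normal] (hQ : IsPGroup p Q)
    (hidx : ¬ p ∣ Q.index) {K : Subgroup G} (hK : IsPGroup p K) : K ≤ Q := by
  let S : Sylow p G := Sylow.ofCard Q (card_eq_of_not_dvd_index Q hQ hidx)
  obtain ⟨S', hS'⟩ := hK.exists_le_sylow
  have hSn : (S : Subgroup G).Normal := by rw [Sylow.coe_ofCard]; infer_instance
  haveI : Unique (Sylow p G) := Sylow.unique_of_normal S hSn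
  have : S' = S := Subsingleton.elim _ _
  rw [this] at hS'
  simpa [S, Sylow.coe_ofCard] using hS'

/-- In a group with a normal Sylow `p`-subgroup `Q`, every block has defect group `Q`. -/
theorem isDefectGroup_of_normal_sylow {p : ℕ} [Fact p.Prime] {M : Ideal AlgInt}
    (hM : IsPModular p M) (Q : Subgroup G) [Q.Normal] (hQ : IsPGroup p Q)
    (hidx : ¬ p ∣ Q.index) {B : Set (IrrCharacter G)} (hB : IsPBlock M B) :
    IsDefectGroup p M B Q := by
  haveI hMp := isPModular_isPrime hM
  obtain ⟨D, hD⟩ := exists_isDefectGroup p hB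
  have h1 : Q ≤ D := normal_pGroup_le_defectGroup hM Q hQ hB hD
  have hDp : IsPGroup p D := by
    obtain ⟨g, hg, P, rfl⟩ := hD
    exact P.2.map _
  have h2 : D ≤ Q := le_of_normal_sylow Q hQ hidx hDp
  rwa [le_antisymm h1 h2]

/-- `p`-regular elements of `C_G(Q)` whose images in `G ⧸ Q` are conjugate are conjugate. -/
theorem isConj_of_isConj_mk {p : ℕ} [Fact p.Prime] (Q : Subgroup G) [Q.Normal]
    (hQ : IsPGroup p Q) {x x' : G} (hx : ¬ p ∣ orderOf x)
    (hx'c : x' ∈ Subgroup.centralizer (Q : Set G)) (hx' : ¬ p ∣ orderOf x')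
    (h : IsConj (x : G ⧸ Q) (x' : G ⧸ Q)) : IsConj x x' := by
  have hp : p.Prime := Fact.out
  rw [isConj_iff] at h
  obtain ⟨gbar, hg⟩ := h
  obtain ⟨g, rfl⟩ := QuotientGroup.mk_surjective gbar
  have h1 : ((g * x * g⁻¹ : G) : G ⧸ Q) = (x' : G ⧸ Q) := by
    rw [QuotientGroup.mk_mul, QuotientGroup.mk_mul, QuotientGroup.mk_inv]
    exact hg
  rw [eq_comm, QuotientGroup.eq] at h1
  set u := x'⁻¹ * (g * x * g⁻¹) with hu
  have hcomm : Commute x' u := by
    have := hx'c u h1
    exact this.symm
  have hy : g * x * g⁻¹ = x' * u := by rw [hu]; group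
  obtain ⟨k, hk⟩ := (IsPGroup.iff_orderOf.mp hQ) ⟨u, h1⟩
  rw [Subgroup.orderOf_mk] at hk
  have hcop : (orderOf x').Coprime (orderOf u) := by
    rw [hk]
    exact Nat.Coprime.pow_right _ ((Nat.Prime.coprime_iff_not_dvd hp).mpr hx').symm
  have hord : orderOf (x' * u) = orderOf x' * orderOf u :=
    hcomm.orderOf_mul_eq_mul_orderOf_of_coprime hcop
  have hyord : orderOf (g * x * g⁻¹) = orderOf x := by
    have : g * x * g⁻¹ = (MulAut.conj g) x := by simp [MulAut.conj_apply]
    rw [this, MulEquiv.orderOf_eq]
  have hk0 : k = 0 := by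
    by_contra hk0
    apply hx
    rw [← hyord, hy, hord, hk]
    exact Dvd.dvd.mul_left (dvd_pow_self p hk0) _
  have hu1 : u = 1 := by
    rw [← orderOf_eq_one_iff, hk, hk0, pow_zero]
  rw [hu1, mul_one] at hy
  rw [isConj_iff]
  exact ⟨g, hy⟩

/-- The central character of an inflated character. -/
theorem centralChar_inflate (Q : Subgroup G) [Q.Normal] (ψ : IrrCharacter (G ⧸ Q)) (y : G) :
    centralChar (Cfsg.Agent.Lib.Helper77.inflate Q ψ : G → ℂ) y =
      ((Subgroup.centralizer ({y} : Set G)).index : ℂ) * (ψ : G ⧸ Q → ℂ) (y : G ⧸ Q) /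
        (ψ : G ⧸ Q → ℂ) 1 := by
  unfold centralChar
  rw [Cfsg.Agent.Lib.Helper77.inflate_apply, Cfsg.Agent.Lib.Helper77.inflate_apply,
    QuotientGroup.mk_one]

/-- In a group with a normal Sylow `p`-subgroup `Q`, there are at least as many blocks as
`p`-regular classes inside `C_G(Q)`. -/
theorem card_classes_le_card_blocks {p : ℕ} [Fact p.Prime] {M : Ideal AlgInt}
    (hM : IsPModular p M) (Q : Subgroup G) [Q.Normal] (hQ : IsPGroup p Q)
    (hidx : ¬ p ∣ Q.index) :
    Nat.card {C : ConjClasses G // ∀ n : G, ConjClasses.mk n = C →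
        ¬ p ∣ orderOf n ∧ n ∈ Subgroup.centralizer (Q : Set G)} ≤
      Nat.card {B : Set (IrrCharacter G) // IsPBlock M B} := by
  classical
  haveI hMp := isPModular_isPrime hM
  have hp : p.Prime := Fact.out
  haveI : Finite (IrrCharacter G) := finite_irrCharacter
  let ι := {C : ConjClasses G // ∀ n : G, ConjClasses.mk n = C →
        ¬ p ∣ orderOf n ∧ n ∈ Subgroup.centralizer (Q : Set G)}
  let κ := {B : Set (IrrCharacter G) // IsPBlock M B}
  haveI : Fintype ι := Fintype.ofFinite ι
  haveI : Fintype κ := Fintype.ofFinite κ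
  haveI : Fintype (G ⧸ Q) := Fintype.ofFinite _
  rw [Nat.card_eq_fintype_card, Nat.card_eq_fintype_card]
  let S := localSubring M
  let res := IsLocalRing.residue S
  have hne : ∀ B : κ, ∃ χ : IrrCharacter G, χ ∈ B.1 := fun B =>
    IsPBlock_nonempty hMp.ne_top B.2
  choose χ hχ using hne
  let x : ι → G := fun c => classRep c.1
  have hx : ∀ c : ι, ¬ p ∣ orderOf (x c) ∧ x c ∈ Subgroup.centralizer (Q : Set G) :=
    fun c => c.2 (x c) (mk_classRep c.1)
  let wS : ι → κ → S := fun c B =>
    ⟨centralChar (χ B : G → ℂ) (x c), memLocalRing_of_isIntegral hMp.ne_top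
      (Cfsg.Agent.Lib.Helper79.isIntegral_centralChar (χ B) _)⟩
  let v : ι → (κ → IsLocalRing.ResidueField S) := fun c B => res (wS c B)
  have hli : LinearIndependent (IsLocalRing.ResidueField S) v := by
    rw [Fintype.linearIndependent_iff]
    intro g hg c'
    -- lift the coefficients
    have hsurj : ∀ c : ι, ∃ a : S, res a = g c := fun c => Ideal.Quotient.mk_surjective (g c)
    choose a ha using hsurj
    -- the combination lies in the ideal at every block representative
    have hB : ∀ B : κ, MemLocalIdeal M (∑ c : ι, (a c : ℂ) * centralChar (χ B : G → ℂ) (x c)) := by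
      intro B
      have h1 := congrFun hg B
      simp only [Finset.sum_apply, Pi.smul_apply, smul_eq_mul, Pi.zero_apply, v] at h1
      have h2 : res (∑ c : ι, a c * wS c B) = 0 := by
        rw [map_sum, ← h1]
        apply Finset.sum_congr rfl
        intro c _
        rw [map_mul, ha]
      rw [IsLocalRing.residue_eq_zero_iff, maximalIdeal_localSubring, mem_localIdeal] at h2
      have h3 : ((∑ c : ι, a c * wS c B : S) : ℂ) =
          ∑ c : ι, (a c : ℂ) * centralChar (χ B : G → ℂ) (x c) := by
        rw [← Subring.subtype_apply, map_sum]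
        apply Finset.sum_congr rfl
        intro c _
        rw [map_mul]
        rfl
      rwa [h3] at h2
    -- hence at every irreducible character
    have hψ : ∀ ψ : IrrCharacter G,
        MemLocalIdeal M (∑ c : ι, (a c : ℂ) * centralChar (ψ : G → ℂ) (x c)) := by
      intro ψ
      let B : κ := ⟨blockOf M (ψ : G → ℂ), isPBlock_blockOf ψ⟩
      have hmem : χ B ∈ blockOf M (ψ : G → ℂ) := hχ B
      rw [mem_blockOf_iff] at hmem
      have hdiff : MemLocalIdeal M (∑ c : ι, (a c : ℂ) *
          (centralChar (ψ : G → ℂ) (x c) - centralChar (χ B : G → ℂ) (x c))) := by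
        apply memLocalIdeal_sum
        intro c _
        exact memLocalIdeal_mul_left (a c).2 (hmem (x c))
      have hsum := memLocalIdeal_add hdiff (hB B)
      have heq : ∑ c : ι, (a c : ℂ) *
          (centralChar (ψ : G → ℂ) (x c) - centralChar (χ B : G → ℂ) (x c)) +
          ∑ c : ι, (a c : ℂ) * centralChar (χ B : G → ℂ) (x c) =
          ∑ c : ι, (a c : ℂ) * centralChar (ψ : G → ℂ) (x c) := by
        rw [← Finset.sum_add_distrib]
        apply Finset.sum_congr rfl
        intro c _
        ring
      rwa [heq] at hsum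
    -- Fourier inversion in the quotient
    set x' := x c' with hx'def
    let T : ℂ := ∑ ψ : IrrCharacter (G ⧸ Q), ((ψ : G ⧸ Q → ℂ) 1 *
      conj ((ψ : G ⧸ Q → ℂ) (x' : G ⧸ Q))) *
      (∑ c : ι, (a c : ℂ) *
        centralChar (Cfsg.Agent.Lib.Helper77.inflate Q ψ : G → ℂ) (x c))
    have hT : MemLocalIdeal M T := by
      apply memLocalIdeal_sum
      intro ψ _
      apply memLocalIdeal_mul_left _ (hψ _)
      have hchar : IsCharacter (G ⧸ Q) (ψ : G ⧸ Q → ℂ) :=
        Cfsg.Agent.Lib.Helper78.IsIrrCharacter.isCharacter ψ.2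
      apply memLocalRing_mul
      · exact memLocalRing_of_isIntegral hMp.ne_top
          (Cfsg.Agent.Lib.Helper78.IsCharacter.isIntegral hchar _)
      · rw [← Cfsg.Agent.Lib.Helper78.IsCharacter.inv hchar]
        exact memLocalRing_of_isIntegral hMp.ne_top
          (Cfsg.Agent.Lib.Helper78.IsCharacter.isIntegral hchar _)
    have hTval : T = (a c' : ℂ) * (((Subgroup.centralizer ({x'} : Set G)).index *
        Nat.card (Subgroup.centralizer ({(x' : G ⧸ Q)} : Set (G ⧸ Q))) : ℕ) : ℂ) := by
      have h1 : T = ∑ c : ι, (a c : ℂ) * ((Subgroup.centralizer ({x c} : Set G)).index : ℂ) *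
          ∑ ψ : IrrCharacter (G ⧸ Q), (ψ : G ⧸ Q → ℂ) (x c : G ⧸ Q) *
            conj ((ψ : G ⧸ Q → ℂ) (x' : G ⧸ Q)) := by
        show (∑ ψ : IrrCharacter (G ⧸ Q), _) = _
        simp only [Finset.mul_sum]
        rw [Finset.sum_comm]
        apply Finset.sum_congr rfl
        intro c _
        apply Finset.sum_congr rfl
        intro ψ _
        rw [centralChar_inflate]
        have h1 : (ψ : G ⧸ Q → ℂ) 1 ≠ 0 :=
          Cfsg.Agent.Lib.Helper78.IsIrrCharacter.apply_one_ne_zero ψ.2
        field_simp
      rw [h1, Finset.sum_eq_single c']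
      · rw [second_orthogonality_of_isConj (IsConj.refl _)]
        push_cast
        ring
      · intro c _ hc
        rw [second_orthogonality_of_not_isConj, mul_zero]
        intro hconj
        apply hc
        have := isConj_of_isConj_mk Q hQ (hx c).1 (hx c').2 (hx c').1 hconj
        apply Subtype.ext
        rw [← mk_classRep c.1, ← mk_classRep c'.1]
        exact ConjClasses.mk_eq_mk_iff_isConj.mpr this
      · intro h
        exact absurd (Finset.mem_univ _) h
    -- the numerical factor is prime to `p`
    set n := (Subgroup.centralizer ({x'} : Set G)).index *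
        Nat.card (Subgroup.centralizer ({(x' : G ⧸ Q)} : Set (G ⧸ Q))) with hn
    have hpn : ¬ p ∣ n := by
      rw [hn, hp.dvd_mul]
      rintro (h | h)
      · apply hidx
        have hle : Q ≤ Subgroup.centralizer ({x'} : Set G) := by
          intro q hq
          rw [Subgroup.mem_centralizer_singleton_iff]
          exact (hx c').2 q hq
        exact h.trans (Subgroup.index_dvd_of_le hle)
      · apply hidx
        rw [Subgroup.index_eq_card]
        exact h.trans (Subgroup.card_subgroup_dvd_card _)
    have hac : MemLocalIdeal M (a c' : ℂ) := by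
      have hn0 : (n : ℂ) ≠ 0 := by
        have : n ≠ 0 := fun h0 => hpn (h0 ▸ dvd_zero p)
        exact_mod_cast this
      have : (a c' : ℂ) = T * (n : ℂ)⁻¹ := by
        rw [hTval]
        field_simp
      rw [this]
      exact memLocalIdeal_mul_right hT (memLocalRing_inv_natCast hM hpn)
    rw [← ha c', IsLocalRing.residue_eq_zero_iff, maximalIdeal_localSubring, mem_localIdeal]
    exact hac
  have h1 := hli.fintype_card_le_finrank
  rwa [Module.finrank_fintype_fun_eq_card] at h1

/-- In a group with a normal Sylow `p`-subgroup `Q`, the number of blocks is the number of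
`p`-regular classes inside `C_G(Q)`. -/
theorem card_blocks_eq_card_classes {p : ℕ} [Fact p.Prime] {M : Ideal AlgInt}
    (hM : IsPModular p M) (Q : Subgroup G) [Q.Normal] (hQ : IsPGroup p Q)
    (hidx : ¬ p ∣ Q.index) :
    Nat.card {B : Set (IrrCharacter G) // IsPBlock M B} =
      Nat.card {C : ConjClasses G // ∀ n : G, ConjClasses.mk n = C →
        ¬ p ∣ orderOf n ∧ n ∈ Subgroup.centralizer (Q : Set G)} := by
  classical
  haveI hMp := isPModular_isPrime hM
  have hp : p.Prime := Fact.out
  apply le_antisymm _ (card_classes_le_card_blocks hM Q hQ hidx)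
  set a := (Nat.card G).factorization p with ha
  have hQcard := card_eq_of_not_dvd_index Q hQ hidx
  have hdef : ∀ B : Set (IrrCharacter G), IsPBlock M B → blockDefect p B = a := by
    intro B hB
    have h1 := card_defectGroup hM hB (isDefectGroup_of_normal_sylow hM Q hQ hidx hB)
    rw [hQcard] at h1
    exact (Nat.pow_right_injective hp.two_le h1).symm
  have h1 := card_blocks_le_card_classes (G := G) hM ({a} : Set ℕ) (by
    intro x y z hx hz hxy hyz
    rw [Set.mem_singleton_iff] at hx hz ⊢
    omega)
  have e1 : Nat.card {B : Set (IrrCharacter G) // IsPBlock M B} =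
      Nat.card {B : Set (IrrCharacter G) // IsPBlock M B ∧ blockDefect p B ∈ ({a} : Set ℕ)} :=
    Nat.card_congr (Equiv.subtypeEquivRight fun B =>
      ⟨fun h => ⟨h, hdef B h⟩, fun h => h.1⟩)
  have e2 : Nat.card {C : ConjClasses G // ∃ g : G, ConjClasses.mk g = C ∧ ¬ p ∣ orderOf g ∧
        (Nat.card (Subgroup.centralizer ({g} : Set G))).factorization p ∈ ({a} : Set ℕ)} =
      Nat.card {C : ConjClasses G // ∀ n : G, ConjClasses.mk n = C →
        ¬ p ∣ orderOf n ∧ n ∈ Subgroup.centralizer (Q : Set G)} := by
    apply Nat.card_congr (Equiv.subtypeEquivRight fun C => ?_)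
    constructor
    · rintro ⟨g, rfl, hg, hgc⟩ n hn
      rw [Set.mem_singleton_iff] at hgc
      have hconj : IsConj n g := ConjClasses.mk_eq_mk_iff_isConj.mp hn
      obtain ⟨t, ht⟩ := isConj_iff.mp hconj
      have hord : orderOf n = orderOf g := by
        have : g = (MulAut.conj t) n := by simp [MulAut.conj_apply, ht]
        rw [this, MulEquiv.orderOf_eq]
      refine ⟨by rw [hord]; exact hg, ?_⟩
      -- a Sylow subgroup of `C(n)` has the order of `Q`, hence is `Q`
      have hcn : (Nat.card (Subgroup.centralizer ({n} : Set G))).factorization p = a := by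
        rw [card_centralizer_eq_of_isConj hconj, hgc]
      obtain ⟨P⟩ : Nonempty (Sylow p (Subgroup.centralizer ({n} : Set G))) := inferInstance
      set K := (P : Subgroup (Subgroup.centralizer ({n} : Set G))).map
        (Subgroup.centralizer ({n} : Set G)).subtype with hK
      have hKp : IsPGroup p K := P.2.map _
      have hKQ : K ≤ Q := le_of_normal_sylow Q hQ hidx hKp
      have hKcard : Nat.card K = Nat.card Q := by
        rw [hK, Subgroup.card_map_of_injective (Subgroup.subtype_injective _),
          Sylow.card_eq_multiplicity, hcn, hQcard]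
      have hKeq : K = Q := Subgroup.eq_of_le_of_card_ge hKQ hKcard.ge
      intro q hq
      have hqK : q ∈ K := by rw [hKeq]; exact hq
      rw [hK] at hqK
      obtain ⟨k, _, rfl⟩ := hqK
      have := k.2
      rw [Subgroup.mem_centralizer_singleton_iff] at this
      exact this
    · intro h
      obtain ⟨g, rfl⟩ := C.exists_rep
      obtain ⟨hg, hgc⟩ := h g rfl
      refine ⟨g, rfl, hg, ?_⟩
      rw [Set.mem_singleton_iff]
      have hle : Q ≤ Subgroup.centralizer ({g} : Set G) := by
        intro q hq
        rw [Subgroup.mem_centralizer_singleton_iff]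
        exact hgc q hq
      have h1 : Nat.card Q ∣ Nat.card (Subgroup.centralizer ({g} : Set G)) :=
        Subgroup.card_dvd_of_le hle
      have h2 : Nat.card (Subgroup.centralizer ({g} : Set G)) ∣ Nat.card G :=
        Subgroup.card_subgroup_dvd_card _
      have hpos : Nat.card (Subgroup.centralizer ({g} : Set G)) ≠ 0 := Nat.card_pos.ne'
      apply le_antisymm
      · exact (Nat.factorization_le_iff_dvd hpos Nat.card_pos.ne').mpr h2 p
      · rw [hQcard] at h1
        exact (hp.pow_dvd_iff_le_factorization hpos).mp h1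
  rw [e1, ← e2]
  exact h1

end

end Cfsg.Agent.Lib.Helper82
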