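import Mathlib
import Cfsg.Prelude.Def_Blocks
import Cfsg.Prelude.Def_BlockRank

/-!
# Chains of `p`-subgroups: definitions for the Knörr–Robinson alternating sum (S4651)

* `chainStab s`   : the stabilizer `⨅ Q ∈ s, N_G(Q)` of a finite set of subgroups.
* `IsPChain p s`  : `s` is totally ordered by `≤` and consists of nontrivial `p`-subgroups.
* `IsNormalChain s` : some member `T ∈ s` contains every member and normalizes every member.
* `secSum p R K`  : `∑ R (K ⊓ C_G(u))` over the nontrivial `p`-elements `u` of `K`.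
* `indSet M K b`  : the irreducible characters of `K` lying in blocks inducing `b`.
* `rankFun p M b L` : `|L|` times the sum of the `p`-regular ranks of the blocks of `L` inducing `b`.
-/

set_option autoImplicit false

namespace Cfsg.Agent.Lib.Helper82

open Cfsg

variable {G : Type*} [Group G]

/-- The stabilizer of a finite set of subgroups: the intersection of the normalizers. -/
def chainStab (s : Finset (Subgroup G)) : Subgroup G :=
  ⨅ Q ∈ s, Subgroup.normalizer ((Q : Subgroup G) : Set G)

/-- A chain (for `≤`) of nontrivial `p`-subgroups. The empty chain is allowed. -/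
def IsPChain (p : ℕ) (s : Finset (Subgroup G)) : Prop :=
  (∀ Q ∈ s, ∀ R ∈ s, Q ≤ R ∨ R ≤ Q) ∧ (∀ Q ∈ s, Q ≠ ⊥ ∧ IsPGroup p Q)

/-- Some member of `s` contains and normalizes every member of `s` (in particular `s ≠ ∅`). -/
def IsNormalChain (s : Finset (Subgroup G)) : Prop :=
  ∃ T ∈ s, ∀ Q ∈ s, Q ≤ T ∧ T ≤ Subgroup.normalizer ((Q : Subgroup G) : Set G)

/-- `∑ R (K ⊓ C_G(u))` over the nontrivial `p`-elements `u` of `K`. -/
noncomputable def secSum (p : ℕ) (R : Subgroup G → ℤ) (K : Subgroup G) : ℤ :=
  ∑ᶠ u ∈ {u : G | u ∈ K ∧ u ≠ 1 ∧ ∃ k : ℕ, orderOf u = p ^ k},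
    R (K ⊓ Subgroup.centralizer ({u} : Set G))

/-- The irreducible characters of `K` lying in a block of `K` that induces `b`. -/
def indSet (M : Ideal AlgInt) (K : Subgroup G) (b : Set (IrrCharacter G)) :
    Set (IrrCharacter K) :=
  {ψ | ∃ β : Set (IrrCharacter K), ψ ∈ β ∧ IsInducedBlock M K β b}

/-- `|L|` times the sum of the `p`-regular ranks of the blocks of `L` inducing `b`. -/
noncomputable def rankFun (p : ℕ) (M : Ideal AlgInt) (b : Set (IrrCharacter G))
    (L : Subgroup G) : ℤ :=
  (Nat.card L : ℤ) * ∑ᶠ γ ∈ {γ : Set (IrrCharacter L) | IsInducedBlock M L γ b},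
    (blockRank p γ : ℤ)

end Cfsg.Agent.Lib.Helper82
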