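/-
Knörr's theorem, step "PI" (helper82): if `G = N P` with `N` normal and `P` a defect group of the
block `B` of `G`, then `B` covers a `G`-stable block `c` of `N` having `P ∩ N` as a defect group.
Also: the stabilizer of a block of a normal subgroup as a subgroup, and the covering predicate.
-/
import Mathlib
import Cfsg.Agent.S0970
import Cfsg.Agent.S0966
import Cfsg.Agent.S4434
import Cfsg.Agent.Lib.Helper76.FongReynoldsDefect
import Cfsg.Agent.Lib.Helper78.StableCover
import Cfsg.Agent.Lib.Helper77.ExtFirstMain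

set_option autoImplicit false
set_option linter.unusedSectionVars false

namespace Cfsg.Agent.Lib.Helper82

open Cfsg Cfsg.Agent.Lib.Helper16 Cfsg.Agent.Lib.Helper78 Cfsg.Agent.Lib.Helper76

universe u

section Stab

variable {G : Type u} [Group G] (N : Subgroup G) [hN : N.Normal]

/-- `B` covers `b`: some member of `B` has a constituent in `b` on restriction to `N`. -/
def Covers [Fintype N] (B : Set (IrrCharacter G)) (b : Set (IrrCharacter N)) : Prop :=
  ∃ χ ∈ B, ∃ θ ∈ b, classInner (fun n : N => (χ : G → ℂ) n) (θ : N → ℂ) ≠ 0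

theorem conjIrrN_mul (g h : G) (θ : IrrCharacter N) :
    conjIrrN N (g * h) θ = conjIrrN N h (conjIrrN N g θ) := by
  apply Subtype.ext
  funext n
  rw [conjIrrN_apply, conjIrrN_apply, conjIrrN_apply]
  refine congrArg (θ : N → ℂ) (Subtype.ext ?_)
  simp [mul_assoc]

theorem conjIrrN_one (θ : IrrCharacter N) : conjIrrN N 1 θ = θ := by
  apply Subtype.ext
  funext n
  rw [conjIrrN_apply]
  refine congrArg (θ : N → ℂ) (Subtype.ext ?_)
  simp

/-- The stabilizer in `G` of a set of irreducible characters of the normal subgroup `N`. -/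
def blockStab (b : Set (IrrCharacter N)) : Subgroup G where
  carrier := {g | ∀ θ : IrrCharacter N, θ ∈ b ↔ conjIrrN N g θ ∈ b}
  one_mem' := by
    intro θ
    rw [conjIrrN_one]
  mul_mem' := by
    intro g h hg hh θ
    rw [conjIrrN_mul, ← hh, ← hg]
  inv_mem' := by
    intro g hg θ
    have := hg (conjIrrN N g⁻¹ θ)
    rw [conjIrrN_conjIrrN_inv] at this
    exact this.symm

theorem mem_blockStab (b : Set (IrrCharacter N)) (g : G) :
    g ∈ blockStab N b ↔ ∀ θ : IrrCharacter N, θ ∈ b ↔ conjIrrN N g θ ∈ b := Iff.rfl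

end Stab

section PI

variable {G : Type u} [Group G] [Fintype G] {p : ℕ} [hp : Fact p.Prime] {M : Ideal AlgInt}
  (N : Subgroup G) [hN : N.Normal] [Fintype N]

/-- For a block `b`, `blockStab N b` is the stabilizer in the sense of `Helper76.IsBlockStab`. -/
theorem isBlockStab_blockStab [hMp : M.IsPrime] {b : Set (IrrCharacter N)} (hb : IsPBlock M b)
    [Fintype (blockStab N b)] : IsBlockStab N (blockStab N b) b := by
  intro g
  rw [mem_blockStab]
  constructor
  · intro h θ hθ
    exact (h θ).mp hθ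
  · intro h θ
    constructor
    · exact h θ
    · intro hθ
      obtain ⟨θ₀, hθ₀⟩ := IsPBlock_nonempty hMp.ne_top hb
      have h0 := h θ₀ hθ₀
      have h1 : SameBlock M (conjIrrN N g θ : N → ℂ) (conjIrrN N g θ₀ : N → ℂ) :=
        sameBlock_of_mem hb hθ h0
      have h2 := sameBlock_conjIrrN N g⁻¹ h1
      rw [conjIrrN_inv_conjIrrN, conjIrrN_inv_conjIrrN] at h2
      rw [IsPBlock_eq_blockOf hb hθ₀]
      exact sameBlock_symm h2

/-- **Knörr, step PI.**  If `G = N P` with `P` a defect group of `B`, then `B` covers a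
`G`-stable block of `N` with defect group `P ∩ N`. -/
theorem knorr_pIndex (hM : IsPModular p M) (P : Subgroup G) (hNP : N ⊔ P = ⊤)
    {B : Set (IrrCharacter G)} (hB : IsPBlock M B) (hP : IsDefectGroup p M B P) :
    ∃ c : Set (IrrCharacter N), IsPBlock M c ∧ Covers N B c ∧ IsGStable N c ∧
      IsDefectGroup p M c ((P ⊓ N).subgroupOf N) := by
  classical
  have hMp := isPModular_isPrime hM
  have hpp : p.Prime := hp.out
  have hPp : IsPGroup p P := IsPGroup.of_card (card_defectGroup hM hB hP)
  obtain ⟨χ, hχ⟩ := IsPBlock_nonempty hMp.ne_top hB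
  obtain ⟨θ, hθ⟩ := exists_constituent N χ
  set c := blockOf M (θ : N → ℂ) with hcdef
  have hc : IsPBlock M c := isPBlock_blockOf θ
  have hθc : θ ∈ c := self_mem_blockOf hMp.ne_top θ
  have hcov : Covers N B c := ⟨χ, hχ, θ, hθc, hθ⟩
  set T := blockStab N c with hTdef
  have : Fintype T := Fintype.ofFinite _
  have hstab : IsBlockStab N T c := isBlockStab_blockStab N hc
  have hNT : N ≤ T := Cfsg.Agent.Lib.Helper77.le_of_isBlockStab N c T hstab
  obtain ⟨B', hB', hcov', hind⟩ := fongReynolds_surjective hNT hstab hc hB hcov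
  obtain ⟨D', hD'⟩ := exists_isDefectGroup p hB'
  have hD'B := (fongReynolds_defect_height hM hNT hstab hc hB' hcov' hind).1 D' hD'
  obtain ⟨x, hx⟩ := Cfsg.Agent.S4434.defectGroups_conj p M hM B hB P _ hP hD'B
  -- `T = ⊤`
  have hPxT : P.map (MulAut.conj x).toMonoidHom ≤ T := by
    rw [← hx]
    exact Subgroup.map_subtype_le _
  have hTtop : T = ⊤ := by
    rw [eq_top_iff]
    have h1 : (N ⊔ P).map (MulAut.conj x).toMonoidHom ≤ T := by
      rw [Subgroup.map_sup]
      apply sup_le _ hPxT
      have : N.map (MulAut.conj x).toMonoidHom = N := Subgroup.Normal.map_conj_eq N x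
      rw [this]
      exact hNT
    rw [hNP, ← MonoidHom.range_eq_map] at h1
    have h2 : (MulAut.conj x).toMonoidHom.range = ⊤ :=
      MonoidHom.range_eq_top.mpr (MulAut.conj x).surjective
    rwa [h2] at h1
  have hGst : IsGStable N c := by
    intro θ' hθ' g
    have hg : g ∈ T := by rw [hTtop]; exact Subgroup.mem_top g
    exact (hstab g).mp hg θ' hθ'
  -- the index of `N` is a power of `p`
  have hidx : ∃ k : ℕ, N.index = p ^ k := by
    have h1 : N.relIndex (N ⊔ P) = N.relIndex P := Subgroup.relIndex_sup_left P N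
    rw [hNP, Subgroup.relIndex_top_right] at h1
    rw [h1]
    have h2 : N.relIndex P ∣ Nat.card P := Subgroup.index_dvd_card _
    obtain ⟨n, hn⟩ := IsPGroup.iff_card.mp hPp
    rw [hn] at h2
    obtain ⟨k, -, hk⟩ := (Nat.dvd_prime_pow hpp).mp h2
    exact ⟨k, hk⟩
  obtain ⟨B₀, -, huniq⟩ := Cfsg.Agent.S0966.result p M hM N hidx c hc
  have h970 := Cfsg.Agent.S0970.result p M hM N c hc
    (by
      intro g θ₁ hθ₁ θ' hθ'
      have : θ' = conjIrrN N g θ₁ := Subtype.ext (funext hθ')
      rw [this]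
      exact hGst θ₁ hθ₁ g)
    B hB hcov
    (by
      intro B'' hB'' hcov''
      have e1 : B'' = B₀ := huniq B'' ⟨hB'', hcov''⟩
      have e2 : B = B₀ := huniq B ⟨hB, hcov⟩
      rw [e1, ← e2])
    P hP
  exact ⟨c, hc, hcov, hGst, h970.2.1⟩

end PI

end Cfsg.Agent.Lib.Helper82
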