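/-
Knörr's theorem, transport lemmas (helper82): conjugating a block of the normal subgroup `N` by an
element of `G`, and moving a block of `N`, seen inside an intermediate subgroup `K`, to `N` itself.
-/
import Mathlib
import Cfsg.Agent.Lib.Helper16.BlockTransport
import Cfsg.Agent.Lib.Helper81.RamifiedSection
import Cfsg.Agent.Lib.Helper81.IrrTransport
import Cfsg.Agent.Lib.Helper82.KnorrPI

set_option autoImplicit false
set_option linter.unusedSectionVars false

namespace Cfsg.Agent.Lib.Helper82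

open Cfsg Cfsg.Agent.Lib.Helper16 Cfsg.Agent.Lib.Helper78 Cfsg.Agent.Lib.Helper76

universe u

section Conj

variable {G : Type u} [Group G] (N : Subgroup G) [hN : N.Normal]

/-- The conjugate of the set `c` of irreducible characters of `N` by `g`: `θ` belongs to it when
`n ↦ θ (g n g⁻¹)` belongs to `c`. -/
def conjBlockN (g : G) (c : Set (IrrCharacter N)) : Set (IrrCharacter N) :=
  pullBlock (MulAut.conjNormal (H := N) g⁻¹) c

theorem irrPull_conjNormal (g : G) (θ : IrrCharacter N) :
    irrPull (MulAut.conjNormal (H := N) g) θ = conjIrrN N g θ := by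
  apply Subtype.ext
  funext n
  rw [irrPull_apply, conjIrrN_apply]
  exact congrArg (θ : N → ℂ) (Subtype.ext (by simp))

theorem mem_conjBlockN (g : G) (c : Set (IrrCharacter N)) (θ : IrrCharacter N) :
    θ ∈ conjBlockN N g c ↔ conjIrrN N g θ ∈ c := by
  unfold conjBlockN
  rw [mem_pullBlock_iff, ← irrPull_conjNormal]
  have : (MulAut.conjNormal (H := N) g⁻¹).symm = MulAut.conjNormal (H := N) g := by
    rw [map_inv]
    rfl
  rw [this]

theorem isPBlock_conjBlockN {M : Ideal AlgInt} (g : G) {c : Set (IrrCharacter N)}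
    (hc : IsPBlock M c) : IsPBlock M (conjBlockN N g c) :=
  isPBlock_pullBlock _ hc

theorem covers_conjBlockN [Fintype G] [Fintype N] (g : G) {B : Set (IrrCharacter G)}
    {c : Set (IrrCharacter N)} (h : Covers N B c) : Covers N B (conjBlockN N g c) := by
  obtain ⟨χ, hχ, θ, hθ, hne⟩ := h
  refine ⟨χ, hχ, conjIrrN N g⁻¹ θ, ?_, ?_⟩
  · rw [mem_conjBlockN, conjIrrN_conjIrrN_inv]
    exact hθ
  · rw [classInner_res_conjIrrN]
    exact hne

theorem map_conj_le_blockStab_conjBlockN (g : G) {c : Set (IrrCharacter N)} {Q : Subgroup G}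
    (h : Q ≤ blockStab N c) :
    Q.map (MulAut.conj g).toMonoidHom ≤ blockStab N (conjBlockN N g c) := by
  rintro _ ⟨x, hx, rfl⟩
  rw [mem_blockStab]
  intro θ
  rw [mem_conjBlockN, mem_conjBlockN, ← conjIrrN_mul]
  have e : (MulAut.conj g).toMonoidHom x * g = g * x := by
    simp [MulAut.conj_apply]
  rw [e, conjIrrN_mul]
  exact (mem_blockStab N c x).mp (h hx) (conjIrrN N g θ)

theorem isDefectGroup_conjBlockN [Finite G] {p : ℕ} [Fact p.Prime] {M : Ideal AlgInt} (g : G)
    {c : Set (IrrCharacter N)} {Q : Subgroup G}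
    (h : IsDefectGroup p M c ((Q ⊓ N).subgroupOf N)) :
    IsDefectGroup p M (conjBlockN N g c)
      ((Q.map (MulAut.conj g).toMonoidHom ⊓ N).subgroupOf N) := by
  have h1 := isDefectGroup_pullBlock (MulAut.conjNormal (H := N) g⁻¹) h
  have h2 : ((Q ⊓ N).subgroupOf N).comap (MulAut.conjNormal (H := N) g⁻¹).toMonoidHom =
      (Q.map (MulAut.conj g).toMonoidHom ⊓ N).subgroupOf N := by
    ext n
    rw [Subgroup.mem_comap, Subgroup.mem_subgroupOf, Subgroup.mem_subgroupOf, Subgroup.mem_inf,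
      Subgroup.mem_inf]
    have e1 : (((MulAut.conjNormal (H := N) g⁻¹).toMonoidHom n : N) : G) = g⁻¹ * n * g := by
      simp
    rw [e1]
    constructor
    · rintro ⟨h3, -⟩
      refine ⟨⟨g⁻¹ * n * g, h3, ?_⟩, n.2⟩
      simp [MulAut.conj_apply]
      group
    · rintro ⟨⟨q, hq, hqn⟩, -⟩
      refine ⟨?_, ?_⟩
      · rw [← hqn]
        simp only [MulEquiv.coe_toMonoidHom, MulAut.conj_apply]
        have : g⁻¹ * (g * q * g⁻¹) * g = q := by group
        rw [this]
        exact hq
      · have := hN.conj_mem n n.2 g⁻¹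
        simpa using this
  rw [← h2]
  exact h1

theorem stabilizesBlock_of_mem_blockStab {c : Set (IrrCharacter N)} {x : G}
    (hx : x ∈ blockStab N c) : StabilizesBlock N c x := by
  refine ⟨?_, ?_⟩
  · rw [Subgroup.normalizer_eq_top]
    exact Subgroup.mem_top x
  · intro χ hχ
    refine ⟨conjIrrN N x⁻¹ χ, ?_, ?_⟩
    · exact (mem_blockStab N c x⁻¹).mp ((blockStab N c).inv_mem hx) χ |>.mp hχ
    · intro k k' hk
      rw [conjIrrN_apply]
      refine congrArg (χ : N → ℂ) (Subtype.ext ?_)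
      show x⁻¹ * (k' : G) * x⁻¹⁻¹ = k
      rw [hk]
      group

theorem blockStab_eq_top_of_isGStable {c : Set (IrrCharacter N)} (h : IsGStable N c) :
    blockStab N c = ⊤ := by
  rw [eq_top_iff]
  intro g _
  rw [mem_blockStab]
  intro θ
  exact (h.mem_iff g θ).symm

end Conj


section Descend

variable {G : Type u} [Group G] (N : Subgroup G) [hN : N.Normal] (K : Subgroup G)

/-- A set of irreducible characters of `N`, seen as a subgroup of `K`, moved to `N` itself. -/
def descendBlock (hNK : N ≤ K) (cK : Set (IrrCharacter ↥(N.subgroupOf K))) :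
    Set (IrrCharacter N) :=
  pullBlock (Subgroup.subgroupOfEquivOfLe hNK).symm cK

theorem isPBlock_descendBlock {M : Ideal AlgInt} (hNK : N ≤ K)
    {cK : Set (IrrCharacter ↥(N.subgroupOf K))} (h : IsPBlock M cK) :
    IsPBlock M (descendBlock N K hNK cK) :=
  isPBlock_pullBlock _ h

theorem mem_descendBlock (hNK : N ≤ K) (cK : Set (IrrCharacter ↥(N.subgroupOf K)))
    (θ : IrrCharacter N) :
    θ ∈ descendBlock N K hNK cK ↔ irrPull (Subgroup.subgroupOfEquivOfLe hNK) θ ∈ cK := by
  unfold descendBlock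
  rw [mem_pullBlock_iff, MulEquiv.symm_symm]

/-- Transitivity of "lies over", through the intermediate subgroup `K`. -/
theorem classInner_descend_ne_zero [Fintype G] [Fintype N] [Fintype K]
    [Fintype ↥(N.subgroupOf K)] (hNK : N ≤ K) (χ : IrrCharacter G)
    (η : IrrCharacter K) (θK : IrrCharacter ↥(N.subgroupOf K))
    (h1 : classInner (fun k : K => (χ : G → ℂ) k) (η : K → ℂ) ≠ 0)
    (h2 : classInner (fun n : ↥(N.subgroupOf K) => (η : K → ℂ) n) (θK : _ → ℂ) ≠ 0) :
    classInner (fun n : N => (χ : G → ℂ) n)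
      (irrPull (Subgroup.subgroupOfEquivOfLe hNK).symm θK : N → ℂ) ≠ 0 := by
  have hres : IsCharacter K (fun k : K => (χ : G → ℂ) k) :=
    Cfsg.Agent.Lib.Helper81.isCharacter_comp
      (Cfsg.Agent.Lib.Helper78.IsIrrCharacter.isCharacter χ.2) K.subtype
  have h3 := Cfsg.Agent.Lib.Helper81.classInner_comp_ne_zero_of_constituent
    (N.subgroupOf K).subtype hres η.2 h1 θK.2 h2
  rw [← Cfsg.Agent.Lib.Helper81.classInner_comp_equiv_gen
    (Subgroup.subgroupOfEquivOfLe hNK).toEquiv]
  have e1 : (fun n : N => (χ : G → ℂ) n) ∘ (Subgroup.subgroupOfEquivOfLe hNK).toEquiv =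
      (fun k : K => (χ : G → ℂ) k) ∘ (N.subgroupOf K).subtype := by
    funext n
    rfl
  have e2 : (irrPull (Subgroup.subgroupOfEquivOfLe hNK).symm θK : N → ℂ) ∘
      (Subgroup.subgroupOfEquivOfLe hNK).toEquiv = (θK : _ → ℂ) := by
    funext n
    show (θK : _ → ℂ) ((Subgroup.subgroupOfEquivOfLe hNK).symm
      ((Subgroup.subgroupOfEquivOfLe hNK) n)) = _
    rw [MulEquiv.symm_apply_apply]
  rw [e1, e2]
  exact h3

theorem mem_blockStab_descendBlock (hNK : N ≤ K) {cK : Set (IrrCharacter ↥(N.subgroupOf K))}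
    (x : K) (hx : x ∈ blockStab (N.subgroupOf K) cK) :
    (x : G) ∈ blockStab N (descendBlock N K hNK cK) := by
  rw [mem_blockStab]
  intro θ
  rw [mem_descendBlock, mem_descendBlock]
  have e : irrPull (Subgroup.subgroupOfEquivOfLe hNK) (conjIrrN N (x : G) θ) =
      conjIrrN (N.subgroupOf K) x (irrPull (Subgroup.subgroupOfEquivOfLe hNK) θ) := by
    apply Subtype.ext
    funext n
    rw [irrPull_apply, conjIrrN_apply, conjIrrN_apply, irrPull_apply]
    rfl
  rw [e]
  exact (mem_blockStab (N.subgroupOf K) cK x).mp hx _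

theorem isDefectGroup_descendBlock [Finite G] {p : ℕ} [Fact p.Prime] {M : Ideal AlgInt}
    (hNK : N ≤ K) {cK : Set (IrrCharacter ↥(N.subgroupOf K))} (PK : Subgroup K)
    (h : IsDefectGroup p M cK ((PK ⊓ N.subgroupOf K).subgroupOf (N.subgroupOf K))) :
    IsDefectGroup p M (descendBlock N K hNK cK) ((PK.map K.subtype ⊓ N).subgroupOf N) := by
  have h1 := isDefectGroup_pullBlock (Subgroup.subgroupOfEquivOfLe hNK).symm h
  have h2 : ((PK ⊓ N.subgroupOf K).subgroupOf (N.subgroupOf K)).comap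
      (Subgroup.subgroupOfEquivOfLe hNK).symm.toMonoidHom =
      (PK.map K.subtype ⊓ N).subgroupOf N := by
    ext n
    rw [Subgroup.mem_comap, Subgroup.mem_subgroupOf, Subgroup.mem_subgroupOf, Subgroup.mem_inf,
      Subgroup.mem_inf]
    have e1 : ((((Subgroup.subgroupOfEquivOfLe hNK).symm.toMonoidHom n :
        ↥(N.subgroupOf K)) : K)) = ⟨(n : G), hNK n.2⟩ := rfl
    rw [e1]
    constructor
    · rintro ⟨h3, -⟩
      exact ⟨⟨_, h3, rfl⟩, n.2⟩
    · rintro ⟨⟨q, hq, hqn⟩, -⟩
      refine ⟨?_, ?_⟩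
      · have : q = ⟨(n : G), hNK n.2⟩ := Subtype.ext hqn
        rw [← this]
        exact hq
      · rw [Subgroup.mem_subgroupOf]
        exact n.2
  rw [← h2]
  exact h1

end Descend

end Cfsg.Agent.Lib.Helper82
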