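/-
Knörr's theorem, the case `P ≤ N` (helper82): if a defect group `P` of the block `B` of `G` lies in
the normal subgroup `N`, then `B` covers a block of `N` with a defect group that is a defect group
of `B`.
-/
import Mathlib
import Cfsg.Agent.S4432
import Cfsg.Agent.S0887
import Cfsg.Agent.S0929
import Cfsg.Agent.S0911
import Cfsg.Agent.Lib.Helper76.Fong
import Cfsg.Agent.Lib.Helper79.BrauerFeit
import Cfsg.Agent.Lib.Helper82.KnorrPI

set_option autoImplicit false
set_option linter.unusedSectionVars false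

namespace Cfsg.Agent.Lib.Helper82

open Cfsg Cfsg.Agent.Lib.Helper16 Cfsg.Agent.Lib.Helper78 Cfsg.Agent.Lib.Helper76 MonoidAlgebra

universe u

section Orbit

variable {G : Type u} [Group G] (N : Subgroup G) [hN : N.Normal]

/-- The union of the `G`-conjugates of a set of irreducible characters of `N`. -/
def conjOrbitSet (c : Set (IrrCharacter N)) : Set (IrrCharacter N) :=
  {θ | ∃ g : G, conjIrrN N g θ ∈ c}

theorem subset_conjOrbitSet (c : Set (IrrCharacter N)) : c ⊆ conjOrbitSet N c := by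
  intro θ hθ
  exact ⟨1, by rwa [conjIrrN_one]⟩

theorem isGStable_conjOrbitSet (c : Set (IrrCharacter N)) : IsGStable N (conjOrbitSet N c) := by
  rintro θ ⟨g, hg⟩ h
  refine ⟨h⁻¹ * g, ?_⟩
  rw [← conjIrrN_mul, ← mul_assoc, mul_inv_cancel, one_mul]
  exact hg

theorem conjOrbitSet_closed {M : Ideal AlgInt} [hMp : M.IsPrime] {c : Set (IrrCharacter N)}
    (hc : IsPBlock M c) (θ θ' : IrrCharacter N) (hθ : θ ∈ conjOrbitSet N c)
    (h : SameBlock M (θ : N → ℂ) (θ' : N → ℂ)) : θ' ∈ conjOrbitSet N c := by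
  obtain ⟨g, hg⟩ := hθ
  refine ⟨g, ?_⟩
  have h1 := sameBlock_conjIrrN N g h
  rw [IsPBlock_eq_blockOf hc hg]
  exact h1

end Orbit

section Key

variable {G : Type u} [Group G] [Fintype G] (N : Subgroup G) [hN : N.Normal] [Fintype N]
  {M : Ideal AlgInt}

open scoped Classical in
/-- **The key class** for a `G`-stable union of blocks `U` of `N`: if `χ₀` lies over a member of
`U`, there is `x ∈ N` at which both the idempotent coefficient of `U` and the central character of
`χ₀` are outside the ideal. -/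
theorem exists_key_class_of_stable [hMp : M.IsPrime] {U : Set (IrrCharacter N)}
    (hst : IsGStable N U) (hR : ∀ n : N, MemLocalRing M (blockCoeff U n))
    (χ₀ : IrrCharacter G) (θ₀ : IrrCharacter N) (hθ₀U : θ₀ ∈ U)
    (hθ₀ : classInner (fun n : N => (χ₀ : G → ℂ) n) (θ₀ : N → ℂ) ≠ 0) :
    ∃ x : N, ¬ MemLocalIdeal M (blockCoeff U x) ∧
      ¬ MemLocalIdeal M (centralChar (χ₀ : G → ℂ) (x : G)) := by
  have h1 := omega_stableElt N hst χ₀ θ₀ hθ₀
  rw [if_pos hθ₀U, omega_eq_sum_classes _ (irr_conj χ₀) (stableElt_mem_center N hst)] at h1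
  by_contra hcon
  push Not at hcon
  apply one_not_memLocalIdeal (M := M)
  rw [← h1]
  apply memLocalIdeal_sum
  intro c _
  have hω : MemLocalRing M (centralChar (χ₀ : G → ℂ) (classRep c)) :=
    memLocalRing_of_isIntegral hMp.ne_top (Cfsg.Agent.Lib.Helper79.isIntegral_centralChar χ₀ _)
  by_cases hc : classRep c ∈ N
  · have h2 : classRep c = ((⟨classRep c, hc⟩ : N) : G) := rfl
    rw [h2, coeff_stableElt_coe]
    by_cases h3 : MemLocalIdeal M (blockCoeff U (⟨classRep c, hc⟩ : N))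
    · exact memLocalIdeal_mul_right h3 hω
    · exact memLocalIdeal_mul_left (hR _) (hcon _ h3)
  · rw [coeff_stableElt_of_not_mem N U hc, zero_mul]
    exact memLocalIdeal_zero hMp.ne_top

end Key


section Degree

variable {G : Type u} [Group G] [Fintype G] {p : ℕ} [hp : Fact p.Prime] {M : Ideal AlgInt}
  (N : Subgroup G) [hN : N.Normal] [Fintype N]

/-- If `B` covers `b` then the defect of `b` is at most the defect of `B`. -/
theorem blockDefect_le_of_covers (hM : IsPModular p M) {B : Set (IrrCharacter G)}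
    (hB : IsPBlock M B) {b : Set (IrrCharacter N)} (hb : IsPBlock M b) (hcov : Covers N B b) :
    blockDefect p b ≤ blockDefect p B := by
  classical
  have hMp := isPModular_isPrime hM
  have hbne := IsPBlock_nonempty hMp.ne_top hb
  have hBne := IsPBlock_nonempty hMp.ne_top hB
  obtain ⟨ψ, hψb, hψmin⟩ := Cfsg.Agent.Lib.Helper79.exists_min_factorization (p := p) hbne
  obtain ⟨χ', hχ'B, hχ'ψ⟩ := Cfsg.Agent.S4432.result p M hM N B hB b hb hcov ψ hψb
  have h887 := Cfsg.Agent.S0887.result N (χ' : G → ℂ) χ'.2 (ψ : N → ℂ) ψ.2 hχ'ψ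
    (charDegree (χ' : G → ℂ)) (charDegree (ψ : N → ℂ))
    (Cfsg.Agent.Lib.Helper79.irr_apply_one_eq_charDegree χ')
    (Cfsg.Agent.Lib.Helper79.irr_apply_one_eq_charDegree ψ)
  have e1 := Cfsg.Agent.Lib.Helper79.card_factorization_eq_sInf_add_blockDefect (p := p) hBne
  have e2 := Cfsg.Agent.Lib.Helper79.card_factorization_eq_sInf_add_blockDefect (p := p) hbne
  have e3 : sInf ((fun ψ : IrrCharacter G => (charDegree (ψ : G → ℂ)).factorization p) '' B) ≤
      (charDegree (χ' : G → ℂ)).factorization p := Nat.sInf_le ⟨χ', hχ'B, rfl⟩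
  have hcpos := Cfsg.Agent.Lib.Helper79.irr_charDegree_pos χ'
  have hdpos := Cfsg.Agent.Lib.Helper79.irr_charDegree_pos ψ
  set cc := charDegree (χ' : G → ℂ) with hcc
  set dd := charDegree (ψ : N → ℂ) with hdd
  obtain ⟨h1, h2⟩ := h887
  have hq : cc = dd * (cc / dd) := (Nat.mul_div_cancel' h1).symm
  have hqpos : cc / dd ≠ 0 := by
    intro h0
    rw [h0, mul_zero] at hq
    omega
  have hidx : N.index ≠ 0 := Subgroup.index_ne_zero_of_finite
  have e4 : cc.factorization p = dd.factorization p + (cc / dd).factorization p := by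
    conv_lhs => rw [hq]
    rw [Nat.factorization_mul (by omega) hqpos]
    rfl
  have e5 : (cc / dd).factorization p ≤ N.index.factorization p :=
    (Nat.factorization_le_iff_dvd hqpos hidx).mpr h2 p
  have e6 : (Nat.card G).factorization p = (Nat.card N).factorization p +
      N.index.factorization p := by
    rw [← Subgroup.card_mul_index N, Nat.factorization_mul Nat.card_pos.ne' hidx]
    rfl
  omega

end Degree

section Sylow

variable {K : Type u} [Group K] [Fintype K] {p : ℕ} [hp : Fact p.Prime] {M : Ideal AlgInt}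

/-- If the idempotent coefficient of the block `b` at `x` is outside the ideal, every `p`-subgroup
of `C(x)` lies in a defect group of `b`. -/
theorem exists_defectGroup_ge_of_blockCoeff (hM : IsPModular p M) {b : Set (IrrCharacter K)}
    (hb : IsPBlock M b) (x : K) (hx : ¬ MemLocalIdeal M (blockCoeff b x)) (R : Subgroup K)
    (hR : IsPGroup p R) (hRx : R ≤ Subgroup.centralizer ({x} : Set K)) :
    ∃ D : Subgroup K, IsDefectGroup p M b D ∧ R ≤ D := by
  classical
  have hMp := isPModular_isPrime hM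
  obtain ⟨D₀, g₀, hg₀, S, rfl⟩ := exists_isDefectGroup p hb
  obtain ⟨n, Q, hQ⟩ := (Cfsg.Agent.S0911.result p M hM b hb g₀ hg₀ S x).1
    (blockCoeff_memLocalRing hb x) hx
  have hR' : IsPGroup p (R.subgroupOf (Subgroup.centralizer ({x} : Set K))) :=
    hR.comap_subtype
  obtain ⟨Q', hQ'⟩ := hR'.exists_le_sylow
  obtain ⟨z, hz⟩ := MulAction.exists_smul_eq (Subgroup.centralizer ({x} : Set K)) Q Q'
  refine ⟨_, Cfsg.Agent.S4434.isDefectGroup_conj p M b _ ⟨g₀, hg₀, S, rfl⟩ ((z : K) * n), ?_⟩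
  intro a ha
  have ha' : (⟨a, hRx ha⟩ : Subgroup.centralizer ({x} : Set K)) ∈
      R.subgroupOf (Subgroup.centralizer ({x} : Set K)) := by
    rw [Subgroup.mem_subgroupOf]
    exact ha
  have h1 := hQ' ha'
  rw [← hz] at h1
  have h2 : z⁻¹ * (⟨a, hRx ha⟩ : Subgroup.centralizer ({x} : Set K)) * z ∈
      (Q : Subgroup (Subgroup.centralizer ({x} : Set K))) := by
    have h1' : (⟨a, hRx ha⟩ : Subgroup.centralizer ({x} : Set K)) ∈
        ((z • Q : Sylow p (Subgroup.centralizer ({x} : Set K))) :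
          Subgroup (Subgroup.centralizer ({x} : Set K))) := h1
    rw [Sylow.coe_subgroup_smul, Subgroup.mem_pointwise_smul_iff_inv_smul_mem] at h1'
    simpa [MulAut.smul_def, MulAut.conj_apply] using h1'
  have h3 : (z : K)⁻¹ * a * (z : K) ∈
      (Q : Subgroup (Subgroup.centralizer ({x} : Set K))).map
        (Subgroup.centralizer ({x} : Set K)).subtype := ⟨_, h2, by simp⟩
  obtain ⟨s, hs, hsa⟩ := hQ h3
  refine ⟨s, hs, ?_⟩
  simp only [MulEquiv.coe_toMonoidHom, MulAut.conj_apply] at hsa ⊢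
  have : a = (z : K) * ((z : K)⁻¹ * a * (z : K)) * (z : K)⁻¹ := by group
  rw [this, ← hsa]
  group

end Sylow


section Le

variable {G : Type u} [Group G] [Fintype G] {p : ℕ} [hp : Fact p.Prime] {M : Ideal AlgInt}
  (N : Subgroup G) [hN : N.Normal] [Fintype N]

/-- **Knörr, the case `D(B) ≤ N`.**  If a defect group of the block `B` of `G` lies in the normal
subgroup `N`, then `B` covers a block of `N` one of whose defect groups is a defect group of
`B`. -/
theorem knorr_le (hM : IsPModular p M) {B : Set (IrrCharacter G)} (hB : IsPBlock M B)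
    (P : Subgroup G) (hP : IsDefectGroup p M B P) (hPN : P ≤ N) :
    ∃ (c : Set (IrrCharacter N)) (P₁ : Subgroup G), IsPBlock M c ∧ Covers N B c ∧
      IsDefectGroup p M B P₁ ∧ P₁ ≤ N ∧ IsDefectGroup p M c (P₁.subgroupOf N) := by
  classical
  have hMp := isPModular_isPrime hM
  have hpp : p.Prime := hp.out
  obtain ⟨χ, hχ⟩ := IsPBlock_nonempty hMp.ne_top hB
  obtain ⟨θ₀, hθ₀⟩ := exists_constituent N χ
  set c₀ := blockOf M (θ₀ : N → ℂ) with hc₀def
  have hc₀ : IsPBlock M c₀ := isPBlock_blockOf θ₀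
  have hθ₀c : θ₀ ∈ c₀ := self_mem_blockOf hMp.ne_top θ₀
  have hcov₀ : Covers N B c₀ := ⟨χ, hχ, θ₀, hθ₀c, hθ₀⟩
  set U := conjOrbitSet N c₀ with hUdef
  have hUst : IsGStable N U := isGStable_conjOrbitSet N c₀
  have hUcl : ∀ θ θ' : IrrCharacter N, θ ∈ U → SameBlock M (θ : N → ℂ) (θ' : N → ℂ) → θ' ∈ U :=
    conjOrbitSet_closed N hc₀
  have hR : ∀ n : N, MemLocalRing M (blockCoeff U n) := blockCoeff_memLocalRing_of_closed N hUcl
  obtain ⟨x, hx1, hx2⟩ := exists_key_class_of_stable N hUst hR χ θ₀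
    (subset_conjOrbitSet N c₀ hθ₀c) hθ₀
  obtain ⟨b', hb', hb'U, -, hb'x⟩ := exists_block_subset_not_memLocalIdeal (M := M) hUcl hx1
  -- `B` covers `b'`
  have hcov' : Covers N B b' := by
    obtain ⟨θ', hθ'⟩ := IsPBlock_nonempty hMp.ne_top hb'
    obtain ⟨g, hg⟩ := hb'U hθ'
    obtain ⟨χ', hχ'B, hχ'⟩ := Cfsg.Agent.S4432.result p M hM N B hB c₀ hc₀ hcov₀ _ hg
    rw [classInner_res_conjIrrN] at hχ'
    exact ⟨χ', hχ'B, θ', hθ', hχ'⟩
  -- a conjugate of `x` centralizes `P`
  obtain ⟨y, hxy, hyC, -⟩ := Cfsg.Agent.S0929.result p M hM B hB P hP (x : G) ⟨χ, hχ, hx2⟩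
  obtain ⟨t, ht⟩ := isConj_iff.mp hxy
  set P₁ := P.map (MulAut.conj t⁻¹).toMonoidHom with hP₁def
  have hP₁ : IsDefectGroup p M B P₁ := Cfsg.Agent.S4434.isDefectGroup_conj p M B P hP t⁻¹
  have hP₁N : P₁ ≤ N := by
    rintro _ ⟨a, ha, rfl⟩
    simp only [MulEquiv.coe_toMonoidHom, MulAut.conj_apply, inv_inv]
    have := hN.conj_mem a (hPN ha) t⁻¹
    simpa using this
  have hP₁x : ∀ a ∈ P₁, a * (x : G) = (x : G) * a := by
    rintro _ ⟨a, ha, rfl⟩
    have h1 := Subgroup.mem_centralizer_iff.mp hyC a ha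
    rw [← ht] at h1
    simp only [MulEquiv.coe_toMonoidHom, MulAut.conj_apply, inv_inv]
    have e1 : t⁻¹ * a * t * (x : G) = t⁻¹ * (a * (t * (x : G) * t⁻¹)) * t := by group
    have e2 : (x : G) * (t⁻¹ * a * t) = t⁻¹ * ((t * (x : G) * t⁻¹) * a) * t := by group
    rw [e1, e2, h1]
  -- `P₁ ∩ N` lies in a defect group of `b'`
  have hP₁p : IsPGroup p P₁ := IsPGroup.of_card (card_defectGroup hM hB hP₁)
  obtain ⟨D, hD, hPD⟩ := exists_defectGroup_ge_of_blockCoeff hM hb' x hb'x (P₁.subgroupOf N)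
    hP₁p.comap_subtype (by
      intro a ha
      rw [Subgroup.mem_subgroupOf] at ha
      rw [Subgroup.mem_centralizer_iff]
      intro y hy
      rw [Set.mem_singleton_iff] at hy
      subst hy
      apply Subtype.ext
      have := hP₁x _ ha
      simpa using this.symm)
  -- compare orders
  have hle := blockDefect_le_of_covers N hM hB hb' hcov'
  have hcardD := card_defectGroup hM hb' hD
  have hcardP := card_defectGroup hM hB hP₁
  have hcard : Nat.card D ≤ Nat.card (P₁.subgroupOf N) := by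
    rw [Nat.card_congr (Subgroup.subgroupOfEquivOfLe hP₁N).toEquiv, hcardD, hcardP]
    exact Nat.pow_le_pow_right hpp.pos hle
  have hEq := Subgroup.eq_of_le_of_card_ge hPD hcard
  refine ⟨b', P₁, hb', hcov', hP₁, hP₁N, ?_⟩
  rw [hEq]
  exact hD

end Le

end Cfsg.Agent.Lib.Helper82
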