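/-
Knörr's theorem (helper82): the general case.  For a block `B` of `G` and a normal subgroup `N`,
there are a defect group `P'` of `B` and a block `c` of `N` covered by `B`, stable under `P'`, with
defect group `P' ∩ N`.
-/
import Mathlib
import Cfsg.Agent.S0920
import Cfsg.Agent.S0919
import Cfsg.Agent.S0917
import Cfsg.Agent.S0934
import Cfsg.Agent.Lib.Helper77.ExtFirstMain
import Cfsg.Agent.Lib.Helper82.KnorrLe
import Cfsg.Agent.Lib.Helper82.KnorrConj

set_option autoImplicit false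
set_option linter.unusedSectionVars false

namespace Cfsg.Agent.Lib.Helper82

open Cfsg Cfsg.Agent.Lib.Helper16 Cfsg.Agent.Lib.Helper78 Cfsg.Agent.Lib.Helper76

universe u

section Intermediate

variable {G : Type u} [Group G] [Fintype G] {p : ℕ} [hp : Fact p.Prime] {M : Ideal AlgInt}

/-- **Extended first main theorem, existence part.**  If `N_G(P) ≤ G₁` and `P` is a defect group
of the block `B` of `G`, some block of `G₁` with defect group `P` induces `B`. -/
theorem exists_intermediate_block (hM : IsPModular p M) {B : Set (IrrCharacter G)}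
    (hB : IsPBlock M B) (P : Subgroup G) (hP : IsDefectGroup p M B P) (G₁ : Subgroup G)
    [Fintype G₁] (hG₁ : Subgroup.normalizer (P : Set G) ≤ G₁) :
    ∃ B₁ : Set (IrrCharacter G₁), IsPBlock M B₁ ∧ IsDefectGroup p M B₁ (P.subgroupOf G₁) ∧
      IsInducedBlock M G₁ B₁ B := by
  classical
  have hMp := isPModular_isPrime hM
  have hpp : p.Prime := hp.out
  have hPp : IsPGroup p P := IsPGroup.of_card (card_defectGroup hM hB hP)
  have hPG₁ : P ≤ G₁ := Subgroup.le_normalizer.trans hG₁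
  set H := Subgroup.normalizer (P : Set G) with hHdef
  have : Fintype H := Fintype.ofFinite _
  obtain ⟨b, ⟨hb, hbP, hbB⟩, -⟩ := (Cfsg.Agent.S0920.result p M hM P hPp).2 B hB hP
  set L : Subgroup G₁ := H.subgroupOf G₁ with hLdef
  have : Fintype L := Fintype.ofFinite _
  set φ : ↥L ≃* ↥H := Subgroup.subgroupOfEquivOfLe hG₁ with hφdef
  have hφ : ∀ x : L, ((φ x : H) : G) = ((x : G₁) : G) := fun x => rfl
  set b' : Set (IrrCharacter L) := Cfsg.Agent.Lib.Helper77.irrTransport φ '' b with hb'def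
  have hb' : IsPBlock M b' := Cfsg.Agent.Lib.Helper77.isPBlock_image_irrTransport φ hb
  -- the induced block in `G₁`
  have hP₁p : IsPGroup p (P.subgroupOf G₁) := hPp.comap_subtype
  have h1 : P.subgroupOf G₁ ≤ L := by
    intro x hx
    rw [Subgroup.mem_subgroupOf] at hx
    rw [hLdef, Subgroup.mem_subgroupOf]
    exact Subgroup.le_normalizer hx
  have h2 : Subgroup.centralizer ((P.subgroupOf G₁ : Subgroup G₁) : Set G₁) ≤ L := by
    intro x hx
    rw [hLdef, Subgroup.mem_subgroupOf]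
    apply Subgroup.centralizer_le_normalizer
    rw [Subgroup.mem_centralizer_iff] at hx ⊢
    intro q hq
    have := hx ⟨q, hPG₁ hq⟩ (by rw [SetLike.mem_coe, Subgroup.mem_subgroupOf]; exact hq)
    exact congrArg Subtype.val this
  have h3 : L ≤ Subgroup.normalizer ((P.subgroupOf G₁ : Subgroup G₁) : Set G₁) := by
    rw [hLdef, hHdef, Subgroup.subgroupOf_normalizer_eq hPG₁]
  obtain ⟨B₁, hind₁⟩ := Cfsg.Agent.S0919.result p M hM (P.subgroupOf G₁) L hP₁p h1 h2 h3 b' hb'
  have hB₁ : IsPBlock M B₁ := hind₁.2.1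
  have hind : IsInducedBlock M G₁ B₁ B :=
    Cfsg.Agent.Lib.Helper77.isInducedBlock_trans_transport G₁ H L φ hφ hind₁ hbB
  refine ⟨B₁, hB₁, ?_, hind⟩
  -- the defect group
  have hb'D : IsDefectGroup p M b' ((P.subgroupOf H).comap φ.toMonoidHom) :=
    isDefectGroup_pullBlock φ hbP
  obtain ⟨E₁, hE₁, hDE₁⟩ := Cfsg.Agent.S0917.result p M hM L b' hb' B₁ hB₁ hind₁ _ hb'D
  obtain ⟨E, hE, hE₁E⟩ := Cfsg.Agent.S0917.result p M hM G₁ B₁ hB₁ B hB hind E₁ hE₁
  have hle : P.subgroupOf G₁ ≤ E₁ := by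
    intro x hx
    apply hDE₁
    refine ⟨⟨x, h1 hx⟩, ?_, rfl⟩
    rw [SetLike.mem_coe, Subgroup.mem_comap, Subgroup.mem_subgroupOf]
    exact Subgroup.mem_subgroupOf.mp hx
  have hcard : Nat.card E₁ ≤ Nat.card (P.subgroupOf G₁) := by
    calc Nat.card E₁ = Nat.card (E₁.map G₁.subtype) :=
          (Subgroup.card_map_of_injective (Subgroup.subtype_injective _)).symm
      _ ≤ Nat.card E := Subgroup.card_le_of_le hE₁E
      _ = Nat.card P := by rw [card_defectGroup hM hB hE, card_defectGroup hM hB hP]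
      _ = Nat.card (P.subgroupOf G₁) :=
          (Nat.card_congr (Subgroup.subgroupOfEquivOfLe hPG₁).toEquiv).symm
  rw [Subgroup.eq_of_le_of_card_ge hle hcard]
  exact hE₁

end Intermediate


section Main

variable {G : Type u} [Group G] [Fintype G] {p : ℕ} [hp : Fact p.Prime] {M : Ideal AlgInt}
  (N : Subgroup G) [hN : N.Normal] [Fintype N]

/-- **Knörr, the case `N P ⊴ G`.** -/
theorem knorr_normal_sup (hM : IsPModular p M) {B : Set (IrrCharacter G)} (hB : IsPBlock M B)
    (P : Subgroup G) (hP : IsDefectGroup p M B P) (hK : (N ⊔ P).Normal) :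
    ∃ (c : Set (IrrCharacter N)) (P' : Subgroup G), IsPBlock M c ∧ Covers N B c ∧
      IsDefectGroup p M B P' ∧ P' ≤ blockStab N c ∧
      IsDefectGroup p M c ((P' ⊓ N).subgroupOf N) := by
  classical
  have hMp := isPModular_isPrime hM
  set K := N ⊔ P with hKdef
  have : Fintype K := Fintype.ofFinite _
  have hNK : N ≤ K := le_sup_left
  obtain ⟨bK, P₁, hbK, hcovK, hP₁, hP₁K, hbKP₁⟩ := knorr_le K hM hB P hP le_sup_right
  obtain ⟨s, hs⟩ := Cfsg.Agent.S4434.defectGroups_conj p M hM B hB P P₁ hP hP₁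
  have hKP₁ : N ⊔ P₁ = K := by
    have h1 : N.map (MulAut.conj s).toMonoidHom = N := Subgroup.Normal.map_conj_eq N s
    have h2 : K.map (MulAut.conj s).toMonoidHom = K := Subgroup.Normal.map_conj_eq K s
    rw [hs]
    conv_lhs => rw [← h1]
    rw [← Subgroup.map_sup, h2]
  have hsup : N.subgroupOf K ⊔ P₁.subgroupOf K = ⊤ := by
    rw [← Subgroup.subgroupOf_sup hNK hP₁K, hKP₁, Subgroup.subgroupOf_self]
  have : Fintype ↥(N.subgroupOf K) := Fintype.ofFinite _
  obtain ⟨cK, hcK, hcovcK, hstK, hdefK⟩ :=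
    knorr_pIndex (N.subgroupOf K) hM (P₁.subgroupOf K) hsup hbK hbKP₁
  refine ⟨descendBlock N K hNK cK, P₁, isPBlock_descendBlock N K hNK hcK, ?_, hP₁, ?_, ?_⟩
  · obtain ⟨η, hη, θK, hθK, h2⟩ := hcovcK
    obtain ⟨χ', hχ'B, hχ'⟩ := Cfsg.Agent.S4432.result p M hM K B hB bK hbK hcovK η hη
    refine ⟨χ', hχ'B, _, irrPull_mem_pullBlock _ hθK, ?_⟩
    exact classInner_descend_ne_zero N K hNK χ' η θK hχ' h2
  · intro x hx
    have := mem_blockStab_descendBlock N K hNK (cK := cK) ⟨x, hP₁K hx⟩ (by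
      rw [blockStab_eq_top_of_isGStable _ hstK]
      exact Subgroup.mem_top _)
    exact this
  · have := isDefectGroup_descendBlock N K hNK (P₁.subgroupOf K) hdefK
    rwa [Subgroup.subgroupOf_map_subtype, inf_eq_left.mpr hP₁K] at this

/-- **Knörr's theorem.**  For a block `B` of `G` and a normal subgroup `N` there are a defect
group `P'` of `B` and a block `c` of `N` covered by `B` and stable under `P'` such that `P' ∩ N`
is a defect group of `c`. -/
theorem knorr_general (hM : IsPModular p M) {B : Set (IrrCharacter G)} (hB : IsPBlock M B) :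
    ∃ (c : Set (IrrCharacter N)) (P' : Subgroup G), IsPBlock M c ∧ Covers N B c ∧
      IsDefectGroup p M B P' ∧ P' ≤ blockStab N c ∧
      IsDefectGroup p M c ((P' ⊓ N).subgroupOf N) := by
  classical
  have hMp := isPModular_isPrime hM
  obtain ⟨P, hP⟩ := exists_isDefectGroup p hB
  set G₁ := N ⊔ Subgroup.normalizer (P : Set G) with hG₁def
  have : Fintype G₁ := Fintype.ofFinite _
  have hNG₁ : N ≤ G₁ := le_sup_left
  have hPG₁ : P ≤ G₁ := Subgroup.le_normalizer.trans le_sup_right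
  obtain ⟨B₁, hB₁, hB₁P, hind⟩ := exists_intermediate_block hM hB P hP G₁ le_sup_right
  have : Fintype ↥(N.subgroupOf G₁) := Fintype.ofFinite _
  have hnorm : (N.subgroupOf G₁ ⊔ P.subgroupOf G₁).Normal := by
    rw [← Subgroup.subgroupOf_sup hNG₁ hPG₁]
    apply Subgroup.normal_subgroupOf_of_le_normalizer
    rw [hG₁def]
    apply sup_le
    · exact le_sup_left.trans Subgroup.le_normalizer
    · intro g hg
      rw [Subgroup.mem_normalizer_iff'']
      intro h
      have key : ∀ g : G, g ∈ Subgroup.normalizer (P : Set G) → ∀ h : G, h ∈ N ⊔ P →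
          g⁻¹ * h * g ∈ N ⊔ P := by
        intro g hg h hh
        have : (N ⊔ P).map (MulAut.conj g⁻¹).toMonoidHom ≤ N ⊔ P := by
          rw [Subgroup.map_sup]
          apply sup_le
          · have e0 : N.map (MulAut.conj g⁻¹).toMonoidHom = N :=
              Subgroup.Normal.map_conj_eq N g⁻¹
            rw [e0]
            exact le_sup_left
          · refine le_trans ?_ le_sup_right
            rintro _ ⟨q, hq, rfl⟩
            simp only [MulEquiv.coe_toMonoidHom, MulAut.conj_apply, inv_inv]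
            exact (Subgroup.mem_normalizer_iff''.mp hg q).mp hq
        have h3 := this ⟨h, hh, rfl⟩
        simpa [MulAut.conj_apply] using h3
      constructor
      · exact key g hg h
      · intro hh
        have := key g⁻¹ ((Subgroup.normalizer (P : Set G)).inv_mem hg) _ hh
        have e : g⁻¹⁻¹ * (g⁻¹ * h * g) * g⁻¹ = h := by group
        rwa [e] at this
  obtain ⟨c₁, P'₁, hc₁, hcov₁, hP'₁, hstab₁, hdef₁⟩ :=
    knorr_normal_sup (N.subgroupOf G₁) hM hB₁ (P.subgroupOf G₁) hB₁P hnorm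
  refine ⟨descendBlock N G₁ hNG₁ c₁, P'₁.map G₁.subtype, isPBlock_descendBlock N G₁ hNG₁ hc₁,
    ?_, ?_, ?_, isDefectGroup_descendBlock N G₁ hNG₁ P'₁ hdef₁⟩
  · obtain ⟨ξ, hξ, θ₁, hθ₁, h2⟩ := hcov₁
    obtain ⟨χ, hχB, hχ⟩ := Cfsg.Agent.S0934.result p M hM G₁ B₁ B hind ξ hξ
    refine ⟨χ, hχB, _, irrPull_mem_pullBlock _ hθ₁, ?_⟩
    exact classInner_descend_ne_zero N G₁ hNG₁ χ ξ θ₁ hχ h2
  · obtain ⟨s, hs⟩ := Cfsg.Agent.S4434.defectGroups_conj p M hM B₁ hB₁ _ P'₁ hB₁P hP'₁
    have e : P'₁.map G₁.subtype = P.map (MulAut.conj (s : G)).toMonoidHom := by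
      rw [hs]
      ext x
      constructor
      · rintro ⟨_, ⟨q, hq, rfl⟩, rfl⟩
        refine ⟨(q : G), Subgroup.mem_subgroupOf.mp hq, ?_⟩
        simp [MulAut.conj_apply]
      · rintro ⟨q, hq, rfl⟩
        refine ⟨(MulAut.conj s).toMonoidHom ⟨q, hPG₁ hq⟩, ⟨⟨q, hPG₁ hq⟩, ?_, rfl⟩, ?_⟩
        · rw [SetLike.mem_coe, Subgroup.mem_subgroupOf]
          exact hq
        · simp [MulAut.conj_apply]
    rw [e]
    exact Cfsg.Agent.S4434.isDefectGroup_conj p M B P hP (s : G)
  · rintro _ ⟨k, hk, rfl⟩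
    exact mem_blockStab_descendBlock N G₁ hNG₁ k (hstab₁ hk)

end Main

end Cfsg.Agent.Lib.Helper82
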