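/-
Landau's theorem (helper82): the order of a finite group is bounded in terms of its class number.
-/
import Mathlib

set_option autoImplicit false

namespace Cfsg.Agent.Lib.Helper82

universe u

/-- A bound on the denominators of `k` unit fractions with sum a positive multiple of `1 / m`. -/
theorem unitFraction_bound (k : ℕ) : ∀ m : ℕ, ∃ N : ℕ, ∀ {ι : Type u} [DecidableEq ι]
    (s : Finset ι) (f : ι → ℕ), s.card = k → (∀ i ∈ s, 0 < f i) →
    (∃ c : ℕ, 0 < c ∧ ∑ i ∈ s, (1 : ℚ) / (f i : ℚ) = (c : ℚ) / (m : ℚ)) →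
    ∀ i ∈ s, f i ≤ N := by
  induction k with
  | zero =>
    intro m
    refine ⟨0, ?_⟩
    intro ι _ s f hs _ _ i hi
    rw [Finset.card_eq_zero] at hs
    subst hs
    simp at hi
  | succ k ih =>
    intro m
    choose N hN using ih
    refine ⟨max (m * (k + 1)) ((Finset.range (m * (k + 1) + 1)).sup (fun j => N (m * j))), ?_⟩
    intro ι _ s f hs hpos hsum i hi
    obtain ⟨c, hc, hsum⟩ := hsum
    have hne : s.Nonempty := by
      rw [← Finset.card_pos]
      omega
    have hterm : ∀ j ∈ s, (0 : ℚ) < 1 / (f j : ℚ) := by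
      intro j hj
      have : (0 : ℚ) < (f j : ℚ) := by exact_mod_cast hpos j hj
      positivity
    have hsumpos : (0 : ℚ) < ∑ j ∈ s, (1 : ℚ) / (f j : ℚ) := Finset.sum_pos hterm hne
    have hm : 0 < m := by
      by_contra h0
      have : m = 0 := by omega
      subst this
      rw [hsum] at hsumpos
      simp at hsumpos
    have hmq : (0 : ℚ) < (m : ℚ) := by exact_mod_cast hm
    obtain ⟨i₀, hi₀, hmin⟩ := Finset.exists_min_image s f hne
    have hf0 : (0 : ℚ) < (f i₀ : ℚ) := by exact_mod_cast hpos i₀ hi₀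
    have h1 : c * f i₀ ≤ (k + 1) * m := by
      have h2 : ∑ j ∈ s, (1 : ℚ) / (f j : ℚ) ≤ s.card • ((1 : ℚ) / (f i₀ : ℚ)) := by
        apply Finset.sum_le_card_nsmul
        intro j hj
        have hfj : (0 : ℚ) < (f j : ℚ) := by exact_mod_cast hpos j hj
        apply one_div_le_one_div_of_le hf0
        exact_mod_cast hmin j hj
      rw [hsum, hs, nsmul_eq_mul] at h2
      have h3 : (c : ℚ) / (m : ℚ) ≤ ((k + 1 : ℕ) : ℚ) / (f i₀ : ℚ) := by
        rw [mul_one_div] at h2
        exact h2
      rw [div_le_div_iff₀ hmq hf0] at h3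
      exact_mod_cast h3
    have h1' : f i₀ ≤ m * (k + 1) := by
      calc f i₀ = 1 * f i₀ := (one_mul _).symm
        _ ≤ c * f i₀ := Nat.mul_le_mul_right _ hc
        _ ≤ (k + 1) * m := h1
        _ = m * (k + 1) := Nat.mul_comm _ _
    by_cases hii : i = i₀
    · subst hii
      exact le_trans h1' (le_max_left _ _)
    · have hi' : i ∈ s.erase i₀ := Finset.mem_erase.mpr ⟨hii, hi⟩
      have hcard : (s.erase i₀).card = k := by
        rw [Finset.card_erase_of_mem hi₀, hs]
        rfl
      have hsplit : ∑ j ∈ s.erase i₀, (1 : ℚ) / (f j : ℚ) = (c : ℚ) / (m : ℚ) - 1 / (f i₀ : ℚ) := by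
        rw [← hsum, ← Finset.add_sum_erase s _ hi₀]
        ring
      have hpos' : (0 : ℚ) < ∑ j ∈ s.erase i₀, (1 : ℚ) / (f j : ℚ) :=
        Finset.sum_pos (fun j hj => hterm j (Finset.mem_of_mem_erase hj)) ⟨i, hi'⟩
      have hlt : m < c * f i₀ := by
        rw [hsplit, sub_pos, div_lt_div_iff₀ hf0 hmq] at hpos'
        have : ((m : ℚ)) < (c : ℚ) * (f i₀ : ℚ) := by linarith
        exact_mod_cast this
      have hsum' : ∑ j ∈ s.erase i₀, (1 : ℚ) / (f j : ℚ) =
          ((c * f i₀ - m : ℕ) : ℚ) / ((m * f i₀ : ℕ) : ℚ) := by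
        rw [hsplit, Nat.cast_sub hlt.le]
        push_cast
        field_simp
      have := hN (m * f i₀) (s.erase i₀) f hcard
        (fun j hj => hpos j (Finset.mem_of_mem_erase hj)) ⟨_, Nat.sub_pos_of_lt hlt, hsum'⟩ i hi'
      refine le_trans this (le_trans ?_ (le_max_right _ _))
      exact Finset.le_sup (f := fun j => N (m * j)) (Finset.mem_range.mpr (by omega))

/-- **Landau's theorem.**  The order of a finite group is bounded in terms of its number of
conjugacy classes. -/
theorem landau (k : ℕ) : ∃ N : ℕ, ∀ (G : Type u) [Group G] [Finite G],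
    Nat.card (ConjClasses G) ≤ k → Nat.card G ≤ N := by
  classical
  choose N hN using fun j : ℕ => unitFraction_bound.{u} j 1
  refine ⟨(Finset.range (k + 1)).sup N, ?_⟩
  intro G _ _ hk
  have : Fintype G := Fintype.ofFinite G
  have : Fintype (ConjClasses G) := Fintype.ofFinite _
  have hGpos : 0 < Nat.card G := Nat.card_pos
  have hdvd : ∀ C : ConjClasses G, C.carrier.ncard ∣ Nat.card G := by
    intro C
    obtain ⟨g, rfl⟩ := ConjClasses.mk_surjective C
    rw [← ConjAct.orbit_eq_carrier_conjClasses]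
    have h1 := MulAction.card_orbit_mul_card_stabilizer_eq_card_group (ConjAct G) g
    have h2 : Fintype.card (ConjAct G) = Nat.card G := by
      rw [Nat.card_eq_fintype_card]
      exact Fintype.card_congr ConjAct.ofConjAct.toEquiv
    refine ⟨Fintype.card (MulAction.stabilizer (ConjAct G) g), ?_⟩
    rw [← h2, ← h1, Set.ncard_eq_toFinset_card', Set.toFinset_card]
  have hcpos : ∀ C : ConjClasses G, 0 < C.carrier.ncard := by
    intro C
    obtain ⟨g, rfl⟩ := ConjClasses.mk_surjective C
    rw [Set.ncard_pos (Set.toFinite _)]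
    exact ⟨g, ConjClasses.mem_carrier_mk⟩
  set f : ConjClasses G → ℕ := fun C => Nat.card G / C.carrier.ncard with hf
  have hfpos : ∀ C ∈ (Finset.univ : Finset (ConjClasses G)), 0 < f C := by
    intro C _
    exact Nat.div_pos (Nat.le_of_dvd hGpos (hdvd C)) (hcpos C)
  have hsum : ∑ C ∈ (Finset.univ : Finset (ConjClasses G)), (1 : ℚ) / (f C : ℚ) =
      ((1 : ℕ) : ℚ) / ((1 : ℕ) : ℚ) := by
    have h1 : ∀ C : ConjClasses G, (1 : ℚ) / (f C : ℚ) = (C.carrier.ncard : ℚ) / (Nat.card G : ℚ) := by
      intro C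
      have hc : (C.carrier.ncard : ℚ) ≠ 0 := by exact_mod_cast (hcpos C).ne'
      have hg : (Nat.card G : ℚ) ≠ 0 := by exact_mod_cast hGpos.ne'
      rw [hf]
      simp only
      rw [Nat.cast_div (hdvd C) hc]
      field_simp
    simp only [h1]
    rw [← Finset.sum_div, ← Nat.cast_sum]
    have h2 := Group.sum_card_conj_classes_eq_card G
    rw [finsum_eq_sum_of_fintype] at h2
    rw [h2]
    have hg : (Nat.card G : ℚ) ≠ 0 := by exact_mod_cast hGpos.ne'
    rw [div_self hg]
    simp
  have key := hN (Finset.univ : Finset (ConjClasses G)).card Finset.univ f rfl hfpos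
    ⟨1, Nat.one_pos, hsum⟩ (ConjClasses.mk 1) (Finset.mem_univ _)
  have hone : f (ConjClasses.mk 1) = Nat.card G := by
    rw [hf]
    simp only
    have : (ConjClasses.mk (1 : G)).carrier = {1} := by
      ext x
      rw [ConjClasses.mem_carrier_iff_mk_eq, Set.mem_singleton_iff, ConjClasses.mk_eq_mk_iff_isConj]
      constructor
      · intro h
        exact (isConj_one_right.mp h.symm)
      · rintro rfl
        exact IsConj.refl 1
    rw [this, Set.ncard_singleton, Nat.div_one]
  rw [hone] at key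
  refine le_trans key ?_
  apply Finset.le_sup (f := N)
  rw [Finset.mem_range, Finset.card_univ, ← Nat.card_eq_fintype_card]
  omega

end Cfsg.Agent.Lib.Helper82
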