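import Cfsg.Agent.Lib.Helper82.BraidV4

/-!
# Parity of class multiplication constants for special elements of order three (helper82)
-/

set_option autoImplicit false

namespace Cfsg.Agent.Lib.Helper82.Braid

variable {G : Type*} [Group G]

theorem even_card_of_involution {α : Type*} [DecidableEq α] (s : Finset α) (f : α → α)
    (hmem : ∀ a ∈ s, f a ∈ s) (hinv : ∀ a ∈ s, f (f a) = a) (hfix : ∀ a ∈ s, f a ≠ a) :
    Even s.card := by
  have h := Finset.sum_involution (s := s) (f := fun _ => (1 : ZMod 2)) (fun a _ => f a)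
    (fun a ha => by decide)
    (fun a ha _ => hfix a ha) (fun a ha => hmem a ha) (fun a ha => hinv a ha)
  rw [Finset.sum_const, nsmul_eq_mul, mul_one] at h
  exact (ZMod.natCast_eq_zero_iff_even).mp h

theorem pow_three_of_isConj {g x : G} (h : IsConj g x) (hg : g ^ 3 = 1) : x ^ 3 = 1 := by
  obtain ⟨a, ha⟩ := isConj_iff.mp h
  rw [← ha, conj_pow, hg]; group

/-- The centralizer of a special element has odd order. -/
theorem odd_card_centralizer_of_special [Finite G] {g : G} (hsp : Special g) :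
    Odd (Nat.card (Subgroup.centralizer ({g} : Set G))) := by
  by_contra hodd
  rw [Nat.not_odd_iff_even, even_iff_two_dvd] at hodd
  have : Fact (Nat.Prime 2) := ⟨Nat.prime_two⟩
  obtain ⟨t, ht⟩ := exists_prime_orderOf_dvd_card' 2 hodd
  have ht' : orderOf (t : G) = 2 := by rwa [Subgroup.orderOf_coe]
  have htg : (t : G) * g = g * (t : G) := by
    have := t.2
    rw [Subgroup.mem_centralizer_singleton_iff] at this
    exact this
  have hQ : IsPGroup 2 ↥(Subgroup.zpowers (t : G)) := by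
    apply IsPGroup.of_card (n := 1)
    rw [Nat.card_zpowers, ht', pow_one]
  have hn : g ∈ Subgroup.normalizer ((Subgroup.zpowers (t : G) : Subgroup G) : Set G) := by
    apply Subgroup.centralizer_le_normalizer
    rw [Subgroup.mem_centralizer_iff]
    intro h hh
    obtain ⟨n, rfl⟩ := Subgroup.mem_zpowers_iff.mp hh
    exact ((Commute.zpow_left (show Commute (t : G) g from htg) n)).eq
  have := hsp _ hQ hn
  rw [Subgroup.zpowers_eq_bot] at this
  rw [this, orderOf_one] at ht'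
  omega

/-- Parity of the number of pairs of conjugates of `g` with product `k`. -/
theorem card_conj_pairs_parity [Fintype G] {g k : G}
    [DecidablePred (fun p : G × G => IsConj g p.1 ∧ IsConj g p.2 ∧ p.1 * p.2 = k)]
    (hg : g ^ 3 = 1) (hk : k ^ 3 = 1) (hsp : Special g) :
    (IsConj g k⁻¹ → Odd (Finset.univ.filter
      (fun p : G × G => IsConj g p.1 ∧ IsConj g p.2 ∧ p.1 * p.2 = k)).card) ∧
    (¬ IsConj g k⁻¹ → Even (Finset.univ.filter
      (fun p : G × G => IsConj g p.1 ∧ IsConj g p.2 ∧ p.1 * p.2 = k)).card) := by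
  classical
  set X := Finset.univ.filter
      (fun p : G × G => IsConj g p.1 ∧ IsConj g p.2 ∧ p.1 * p.2 = k) with hX
  have k3 : k * k * k = 1 := by rw [← hk]; simp [pow_succ]
  let ρ : G × G → G × G := fun p => (k⁻¹ * p.2 * k, k⁻¹ * p.2⁻¹ * p.1 * p.2 * k)
  have hmem : ∀ p ∈ X, ρ p ∈ X := by
    intro p hp
    rw [hX, Finset.mem_filter] at hp ⊢
    obtain ⟨_, h1, h2, h3⟩ := hp
    refine ⟨Finset.mem_univ _, ?_, ?_, ?_⟩
    · refine h2.trans (isConj_iff.mpr ⟨k⁻¹, ?_⟩)
      simp [ρ]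
    · refine h1.trans (isConj_iff.mpr ⟨k⁻¹ * p.2⁻¹, ?_⟩)
      simp only [ρ]; group
    · show k⁻¹ * p.2 * k * (k⁻¹ * p.2⁻¹ * p.1 * p.2 * k) = k
      calc k⁻¹ * p.2 * k * (k⁻¹ * p.2⁻¹ * p.1 * p.2 * k) = k⁻¹ * (p.1 * p.2) * k := by group
        _ = k := by rw [h3]; group
  have hinv : ∀ p ∈ X, ρ (ρ p) = p := by
    intro p hp
    rw [hX, Finset.mem_filter] at hp
    obtain ⟨_, h1, h2, h3⟩ := hp
    have hkinv : k⁻¹ * k⁻¹ = k := by
      calc k⁻¹ * k⁻¹ = k⁻¹ * k⁻¹ * (k * k * k) := by rw [k3, mul_one]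
        _ = k := by group
    have hkk : k * k = k⁻¹ := eq_inv_of_mul_eq_one_left k3
    apply Prod.ext
    · show k⁻¹ * (k⁻¹ * p.2⁻¹ * p.1 * p.2 * k) * k = p.1
      calc k⁻¹ * (k⁻¹ * p.2⁻¹ * p.1 * p.2 * k) * k
          = (k⁻¹ * k⁻¹) * p.2⁻¹ * p.1 * p.2 * (k * k) := by group
        _ = (p.1 * p.2) * p.2⁻¹ * p.1 * p.2 * (p.1 * p.2)⁻¹ := by rw [hkinv, hkk, h3]
        _ = p.1 := by group
    · show k⁻¹ * (k⁻¹ * p.2⁻¹ * p.1 * p.2 * k)⁻¹ * (k⁻¹ * p.2 * k) *
        (k⁻¹ * p.2⁻¹ * p.1 * p.2 * k) * k = p.2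
      calc k⁻¹ * (k⁻¹ * p.2⁻¹ * p.1 * p.2 * k)⁻¹ * (k⁻¹ * p.2 * k) *
            (k⁻¹ * p.2⁻¹ * p.1 * p.2 * k) * k
          = (k⁻¹ * k⁻¹) * p.2⁻¹ * p.1⁻¹ * p.2 * p.1 * p.2 * (k * k) := by group
        _ = (p.1 * p.2) * p.2⁻¹ * p.1⁻¹ * p.2 * p.1 * p.2 * (p.1 * p.2)⁻¹ := by
          rw [hkinv, hkk, h3]
        _ = p.2 := by group
  -- fixed points
  have hfixed : ∀ p ∈ X, ρ p = p → p = (k⁻¹, k⁻¹) := by
    intro p hp hfix
    rw [hX, Finset.mem_filter] at hp
    obtain ⟨_, h1, h2, h3⟩ := hp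
    have hf1 : k⁻¹ * p.2 * k = p.1 := congrArg Prod.fst hfix
    have hbr : p.1 * p.2 * p.1 = p.2 * p.1 * p.2 := by
      have : p.2 * k = k * p.1 := by rw [← hf1]; group
      rw [← h3] at this
      calc p.1 * p.2 * p.1 = p.2 * (p.1 * p.2) := this.symm
        _ = p.2 * p.1 * p.2 := by group
    have hx3 := pow_three_of_isConj h1 hg
    have hy3 := pow_three_of_isConj h2 hg
    have hxy3 : (p.1 * p.2) ^ 3 = 1 := by rw [h3]; exact hk
    have hxy : p.1 = p.2 := by
      by_contra hne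
      obtain ⟨Q, hQ, hn, hQne⟩ := exists_two_subgroup_of_braid hx3 hy3 hxy3 hbr hne
      exact hQne (special_of_isConj h1 hsp Q hQ hn)
    have x3 : p.1 * p.1 * p.1 = 1 := by rw [← hx3]; simp [pow_succ]
    have hkx : k⁻¹ = p.1 := by
      rw [← h3, ← hxy]
      calc (p.1 * p.1)⁻¹ = (p.1 * p.1)⁻¹ * (p.1 * p.1 * p.1) := by rw [x3, mul_one]
        _ = p.1 := by group
    apply Prod.ext
    · exact hkx.symm
    · show p.2 = k⁻¹
      rw [← hxy]; exact hkx.symm
  have hsplit : X.card = (X.filter (fun p => ρ p = p)).card + (X.filter (fun p => ¬ ρ p = p)).card :=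
    (Finset.card_filter_add_card_filter_not (s := X) (fun p => ρ p = p)).symm
  have heven : Even (X.filter (fun p => ¬ ρ p = p)).card := by
    apply even_card_of_involution _ ρ
    · intro p hp
      rw [Finset.mem_filter] at hp ⊢
      refine ⟨hmem p hp.1, ?_⟩
      rw [hinv p hp.1]
      intro h
      exact hp.2 h.symm
    · intro p hp
      exact hinv p (Finset.mem_filter.mp hp).1
    · intro p hp
      exact (Finset.mem_filter.mp hp).2
  constructor
  · intro hc
    have hfix1 : X.filter (fun p => ρ p = p) = {(k⁻¹, k⁻¹)} := by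
      ext p
      rw [Finset.mem_filter, Finset.mem_singleton]
      constructor
      · rintro ⟨hp, hf⟩
        exact hfixed p hp hf
      · rintro rfl
        have hkinv : k⁻¹ * k⁻¹ = k := by
          calc k⁻¹ * k⁻¹ = k⁻¹ * k⁻¹ * (k * k * k) := by rw [k3, mul_one]
            _ = k := by group
        refine ⟨?_, ?_⟩
        · rw [hX, Finset.mem_filter]
          exact ⟨Finset.mem_univ _, hc, hc, hkinv⟩
        · apply Prod.ext
          · show k⁻¹ * k⁻¹ * k = k⁻¹
            group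
          · show k⁻¹ * k⁻¹⁻¹ * k⁻¹ * k⁻¹ * k = k⁻¹
            group
    rw [hsplit, hfix1, Finset.card_singleton]
    exact heven.one_add
  · intro hc
    have hfix0 : X.filter (fun p => ρ p = p) = ∅ := by
      rw [Finset.filter_eq_empty_iff]
      intro p hp hf
      have := hfixed p hp hf
      rw [hX, Finset.mem_filter] at hp
      apply hc
      have h1 := hp.2.1
      rw [this] at h1
      exact h1
    rw [hsplit, hfix0, Finset.card_empty, zero_add]
    exact heven

end Cfsg.Agent.Lib.Helper82.Braid
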