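import Cfsg.Agent.Lib.Helper82.BraidCount

/-!
# Parametrized pairs of conjugates (helper82)

`#{(a,b) | a g a⁻¹ · b g b⁻¹ = k} = |C(g)|² · #{(x,y) ∈ K × K | x y = k}` and the parity
consequence for special elements of order three.
-/

set_option autoImplicit false

namespace Cfsg.Agent.Lib.Helper82.Braid

variable {G : Type*} [Group G]

theorem card_conj_fiber [Fintype G] [DecidableEq G] (g x : G) (h : IsConj g x) :
    (Finset.univ.filter (fun a : G => a * g * a⁻¹ = x)).card =
      Nat.card (Subgroup.centralizer ({g} : Set G)) := by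
  classical
  obtain ⟨a₀, ha₀⟩ := isConj_iff.mp h
  rw [Nat.card_eq_fintype_card, ← Fintype.card_coe]
  apply Fintype.card_congr
  refine
    { toFun := fun a => ⟨a₀⁻¹ * a.1, ?_⟩
      invFun := fun c => ⟨a₀ * c.1, ?_⟩
      left_inv := ?_
      right_inv := ?_ }
  · have ha := (Finset.mem_filter.mp a.2).2
    rw [Subgroup.mem_centralizer_singleton_iff]
    -- a g a⁻¹ = a₀ g a₀⁻¹
    have h1 : a.1 * g * a.1⁻¹ = a₀ * g * a₀⁻¹ := by rw [ha, ha₀]
    calc a₀⁻¹ * a.1 * g = a₀⁻¹ * (a.1 * g * a.1⁻¹) * a.1 := by group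
      _ = a₀⁻¹ * (a₀ * g * a₀⁻¹) * a.1 := by rw [h1]
      _ = g * (a₀⁻¹ * a.1) := by group
  · rw [Finset.mem_filter]
    refine ⟨Finset.mem_univ _, ?_⟩
    have hc := c.2
    rw [Subgroup.mem_centralizer_singleton_iff] at hc
    calc a₀ * c.1 * g * (a₀ * c.1)⁻¹ = a₀ * (c.1 * g) * c.1⁻¹ * a₀⁻¹ := by group
      _ = a₀ * (g * c.1) * c.1⁻¹ * a₀⁻¹ := by rw [hc]
      _ = a₀ * g * a₀⁻¹ := by group
      _ = x := ha₀
  · intro a
    apply Subtype.ext
    show a₀ * (a₀⁻¹ * a.1) = a.1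
    group
  · intro c
    apply Subtype.ext
    show a₀⁻¹ * (a₀ * c.1) = c.1
    group

theorem card_param_pairs [Fintype G] [DecidableEq G] (g k : G)
    [DecidablePred (fun p : G × G => IsConj g p.1 ∧ IsConj g p.2 ∧ p.1 * p.2 = k)] :
    (Finset.univ.filter (fun ab : G × G => ab.1 * g * ab.1⁻¹ * (ab.2 * g * ab.2⁻¹) = k)).card =
      Nat.card (Subgroup.centralizer ({g} : Set G)) ^ 2 *
        (Finset.univ.filter
          (fun p : G × G => IsConj g p.1 ∧ IsConj g p.2 ∧ p.1 * p.2 = k)).card := by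
  set P := Finset.univ.filter
    (fun ab : G × G => ab.1 * g * ab.1⁻¹ * (ab.2 * g * ab.2⁻¹) = k) with hP
  set X := Finset.univ.filter
    (fun p : G × G => IsConj g p.1 ∧ IsConj g p.2 ∧ p.1 * p.2 = k) with hX
  let f : G × G → G × G := fun ab => (ab.1 * g * ab.1⁻¹, ab.2 * g * ab.2⁻¹)
  have hmaps : (P : Set (G × G)).MapsTo f X := by
    intro ab hab
    have hab' : ab ∈ P := hab
    rw [hP, Finset.mem_filter] at hab'
    show f ab ∈ X
    rw [hX, Finset.mem_filter]
    exact ⟨Finset.mem_univ _, isConj_iff.mpr ⟨ab.1, rfl⟩, isConj_iff.mpr ⟨ab.2, rfl⟩, hab'.2⟩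
  rw [Finset.card_eq_sum_card_fiberwise hmaps]
  have hfib : ∀ p ∈ X, (P.filter (fun ab => f ab = p)).card =
      Nat.card (Subgroup.centralizer ({g} : Set G)) ^ 2 := by
    intro p hp
    rw [hX, Finset.mem_filter] at hp
    obtain ⟨_, h1, h2, h3⟩ := hp
    have : P.filter (fun ab => f ab = p) =
        (Finset.univ.filter (fun a : G => a * g * a⁻¹ = p.1)) ×ˢ
          (Finset.univ.filter (fun b : G => b * g * b⁻¹ = p.2)) := by
      ext ab
      simp only [Finset.mem_filter, Finset.mem_product, hP, Finset.mem_univ, true_and]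
      constructor
      · rintro ⟨_, hf⟩
        exact ⟨congrArg Prod.fst hf, congrArg Prod.snd hf⟩
      · rintro ⟨ha, hb⟩
        refine ⟨?_, Prod.ext ha hb⟩
        rw [ha, hb, h3]
    rw [this, Finset.card_product, card_conj_fiber g p.1 h1, card_conj_fiber g p.2 h2, pow_two]
  rw [Finset.sum_congr rfl hfib, Finset.sum_const, smul_eq_mul, mul_comm]

/-- Parity of the number of parametrized pairs. -/
theorem card_param_pairs_parity [Fintype G] [DecidableEq G] {g k : G} (hg : g ^ 3 = 1)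
    (hk : k ^ 3 = 1) (hsp : Special g) :
    (IsConj g k⁻¹ → Odd (Finset.univ.filter
      (fun ab : G × G => ab.1 * g * ab.1⁻¹ * (ab.2 * g * ab.2⁻¹) = k)).card) ∧
    (¬ IsConj g k⁻¹ → Even (Finset.univ.filter
      (fun ab : G × G => ab.1 * g * ab.1⁻¹ * (ab.2 * g * ab.2⁻¹) = k)).card) := by
  classical
  have hodd := odd_card_centralizer_of_special hsp
  have hodd2 : Odd (Nat.card (Subgroup.centralizer ({g} : Set G)) ^ 2) := hodd.pow
  have hpar := card_conj_pairs_parity hg hk hsp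
  have h := card_param_pairs g k
  constructor
  · intro hc
    rw [h]
    exact hodd2.mul (hpar.1 hc)
  · intro hc
    rw [h]
    exact (hpar.2 hc).mul_left _

end Cfsg.Agent.Lib.Helper82.Braid
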