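import Mathlib

/-!
# Elements of order three and the braid relation (helper82)

If `x, y` have order three, `(x y)^3 = 1`, `x y x = y x y` and `x ≠ y`, then `x` normalizes a
non-trivial elementary abelian 2-subgroup (the group generated by `x, y` is a quotient of `A_4`).
Consequence: for an element `g` of order three normalizing no non-trivial 2-subgroup and `k` with
`k^3 = 1`, the number of pairs `(x, y)` of conjugates of `g` with `x y = k` is odd iff `k⁻¹` is
conjugate to `g`.
-/

set_option autoImplicit false

namespace Cfsg.Agent.Lib.Helper82.Braid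

variable {G : Type*} [Group G]

/-- `g` normalizes no non-trivial 2-subgroup. -/
def Special (g : G) : Prop :=
  ∀ Q : Subgroup G, IsPGroup 2 ↥Q → g ∈ Subgroup.normalizer (Q : Set G) → Q = ⊥

theorem special_of_isConj {g x : G} (h : IsConj g x) (hsp : Special g) : Special x := by
  obtain ⟨a, ha⟩ := isConj_iff.mp h
  intro Q hQ hxQ
  let f : G ≃* G := MulAut.conj a⁻¹
  have h1 : g ∈ Subgroup.normalizer ((Q.map f.toMonoidHom : Subgroup G) : Set G) := by
    rw [← Subgroup.map_equiv_normalizer_eq]
    refine ⟨x, hxQ, ?_⟩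
    show f x = g
    simp only [f, MulAut.conj_apply, ← ha]
    group
  have h2 : IsPGroup 2 ↥(Q.map f.toMonoidHom) := hQ.map _
  have h3 := hsp _ h2 h1
  exact (Subgroup.map_eq_bot_iff_of_injective Q f.injective).mp h3

theorem exists_two_subgroup_of_braid {x y : G} (hx : x ^ 3 = 1) (hy : y ^ 3 = 1)
    (hxy : (x * y) ^ 3 = 1) (hbr : x * y * x = y * x * y) (hne : x ≠ y) :
    ∃ Q : Subgroup G, IsPGroup 2 ↥Q ∧ x ∈ Subgroup.normalizer (Q : Set G) ∧ Q ≠ ⊥ := by
  have e3 : x * x * x = 1 := by rw [← hx]; simp [pow_succ]
  have ey : y * y * y = 1 := by rw [← hy]; simp [pow_succ]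
  have exy : x * y * (x * y) * (x * y) = 1 := by rw [← hxy]; simp [pow_succ]
  have e1 : x * y * x * y = y⁻¹ * x⁻¹ := by
    have h2 : x * y * (x * y) = (x * y)⁻¹ := eq_inv_of_mul_eq_one_left exy
    rw [mul_inv_rev] at h2
    rw [← h2]; group
  have e2 : y * y = y⁻¹ := eq_inv_of_mul_eq_one_left ey
  set c := x * y * x with hc
  have hcc : c * c = 1 := by
    calc c * c = (x * y * x) * (y * x * y) := by rw [hc, ← hbr]
      _ = x * y * (x * y) * (x * y) := by group
      _ = 1 := exy
  have hc1 : c ≠ 1 := by
    intro h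
    apply hne
    have h' : x * y * x = 1 := h
    have hyx : y = x⁻¹ * x⁻¹ := by
      calc y = x⁻¹ * (x * y * x) * x⁻¹ := by group
        _ = x⁻¹ * x⁻¹ := by rw [h']; group
    rw [hyx]
    calc x = x⁻¹ * x⁻¹ * (x * x * x) := by group
      _ = x⁻¹ * x⁻¹ := by rw [e3, mul_one]
  set d := x⁻¹ * c * x with hd
  set e := x⁻¹ * d * x with he
  have hxe : x⁻¹ * e * x = c := by
    calc x⁻¹ * e * x = (x * x * x)⁻¹ * c * (x * x * x) := by rw [he, hd]; group
      _ = c := by rw [e3]; simp
  have hcd : c * d = d * c := by
    calc c * d = (x * y * x * y) * x * x := by rw [hd, hc]; group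
      _ = y⁻¹ * x⁻¹ * x * x := by rw [e1]
      _ = (y * y) * x := by rw [e2]; group
      _ = y * (x * x * x) * y * x := by rw [e3]; group
      _ = d * c := by rw [hd, hc]; group
  have hde : d * e = e * d := by
    calc d * e = x⁻¹ * (c * d) * x := by rw [he, hd]; group
      _ = x⁻¹ * (d * c) * x := by rw [hcd]
      _ = e * d := by rw [he, hd]; group
  have hec : e * c = c * e := by
    calc e * c = x⁻¹ * (d * e) * x := by rw [← hxe, he]; group
      _ = x⁻¹ * (e * d) * x := by rw [hde]
      _ = c * e := by rw [← hxe, he]; group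
  have hdd : d * d = 1 := by
    calc d * d = x⁻¹ * (c * c) * x := by rw [hd]; group
      _ = 1 := by rw [hcc]; group
  have hee : e * e = 1 := by
    calc e * e = x⁻¹ * (d * d) * x := by rw [he]; group
      _ = 1 := by rw [hdd]; group
  clear_value c d e
  let S : Set G := {c, d, e}
  have hS : ∀ a ∈ S, ∀ b ∈ S, a * b = b * a := by
    intro a ha b hb
    simp only [S, Set.mem_insert_iff, Set.mem_singleton_iff] at ha hb
    rcases ha with rfl | rfl | rfl <;> rcases hb with rfl | rfl | rfl <;>
      first | rfl | assumption | (symm; assumption)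
  have hSq : ∀ a ∈ S, a * a = 1 := by
    intro a ha
    simp only [S, Set.mem_insert_iff, Set.mem_singleton_iff] at ha
    rcases ha with rfl | rfl | rfl <;> assumption
  have hSx : ∀ a ∈ S, x⁻¹ * a * x ∈ S := by
    intro a ha
    simp only [S, Set.mem_insert_iff, Set.mem_singleton_iff] at ha ⊢
    rcases ha with rfl | rfl | rfl
    · right; left; exact hd.symm
    · right; right; exact he.symm
    · left; exact hxe
  refine ⟨Subgroup.closure S, ?_, ?_, ?_⟩
  · -- 2-group
    have hCS : IsMulCommutative (Subgroup.closure S) := Subgroup.isMulCommutative_closure hS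
    have hcomm : ∀ a ∈ Subgroup.closure S, ∀ b ∈ Subgroup.closure S, a * b = b * a := by
      intro a ha b hb
      have := hCS.is_comm.comm (⟨a, ha⟩ : Subgroup.closure S) ⟨b, hb⟩
      exact congrArg Subtype.val this
    have hsq : ∀ q ∈ Subgroup.closure S, q * q = 1 := by
      intro q hq
      induction hq using Subgroup.closure_induction with
      | mem a ha => exact hSq a ha
      | one => simp
      | mul a b ha hb iha ihb =>
        calc a * b * (a * b) = a * (b * a) * b := by group
          _ = a * (a * b) * b := by rw [hcomm b hb a ha]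
          _ = (a * a) * (b * b) := by group
          _ = 1 := by rw [iha, ihb, one_mul]
      | inv a ha iha =>
        calc a⁻¹ * a⁻¹ = (a * a)⁻¹ := by group
          _ = 1 := by rw [iha, inv_one]
    intro q
    refine ⟨1, ?_⟩
    apply Subtype.ext
    have := hsq q.1 q.2
    simp [pow_succ, this]
  · -- normalized by x
    have hfw : ∀ h ∈ Subgroup.closure S, x⁻¹ * h * x ∈ Subgroup.closure S := by
      intro h hh
      induction hh using Subgroup.closure_induction with
      | mem a ha => exact Subgroup.subset_closure (hSx a ha)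
      | one => simp
      | mul a b _ _ iha ihb =>
        have : x⁻¹ * (a * b) * x = (x⁻¹ * a * x) * (x⁻¹ * b * x) := by group
        rw [this]; exact Subgroup.mul_mem _ iha ihb
      | inv a _ iha =>
        have : x⁻¹ * a⁻¹ * x = (x⁻¹ * a * x)⁻¹ := by group
        rw [this]; exact Subgroup.inv_mem _ iha
    rw [Subgroup.mem_normalizer_iff'']
    intro h
    refine ⟨hfw h, fun hh => ?_⟩
    have h2 := hfw _ (hfw _ hh)
    have : x⁻¹ * (x⁻¹ * (x⁻¹ * h * x) * x) * x = h := by
      calc x⁻¹ * (x⁻¹ * (x⁻¹ * h * x) * x) * x = (x * x * x)⁻¹ * h * (x * x * x) := by group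
        _ = h := by rw [e3]; simp
    rwa [this] at h2
  · intro hbot
    have : c ∈ Subgroup.closure S := Subgroup.subset_closure (by simp [S])
    rw [hbot, Subgroup.mem_bot] at this
    exact hc1 this

end Cfsg.Agent.Lib.Helper82.Braid
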