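import Mathlib
import Cfsg.Agent.Lib.Helper82.ChainDefs
import Cfsg.Agent.Lib.Helper9.S4651CombU
import Cfsg.Agent.Lib.Helper93.S4651CombN

/-!
# S4651 [COMB-ASM]: the combinatorial chain identity

For any `R : Subgroup G → ℤ`, `secSum p R ⊤` is the alternating sum of `secSum p R (chainStab s)`
over the nonempty normal chains `s` of nontrivial `p`-subgroups.
-/

set_option autoImplicit false
set_option linter.style.haveILetI false
open Cfsg Cfsg.Agent.Lib.Helper82

namespace Cfsg.Agent.Lib.Helper82

section Comb
variable {G : Type*} [Group G]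

theorem chainStab_empty : chainStab (∅ : Finset (Subgroup G)) = ⊤ := by
  simp [chainStab]

theorem isPChain_empty (p : ℕ) : IsPChain p (∅ : Finset (Subgroup G)) := by
  constructor
  · intro Q hQ; simp at hQ
  · intro Q hQ; simp at hQ

theorem IsNormalChain.nonempty {s : Finset (Subgroup G)} (h : IsNormalChain s) : s.Nonempty := by
  obtain ⟨T, hT, _⟩ := h
  exact ⟨T, hT⟩

/-- [COMB-ASM] -/
theorem secSum_top_eq_chain_sum [Finite G] (p : ℕ) [Fact p.Prime] (R : Subgroup G → ℤ) :
    secSum p R ⊤ = ∑ᶠ s ∈ {s : Finset (Subgroup G) | s.Nonempty ∧ IsPChain p s ∧ IsNormalChain s},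
      (-1 : ℤ) ^ (s.card - 1) * secSum p R (chainStab s) := by
  classical
  haveI : Fintype (Subgroup G) := Fintype.ofFinite _
  haveI : Fintype G := Fintype.ofFinite _
  obtain ⟨PE, hPE⟩ : ∃ PE : Finset G, PE = Finset.univ.filter
      (fun u : G => u ≠ 1 ∧ ∃ k : ℕ, orderOf u = p ^ k) := ⟨_, rfl⟩
  have hsec : ∀ K : Subgroup G, secSum p R K =
      ∑ u ∈ PE, if u ∈ K then R (K ⊓ Subgroup.centralizer ({u} : Set G)) else 0 := by
    intro K
    unfold secSum
    rw [finsum_mem_eq_sum_of_subset (t := PE.filter (fun u => u ∈ K)) _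
      (by
        intro u hu
        rw [hPE]
        simp only [Finset.coe_filter, Finset.mem_filter, Finset.mem_univ, true_and,
          Set.mem_ofPred_eq]
        exact ⟨hu.1.2, hu.1.1⟩)
      (by
        intro u hu
        rw [hPE] at hu
        simp only [Finset.coe_filter, Finset.mem_filter, Finset.mem_univ, true_and,
          Set.mem_ofPred_eq] at hu
        exact ⟨hu.2, hu.1⟩)]
    rw [Finset.sum_filter]
  -- the total alternating sum over all chains vanishes
  obtain ⟨PC, hPC⟩ : ∃ PC : Finset (Finset (Subgroup G)), PC = Finset.univ.filter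
      (fun s : Finset (Subgroup G) => IsPChain p s) := ⟨_, rfl⟩
  have hT : ∑ s ∈ PC, (-1 : ℤ) ^ s.card * secSum p R (chainStab s) = 0 := by
    simp_rw [hsec, Finset.mul_sum]
    rw [Finset.sum_comm]
    apply Finset.sum_eq_zero
    intro u hu
    rw [hPE] at hu
    simp only [Finset.mem_filter, Finset.mem_univ, true_and] at hu
    have key := Cfsg.Agent.Lib.Helper9.S4651CombU.sum_fixed_chains_eq_zero p u hu.1 hu.2 R
    rw [finsum_mem_eq_sum_of_subset (t := PC.filter (fun s => u ∈ chainStab s)) _
      (by
        intro s hs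
        rw [hPC]
        simp only [Finset.coe_filter, Finset.mem_filter, Finset.mem_univ, true_and,
          Set.mem_ofPred_eq]
        exact hs.1)
      (by
        intro s hs
        rw [hPC] at hs
        simp only [Finset.coe_filter, Finset.mem_filter, Finset.mem_univ, true_and,
          Set.mem_ofPred_eq] at hs
        exact hs)] at key
    rw [Finset.sum_filter] at key
    refine Eq.trans ?_ key
    apply Finset.sum_congr rfl
    intro s _
    split_ifs <;> simp
  -- split the chains
  have hN := Cfsg.Agent.Lib.Helper93.S4651.sum_nonnormal_chains_eq_zero p (fun K => secSum p R K)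
  rw [finsum_mem_eq_sum_of_subset
    (t := PC.filter (fun s => s.Nonempty ∧ ¬ IsNormalChain s)) _
    (by
      intro s hs
      rw [hPC]
      simp only [Finset.coe_filter, Finset.mem_filter, Finset.mem_univ, true_and,
        Set.mem_ofPred_eq]
      exact hs.1)
    (by
      intro s hs
      rw [hPC] at hs
      simp only [Finset.coe_filter, Finset.mem_filter, Finset.mem_univ, true_and,
        Set.mem_ofPred_eq] at hs
      exact hs)] at hN
  rw [finsum_mem_eq_sum_of_subset
    (t := PC.filter (fun s => IsNormalChain s)) _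
    (by
      intro s hs
      rw [hPC]
      simp only [Finset.coe_filter, Finset.mem_filter, Finset.mem_univ, true_and,
        Set.mem_ofPred_eq]
      exact ⟨hs.1.2.1, hs.1.2.2⟩)
    (by
      intro s hs
      rw [hPC] at hs
      simp only [Finset.coe_filter, Finset.mem_filter, Finset.mem_univ, true_and,
        Set.mem_ofPred_eq] at hs
      exact ⟨hs.2.nonempty, hs.1, hs.2⟩)]
  -- decompose PC
  have hsplit : ∑ s ∈ PC, (-1 : ℤ) ^ s.card * secSum p R (chainStab s) =
      secSum p R ⊤ + ∑ s ∈ PC.filter (fun s => IsNormalChain s),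
        (-1 : ℤ) ^ s.card * secSum p R (chainStab s) +
      ∑ s ∈ PC.filter (fun s => s.Nonempty ∧ ¬ IsNormalChain s),
        (-1 : ℤ) ^ s.card * secSum p R (chainStab s) := by
    rw [← Finset.sum_filter_add_sum_filter_not PC (fun s => IsNormalChain s)]
    have hnn : ∑ s ∈ PC.filter (fun s => ¬ IsNormalChain s),
        (-1 : ℤ) ^ s.card * secSum p R (chainStab s) =
        secSum p R ⊤ + ∑ s ∈ PC.filter (fun s => s.Nonempty ∧ ¬ IsNormalChain s),
          (-1 : ℤ) ^ s.card * secSum p R (chainStab s) := by
      rw [← Finset.sum_filter_add_sum_filter_not (PC.filter (fun s => ¬ IsNormalChain s))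
        (fun s => s.Nonempty)]
      rw [add_comm]
      congr 1
      · have : (PC.filter (fun s => ¬ IsNormalChain s)).filter (fun s => ¬ s.Nonempty) = {∅} := by
          ext s
          simp only [Finset.mem_filter, Finset.mem_singleton, Finset.not_nonempty_iff_eq_empty]
          constructor
          · rintro ⟨_, h⟩; exact h
          · rintro rfl
            refine ⟨⟨?_, ?_⟩, rfl⟩
            · rw [hPC]; simp only [Finset.mem_filter, Finset.mem_univ, true_and]
              exact isPChain_empty p
            · intro h; exact Finset.not_nonempty_empty h.nonempty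
        rw [this, Finset.sum_singleton, Finset.card_empty, pow_zero, one_mul, chainStab_empty]
      · apply Finset.sum_congr _ (fun _ _ => rfl)
        ext s
        simp only [Finset.mem_filter]
        tauto
    rw [hnn]
    ring
  rw [hT, hN, add_zero] at hsplit
  have hneg : ∑ s ∈ PC.filter (fun s => IsNormalChain s),
      (-1 : ℤ) ^ (s.card - 1) * secSum p R (chainStab s) =
      - ∑ s ∈ PC.filter (fun s => IsNormalChain s),
        (-1 : ℤ) ^ s.card * secSum p R (chainStab s) := by
    rw [← Finset.sum_neg_distrib]
    apply Finset.sum_congr rfl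
    intro s hs
    simp only [Finset.mem_filter] at hs
    have hpos : 0 < s.card := Finset.card_pos.mpr hs.2.nonempty
    obtain ⟨n, hn⟩ : ∃ n, s.card = n + 1 := ⟨s.card - 1, by omega⟩
    rw [hn, Nat.add_sub_cancel, pow_succ]
    ring
  rw [hneg]
  linarith

end Comb

end Cfsg.Agent.Lib.Helper82
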