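import Mathlib
import Cfsg.Agent.Lib.Helper82.ChainDefs
import Cfsg.Agent.Lib.Helper77.ExtFirstMainUp
import Cfsg.Agent.Lib.Helper82.PullRank
import Cfsg.Agent.Lib.Helper16.PairRestrict
import Cfsg.Agent.Lib.Helper16.BrauerOver
import Cfsg.Agent.S0919

/-!
# S4651 [BLK-TRANS]: the centralizer of `u` in `↥K` versus `K ⊓ C_G(u)`

The blocks of `C_{↥K}(u)` inducing (inside `↥K`) a block that induces `b` correspond to the blocks of
`K ⊓ C_G(u) ≤ G` inducing `b` (transitivity of block induction, both directions, and existence of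
the induced block from the centralizer of a `p`-element).
-/

set_option autoImplicit false
set_option linter.unusedSectionVars false
set_option linter.unusedVariables false
set_option linter.style.haveILetI false

namespace Cfsg.Agent.Lib.Helper82

open Cfsg Cfsg.Agent.Lib.Helper16 Cfsg.Agent.Lib.Helper77

universe u

variable {G : Type u} [Group G]

/-- The isomorphism `C_{↥K}(u) ≃* K ⊓ C_G(u)`. -/
noncomputable def centInfEquiv (K : Subgroup G) (u : K) :
    ↥(Subgroup.centralizer ({u} : Set K)) ≃*
      ↥(K ⊓ Subgroup.centralizer ({(u : G)} : Set G)) where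
  toFun x := ⟨((x : K) : G), ⟨(x : K).2, by
    show ((x : K) : G) ∈ Subgroup.centralizer ({(u : G)} : Set G)
    rw [Subgroup.mem_centralizer_singleton_iff]
    exact congrArg Subtype.val (Subgroup.mem_centralizer_singleton_iff.mp x.2)⟩⟩
  invFun y := ⟨⟨(y : G), y.2.1⟩, by
    rw [Subgroup.mem_centralizer_singleton_iff]
    exact Subtype.ext (Subgroup.mem_centralizer_singleton_iff.mp y.2.2)⟩
  left_inv _ := rfl
  right_inv _ := rfl
  map_mul' _ _ := rfl

theorem centInfEquiv_coe (K : Subgroup G) (u : K) (x : Subgroup.centralizer ({u} : Set K)) :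
    ((centInfEquiv K u x : ↥(K ⊓ Subgroup.centralizer ({(u : G)} : Set G))) : G) =
      ((x : K) : G) := rfl

theorem image_irrTransport_eq_pullBlock {K₁ K₂ : Type u} [Group K₁] [Group K₂] (φ : K₁ ≃* K₂)
    (γ : Set (IrrCharacter K₂)) : irrTransport φ '' γ = pullBlock φ γ := rfl

/-- [BLK-TRANS] -/
theorem rank_sum_centralizer_transport [Finite G] {p : ℕ} [Fact p.Prime] {M : Ideal AlgInt}
    (hM : IsPModular p M) {b : Set (IrrCharacter G)} (hb : IsPBlock M b) (K : Subgroup G)
    (u : K) (hu : ∃ k : ℕ, orderOf u = p ^ k) :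
    (Nat.card (Subgroup.centralizer ({u} : Set K)) : ℤ) *
        ∑ᶠ γ ∈ {γ : Set (IrrCharacter (Subgroup.centralizer ({u} : Set K))) |
            ∃ β ∈ {β : Set (IrrCharacter K) | IsInducedBlock M K β b},
              IsInducedBlock M (Subgroup.centralizer ({u} : Set K)) γ β},
          (blockRank p γ : ℤ) =
      rankFun p M b (K ⊓ Subgroup.centralizer ({(u : G)} : Set G)) := by
  classical
  haveI hMp : M.IsPrime := isPModular_isPrime hM
  haveI : Fintype G := Fintype.ofFinite G
  haveI : Fintype K := Fintype.ofFinite K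
  haveI : Fintype ↥(K ⊓ Subgroup.centralizer ({(u : G)} : Set G)) := Fintype.ofFinite _
  haveI : Fintype ↥(Subgroup.centralizer ({u} : Set K)) := Fintype.ofFinite _
  obtain ⟨φ, hφdef⟩ : ∃ φ, φ = centInfEquiv K u := ⟨_, rfl⟩
  have hφ : ∀ x : Subgroup.centralizer ({u} : Set K),
      ((φ x : ↥(K ⊓ Subgroup.centralizer ({(u : G)} : Set G))) : G) = ((x : K) : G) := by
    intro x; rw [hφdef]; rfl
  unfold rankFun
  rw [Nat.card_congr φ.toEquiv]
  congr 1
  symm
  -- existence of the induced block from the centralizer of the `p`-element `u` of `↥K`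
  have hex : ∀ γ' : Set (IrrCharacter (Subgroup.centralizer ({u} : Set K))), IsPBlock M γ' →
      ∃ β : Set (IrrCharacter K), IsInducedBlock M (Subgroup.centralizer ({u} : Set K)) γ' β := by
    intro γ' hγ'
    have hP : IsPGroup p (Subgroup.zpowers u) := by
      obtain ⟨k, hk⟩ := hu
      apply IsPGroup.of_card (n := k)
      rw [Nat.card_zpowers, hk]
    have hcent : Subgroup.centralizer ((Subgroup.zpowers u : Subgroup K) : Set K) =
        Subgroup.centralizer ({u} : Set K) := by
      rw [Subgroup.zpowers_eq_closure, Subgroup.centralizer_closure]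
    have hPH : Subgroup.zpowers u ≤ Subgroup.centralizer ({u} : Set K) := by
      rw [Subgroup.zpowers_le, Subgroup.mem_centralizer_singleton_iff]
    have hCH : Subgroup.centralizer ((Subgroup.zpowers u : Subgroup K) : Set K) ≤
        Subgroup.centralizer ({u} : Set K) := hcent.le
    have hHN : Subgroup.centralizer ({u} : Set K) ≤
        Subgroup.normalizer ((Subgroup.zpowers u : Subgroup K) : Set K) := by
      rw [← hcent]
      exact Subgroup.centralizer_le_normalizer _
    exact Cfsg.Agent.S0919.result p M hM (Subgroup.zpowers u)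
      (Subgroup.centralizer ({u} : Set K)) hP hPH hCH hHN γ' hγ'
  apply finsum_mem_eq_of_bijOn (fun γ => pullBlock φ γ)
  · refine ⟨?_, ?_, ?_⟩
    · -- maps to
      intro γ hγ
      simp only [Set.mem_ofPred_eq] at hγ ⊢
      obtain ⟨β, hβ⟩ := hex (pullBlock φ γ) (isPBlock_pullBlock φ hγ.1)
      refine ⟨β, ?_, hβ⟩
      exact isInducedBlock_trans_transport K (K ⊓ Subgroup.centralizer ({(u : G)} : Set G))
        (Subgroup.centralizer ({u} : Set K)) φ hφ hβ hγ
    · -- injective
      intro γ₁ _ γ₂ _ h
      exact pullBlock_injective φ h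
    · -- surjective
      intro γ' hγ'
      simp only [Set.mem_ofPred_eq] at hγ'
      obtain ⟨β, hβ, hγ'β⟩ := hγ'
      refine ⟨pullBlock φ.symm γ', ?_, pullBlock_pullBlock_symm φ γ'⟩
      simp only [Set.mem_ofPred_eq]
      have h1 : IsInducedBlock M (Subgroup.centralizer ({u} : Set K))
          (irrTransport φ '' (pullBlock φ.symm γ')) β := by
        rw [image_irrTransport_eq_pullBlock, pullBlock_pullBlock_symm]
        exact hγ'β
      exact isInducedBlock_trans_transport' K (K ⊓ Subgroup.centralizer ({(u : G)} : Set G))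
        (Subgroup.centralizer ({u} : Set K)) φ hφ (isPBlock_pullBlock φ.symm hγ'β.1) h1 hβ
  · intro γ _
    rw [blockRank_pullBlock]

end Cfsg.Agent.Lib.Helper82
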