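import Mathlib
import Cfsg.Agent.Lib.Helper82.ChainDefs
import Cfsg.Agent.Lib.Helper78.CharOrtho
import Cfsg.Agent.Lib.Helper62.S4651BlkAdd
import Cfsg.Agent.Lib.Helper62.S4651BlkCore
import Cfsg.Agent.Lib.Helper82.ChainBlkTrans

/-!
# S4651 [BLK-TOP], [BLK-K]: `|K| (k(b_K) - l(b_K)) = secSum p (rankFun p M b) K`

Assembled from `family_card_sub_rank` (pointwise Brauer count for a family of blocks),
`blockRank_sUnion_blocks` (additivity of the rank) and `rank_sum_centralizer_transport`.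
-/

set_option autoImplicit false
set_option linter.style.haveILetI false
open Cfsg Cfsg.Agent.Lib.Helper82 Cfsg.Agent.Lib.Helper78

namespace Cfsg.Agent.Lib.Helper82

section Blk

variable {G : Type*} [Group G]

/-- [BLK-TOP] -/
theorem card_sub_rank_eq_secSum_top [Finite G] {p : ℕ} [Fact p.Prime] {M : Ideal AlgInt}
    (hM : IsPModular p M) {b : Set (IrrCharacter G)} (hb : IsPBlock M b) :
    (Nat.card G : ℤ) * ((Nat.card b : ℤ) - (blockRank p b : ℤ)) =
      secSum p (rankFun p M b) ⊤ := by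
  have key := Cfsg.Agent.Lib.Helper62.S4651.family_card_sub_rank hM ({b} : Set (Set (IrrCharacter G)))
    (by intro β hβ; rw [Set.mem_singleton_iff] at hβ; rw [hβ]; exact hb)
  have h1 : {ψ : IrrCharacter G | ∃ β ∈ ({b} : Set (Set (IrrCharacter G))), ψ ∈ β} = b := by
    ext ψ
    simp
  rw [h1, finsum_mem_singleton] at key
  rw [key]
  unfold secSum
  apply finsum_mem_congr
  · ext u
    simp
  · intro u _
    rw [top_inf_eq]
    unfold rankFun
    congr 1
    apply finsum_mem_congr _ (fun _ _ => rfl)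
    ext γ
    simp

/-- [BLK-K] -/
theorem card_sub_rank_eq_secSum [Finite G] {p : ℕ} [Fact p.Prime] {M : Ideal AlgInt}
    (hM : IsPModular p M) {b : Set (IrrCharacter G)} (hb : IsPBlock M b) (K : Subgroup G) :
    (Nat.card K : ℤ) * ((Nat.card (indSet M K b) : ℤ) - (blockRank p (indSet M K b) : ℤ)) =
      secSum p (rankFun p M b) K := by
  have hfam : ∀ β ∈ {β : Set (IrrCharacter K) | IsInducedBlock M K β b}, IsPBlock M β :=
    fun β hβ => hβ.1
  have key := Cfsg.Agent.Lib.Helper62.S4651.family_card_sub_rank hM {β : Set (IrrCharacter K) | IsInducedBlock M K β b} hfam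
  have hadd := Cfsg.Agent.Lib.Helper62.S4651.blockRank_sUnion_blocks hM {β : Set (IrrCharacter K) | IsInducedBlock M K β b} hfam
  have h1 : {ψ : IrrCharacter K | ∃ β ∈ {β : Set (IrrCharacter K) | IsInducedBlock M K β b},
      ψ ∈ β} = indSet M K b := by
    ext ψ
    unfold indSet
    simp only [Set.mem_ofPred_eq]
    constructor
    · rintro ⟨β, h1, h2⟩; exact ⟨β, h2, h1⟩
    · rintro ⟨β, h1, h2⟩; exact ⟨β, h2, h1⟩
  rw [h1] at key hadd
  rw [← Nat.cast_finsum_mem (Set.toFinite _), ← hadd] at key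
  rw [key]
  unfold secSum
  have himg : {u : G | u ∈ K ∧ u ≠ 1 ∧ ∃ k : ℕ, orderOf u = p ^ k} =
      (Subtype.val : K → G) '' {u : K | u ≠ 1 ∧ ∃ k : ℕ, orderOf u = p ^ k} := by
    ext u
    simp only [Set.mem_ofPred_eq, Set.mem_image]
    constructor
    · rintro ⟨hK, h1, k, hk⟩
      refine ⟨⟨u, hK⟩, ⟨?_, k, ?_⟩, rfl⟩
      · intro h; apply h1; exact congrArg Subtype.val h
      · rw [← hk]; exact Subgroup.orderOf_mk u hK
    · rintro ⟨u', ⟨h1, k, hk⟩, rfl⟩
      refine ⟨u'.2, ?_, k, ?_⟩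
      · intro h; apply h1; exact Subtype.ext h
      · rw [← hk]; exact (Subgroup.orderOf_coe u')
  rw [himg, finsum_mem_image Subtype.val_injective.injOn]
  apply finsum_mem_congr rfl
  intro u hu
  exact rank_sum_centralizer_transport hM hb K u hu.2

end Blk

end Cfsg.Agent.Lib.Helper82
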