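import Mathlib

/-!
# A determinant/parity rank argument (helper82)

If an integer square matrix `D` is congruent to the identity modulo 2 and, modulo twice the
algebraic integers, is a sum of `|Z|` rank-one matrices with algebraic-integer entries, then the
size of `D` is at most `|Z|`.
-/

set_option autoImplicit false

namespace Cfsg.Agent.Lib.Helper82.DetParity

open Matrix

theorem det_mul_eq_zero_of_card_lt {ι Z : Type*} [Fintype ι] [DecidableEq ι] [Fintype Z]
    (U : Matrix ι Z ℂ) (V : Matrix Z ι ℂ) (h : Fintype.card Z < Fintype.card ι) :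
    (U * V).det = 0 := by
  rw [← Matrix.exists_mulVec_eq_zero_iff]
  have hker : LinearMap.ker V.mulVecLin ≠ ⊥ := by
    apply LinearMap.ker_ne_bot_of_finrank_lt
    simpa using h
  obtain ⟨w, hw, hw0⟩ := (Submodule.ne_bot_iff _).mp hker
  refine ⟨w, hw0, ?_⟩
  have hVw : V *ᵥ w = 0 := by
    rw [LinearMap.mem_ker, Matrix.mulVecLin_apply] at hw
    exact hw
  rw [← Matrix.mulVec_mulVec, hVw, Matrix.mulVec_zero]

theorem card_le_of_det_parity {ι Z : Type*} [Fintype ι] [DecidableEq ι] [Fintype Z]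
    (D : Matrix ι ι ℤ) (hD : ∀ i l, Odd (D i l) ↔ i = l)
    (u v : Z → ι → ℂ) (E : ι → ι → ℂ)
    (hu : ∀ χ i, IsIntegral ℤ (u χ i)) (hv : ∀ χ l, IsIntegral ℤ (v χ l))
    (hE : ∀ i l, IsIntegral ℤ (E i l))
    (h : ∀ i l, (D i l : ℂ) = ∑ χ, u χ i * v χ l + 2 * E i l) :
    Fintype.card ι ≤ Fintype.card Z := by
  by_contra hlt
  push Not at hlt
  let O := integralClosure ℤ ℂ
  let U' : Matrix ι Z O := fun i χ => ⟨u χ i, hu χ i⟩
  let V' : Matrix Z ι O := fun χ l => ⟨v χ l, hv χ l⟩
  let E' : Matrix ι ι O := fun i l => ⟨E i l, hE i l⟩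
  let D' : Matrix ι ι O := (Int.castRingHom O).mapMatrix D
  have hDeq : D' = U' * V' + (2 : O) • E' := by
    ext i l
    have e1 : ((D' i l : O) : ℂ) = (D i l : ℂ) := by
      simp [D']
    have e2 : (((U' * V' + (2 : O) • E') i l : O) : ℂ) = ∑ χ, u χ i * v χ l + 2 * E i l := by
      rw [Matrix.add_apply, Matrix.mul_apply, Matrix.smul_apply]
      have h22 : ((2 : O) : ℂ) = 2 := rfl
      simp [U', V', E', h22]
    rw [e1, e2, h i l]
  have hdet0 : (U' * V').det = 0 := by
    have h0 := det_mul_eq_zero_of_card_lt (U'.map (algebraMap O ℂ)) (V'.map (algebraMap O ℂ)) hlt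
    rw [← Matrix.map_mul, ← RingHom.mapMatrix_apply, ← RingHom.map_det] at h0
    exact (FaithfulSMul.algebraMap_injective O ℂ) (by rw [h0, map_zero])
  let π := Ideal.Quotient.mk (Ideal.span {(2 : O)})
  have hπ : π.mapMatrix D' = π.mapMatrix (U' * V') := by
    rw [hDeq, map_add]
    have h2 : π.mapMatrix ((2 : O) • E') = 0 := by
      ext i l
      simp only [RingHom.mapMatrix_apply, Matrix.map_apply, Matrix.smul_apply, smul_eq_mul,
        Matrix.zero_apply, π]
      rw [Ideal.Quotient.eq_zero_iff_mem, Ideal.mem_span_singleton]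
      exact Dvd.intro _ rfl
    rw [h2, add_zero]
  have hdetD' : π D'.det = 0 := by
    rw [RingHom.map_det, hπ, ← RingHom.map_det, hdet0, map_zero]
  rw [Ideal.Quotient.eq_zero_iff_mem, Ideal.mem_span_singleton] at hdetD'
  obtain ⟨e, he⟩ := hdetD'
  have hDdet : D'.det = ((D.det : ℤ) : O) := by
    show ((Int.castRingHom O).mapMatrix D).det = _
    rw [← RingHom.map_det]
    rfl
  have hC : ((D.det : ℤ) : ℂ) = 2 * (e : ℂ) := by
    have h1 := congrArg (fun z : O => (z : ℂ)) (hDdet.symm.trans he)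
    have h22 : ((2 : O) : ℂ) = 2 := rfl
    simpa [h22] using h1
  have hdvd : (2 : ℤ) ∣ D.det := by
    have hq : (e : ℂ) = algebraMap ℚ ℂ ((D.det : ℚ) / 2) := by
      have : (e : ℂ) = ((D.det : ℤ) : ℂ) / 2 := by rw [hC]; ring
      rw [this]
      simp
    have hint : IsIntegral ℤ ((D.det : ℚ) / 2) := by
      have he2 : IsIntegral ℤ (e : ℂ) := e.2
      rw [hq] at he2
      exact (isIntegral_algebraMap_iff (algebraMap ℚ ℂ).injective).mp he2
    obtain ⟨n, hn⟩ := IsIntegrallyClosed.isIntegral_iff.mp hint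
    refine ⟨n, ?_⟩
    have h3 : (D.det : ℚ) = 2 * (n : ℚ) := by
      have : ((n : ℤ) : ℚ) = (D.det : ℚ) / 2 := hn
      rw [this]; ring
    exact_mod_cast h3
  have hodd : Odd D.det := by
    have h1 : (Int.castRingHom (ZMod 2)).mapMatrix D = 1 := by
      ext i l
      simp only [RingHom.mapMatrix_apply, Matrix.map_apply, Int.coe_castRingHom, Matrix.one_apply]
      by_cases hil : i = l
      · rw [if_pos hil]
        exact (ZMod.intCast_eq_one_iff_odd).mpr ((hD i l).mpr hil)
      · rw [if_neg hil]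
        have : ¬ Odd (D i l) := fun ho => hil ((hD i l).mp ho)
        rw [Int.not_odd_iff_even] at this
        exact (ZMod.intCast_eq_zero_iff_even).mpr this
    have h2 := congrArg Matrix.det h1
    rw [← RingHom.map_det, Matrix.det_one] at h2
    exact (ZMod.intCast_eq_one_iff_odd).mp h2
  exact (Int.not_even_iff_odd.mpr hodd) (even_iff_two_dvd.mpr hdvd)

end Cfsg.Agent.Lib.Helper82.DetParity
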