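import Mathlib
import Cfsg.Agent.Lib.Helper82.SubsecExpand

/-!
# Class functions vanishing on the `p`-singular elements

If `∑ a_i ψ_i` (the `ψ_i` irreducible characters, the `a_i` algebraic integers) vanishes on the
`p`-singular elements, then its value at a `p`-regular element `x` is `|C_G(x)|_p` times an
algebraic integer.
-/

set_option autoImplicit false
set_option linter.unusedSectionVars false
set_option linter.style.haveILetI false

namespace Cfsg.Agent.Lib.Helper82

open Cfsg Finset Cfsg.Agent.Lib.Helper16 Cfsg.Agent.Lib.Helper78 Cfsg.Agent.Lib.Helper79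
open scoped ComplexConjugate

universe u

section Vanish

variable {G : Type u} [Group G] [Fintype G]

/-- The sum of an irreducible character over a subgroup is a multiple of the order. -/
theorem sum_subgroup_irr_eq (S : Subgroup G) [Fintype S] (ξ : IrrCharacter G) :
    ∃ n : ℕ, ∑ s : S, (ξ : G → ℂ) (s : G) = (Nat.card S : ℂ) * n := by
  classical
  have hres := Cfsg.Agent.Lib.Helper80.isCharacter_restrict S
    (Cfsg.Agent.Lib.Helper80.isCharacter_of_isIrr ξ.2)
  let one : IrrCharacter S := ⟨fun _ => 1, Cfsg.Agent.Lib.Helper80.isIrrCharacter_one⟩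
  obtain ⟨n, hn⟩ := Cfsg.Agent.Lib.Helper78.IsCharacter.exists_nat_classInner hres one
  refine ⟨n, ?_⟩
  unfold classInner at hn
  have hc : (Nat.card S : ℂ) ≠ 0 := by exact_mod_cast Nat.card_pos.ne'
  have h2 : ∑ s : S, (ξ : G → ℂ) (s : G) =
      ∑ s : S, (fun s : S => (ξ : G → ℂ) (s : G)) s * conj (one.1 s) := by
    apply Finset.sum_congr rfl
    intro s _
    simp [one]
  rw [h2]
  rw [inv_mul_eq_iff_eq_mul₀ hc] at hn
  exact hn

theorem cScalar_isIntegral {K : Type u} [Group K] [Fintype K] (ξ : IrrCharacter K) {z : K}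
    (hz : z ∈ Subgroup.center K) : IsIntegral ℤ (cScalar ξ z) := by
  have h1 : cScalar ξ z ^ orderOf z = 1 := cScalar_pow_eq_one ξ hz (pow_orderOf_eq_one z)
  apply IsIntegral.of_pow (orderOf_pos z)
  rw [h1]
  exact isIntegral_one

/-- **Divisibility for class functions vanishing on the `p`-singular elements** (general
centralizer). -/
theorem exists_integral_of_vanish_gen (p : ℕ) [Fact p.Prime] (x : G) (hx : ¬ p ∣ orderOf x)
    (H : Subgroup G) (hH : ∀ g : G, g ∈ H ↔ Commute x g)
    {ι : Type*} (s : Finset ι) (a : ι → ℂ) (ψ : ι → IrrCharacter G)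
    (ha : ∀ i ∈ s, IsIntegral ℤ (a i))
    (hv : ∀ y : G, p ∣ orderOf y → ∑ i ∈ s, a i * (ψ i : G → ℂ) y = 0) :
    ∃ w : ℂ, IsIntegral ℤ w ∧ ∑ i ∈ s, a i * (ψ i : G → ℂ) x =
      ((p ^ (Nat.card H).factorization p : ℕ) : ℂ) * w := by
  classical
  have hp : p.Prime := Fact.out
  haveI : Fintype H := Fintype.ofFinite _
  have hxH : x ∈ H := (hH x).mpr (Commute.refl x)
  obtain ⟨z, hzx⟩ : ∃ z : H, (z : G) = x := ⟨⟨x, hxH⟩, rfl⟩
  have hzc : z ∈ Subgroup.center H := by
    rw [Subgroup.mem_center_iff]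
    intro h
    apply Subtype.ext
    simp only [Subgroup.coe_mul, hzx]
    exact ((hH h).mp h.2).eq.symm
  let S : Sylow p H := default
  haveI : Fintype (S : Subgroup H) := Fintype.ofFinite _
  have hScard : Nat.card (S : Subgroup H) = p ^ (Nat.card H).factorization p :=
    Sylow.card_eq_multiplicity S
  -- the other terms vanish
  have hsing : ∀ q : (S : Subgroup H), q ≠ 1 → p ∣ orderOf (x * ((q : H) : G)) := by
    intro q hq
    obtain ⟨k, hk⟩ := (IsPGroup.iff_orderOf.mp S.isPGroup') q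
    have hk0 : k ≠ 0 := by
      intro h0
      rw [h0, pow_zero] at hk
      exact hq (orderOf_eq_one_iff.mp hk)
    have hoq : orderOf ((q : H) : G) = p ^ k := by
      rw [Subgroup.orderOf_coe, Subgroup.orderOf_coe, hk]
    have hcomm : Commute x ((q : H) : G) := (hH _).mp (q : H).2
    have hcop : (orderOf x).Coprime (orderOf ((q : H) : G)) := by
      rw [hoq]
      exact Nat.Coprime.pow_right k ((Nat.Prime.coprime_iff_not_dvd hp).mpr hx).symm
    rw [hcomm.orderOf_mul_eq_mul_orderOf_of_coprime hcop, hoq]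
    exact Dvd.dvd.mul_left (dvd_pow_self p hk0) _
  have hsum1 : ∑ q : (S : Subgroup H), ∑ i ∈ s, a i * (ψ i : G → ℂ) (x * ((q : H) : G)) =
      ∑ i ∈ s, a i * (ψ i : G → ℂ) x := by
    rw [Finset.sum_eq_single (1 : (S : Subgroup H))]
    · simp
    · intro q _ hq
      exact hv _ (hsing q hq)
    · intro h; exact absurd (Finset.mem_univ _) h
  -- the sums over the Sylow subgroup
  have hn : ∀ ξ : IrrCharacter H, ∃ n : ℕ, ∑ q : (S : Subgroup H), (ξ : H → ℂ) (q : H) =
      (Nat.card (S : Subgroup H) : ℂ) * n := fun ξ => sum_subgroup_irr_eq (S : Subgroup H) ξ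
  choose n hn using hn
  have hsum2 : ∀ χ : IrrCharacter G,
      ∑ q : (S : Subgroup H), (χ : G → ℂ) (x * ((q : H) : G)) =
        (Nat.card (S : Subgroup H) : ℂ) *
          ∑ ξ : IrrCharacter H, (resMult H χ ξ : ℂ) * cScalar ξ z * (n ξ : ℂ) := by
    intro χ
    have h1 : ∀ q : (S : Subgroup H), (χ : G → ℂ) (x * ((q : H) : G)) =
        ∑ ξ : IrrCharacter H, (resMult H χ ξ : ℂ) * cScalar ξ z * (ξ : H → ℂ) (q : H) := by
      intro q
      have h2 := res_apply_eq_sum H χ (z * (q : H))
      rw [Subgroup.coe_mul, hzx] at h2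
      rw [h2]
      apply Finset.sum_congr rfl
      intro ξ _
      rw [irr_central_mul ξ hzc]
      ring
    rw [Finset.sum_congr rfl (fun q _ => h1 q), Finset.sum_comm, Finset.mul_sum]
    apply Finset.sum_congr rfl
    intro ξ _
    rw [← Finset.mul_sum, hn ξ]
    ring
  refine ⟨∑ i ∈ s, a i * ∑ ξ : IrrCharacter H,
    (resMult H (ψ i) ξ : ℂ) * cScalar ξ z * (n ξ : ℂ), ?_, ?_⟩
  · apply IsIntegral.sum
    intro i hi
    apply IsIntegral.mul (ha i hi)
    apply IsIntegral.sum
    intro ξ _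
    exact IsIntegral.mul (IsIntegral.mul (isIntegral_natCast _) (cScalar_isIntegral ξ hzc))
      (isIntegral_natCast _)
  · rw [← hsum1, Finset.sum_comm]
    rw [← hScard, Finset.mul_sum]
    apply Finset.sum_congr rfl
    intro i _
    rw [← Finset.mul_sum, hsum2 (ψ i)]
    ring

/-- **Divisibility for class functions vanishing on the `p`-singular elements.** -/
theorem exists_integral_of_vanish (p : ℕ) [Fact p.Prime] (x : G) (hx : ¬ p ∣ orderOf x)
    {ι : Type*} (s : Finset ι) (a : ι → ℂ) (ψ : ι → IrrCharacter G)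
    (ha : ∀ i ∈ s, IsIntegral ℤ (a i))
    (hv : ∀ y : G, p ∣ orderOf y → ∑ i ∈ s, a i * (ψ i : G → ℂ) y = 0) :
    ∃ w : ℂ, IsIntegral ℤ w ∧ ∑ i ∈ s, a i * (ψ i : G → ℂ) x =
      ((p ^ (Nat.card (Subgroup.centralizer ({x} : Set G))).factorization p : ℕ) : ℂ) * w := by
  apply exists_integral_of_vanish_gen p x hx (Subgroup.centralizer ({x} : Set G)) _ s a ψ ha hv
  intro g
  rw [Subgroup.mem_centralizer_singleton_iff]
  constructor
  · intro h; exact h.symm
  · intro h; exact h.eq.symm

end Vanish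

end Cfsg.Agent.Lib.Helper82
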