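import Mathlib
import Cfsg.Agent.Lib.Helper82.IsoVanish
import Cfsg.Agent.Lib.Helper78.DefectClassVal

/-!
# Integrality lemmas for perfect isometries
-/

set_option autoImplicit false
set_option linter.unusedSectionVars false
set_option linter.style.haveILetI false

namespace Cfsg.Agent.Lib.Helper82

open Cfsg Finset Cfsg.Agent.Lib.Helper16 Cfsg.Agent.Lib.Helper78 Cfsg.Agent.Lib.Helper79
open scoped ComplexConjugate

universe u v

section Parity

variable {ι : Type*}

/-- Two sign vectors of length four, each adding up to zero, have inner product divisible by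
four. -/
theorem four_dvd_sum_mul (s : Finset ι) (hs : s.card = 4) (a b : ι → ℤ)
    (ha : ∀ i, a i = 1 ∨ a i = -1) (hb : ∀ i, b i = 1 ∨ b i = -1)
    (ha0 : ∑ i ∈ s, a i = 0) (hb0 : ∑ i ∈ s, b i = 0) :
    ∃ m : ℤ, ∑ i ∈ s, a i * b i = 4 * m := by
  have h1 : ∀ i, ∃ t : ℤ, (1 - a i) * (1 - b i) = 4 * t := by
    intro i
    rcases ha i with h | h <;> rcases hb i with h' | h' <;> rw [h, h']
    · exact ⟨0, by norm_num⟩
    · exact ⟨0, by norm_num⟩
    · exact ⟨0, by norm_num⟩
    · exact ⟨1, by norm_num⟩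
  choose t ht using h1
  refine ⟨∑ i ∈ s, t i - 1, ?_⟩
  have h2 : ∑ i ∈ s, (1 - a i) * (1 - b i) = 4 + ∑ i ∈ s, a i * b i := by
    have : ∀ i, (1 - a i) * (1 - b i) = 1 - a i - b i + a i * b i := by intro i; ring
    simp_rw [this]
    rw [Finset.sum_add_distrib, Finset.sum_sub_distrib, Finset.sum_sub_distrib, ha0, hb0]
    simp [hs]
  rw [Finset.sum_congr rfl (fun i _ => ht i), ← Finset.mul_sum] at h2
  linarith

end Parity

section Algebra

variable {M : Ideal AlgInt}

/-- The singular-singular integrality in the rank one case. -/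
theorem memLocalRing_sum_mul_div [hMp : M.IsPrime] {ι κ κ' : Type*} [Fintype κ] [Fintype κ']
    (s : Finset ι) (hs : s.card = 4) (a : κ → ι → ℤ) (b : κ' → ι → ℤ)
    (ha : ∀ k i, a k i = 1 ∨ a k i = -1) (hb : ∀ k i, b k i = 1 ∨ b k i = -1)
    (ha0 : ∀ k, ∑ i ∈ s, a k i = 0) (hb0 : ∀ k, ∑ i ∈ s, b k i = 0)
    (A : κ → ℂ) (A' : κ' → ℂ) (c : ℂ)
    (hA : ∀ k, MemLocalRing M (4 * A k / c)) (hA' : ∀ k, MemLocalRing M (A' k)) :
    MemLocalRing M ((∑ i ∈ s, (∑ k, (a k i : ℂ) * A k) * (∑ k', (b k' i : ℂ) * A' k')) / c) := by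
  have hm : ∀ k k', ∃ m : ℤ, ∑ i ∈ s, a k i * b k' i = 4 * m :=
    fun k k' => four_dvd_sum_mul s hs (a k) (b k') (ha k) (hb k') (ha0 k) (hb0 k')
  choose m hm using hm
  have h1 : (∑ i ∈ s, (∑ k, (a k i : ℂ) * A k) * (∑ k', (b k' i : ℂ) * A' k')) / c =
      ∑ k, ∑ k', (m k k' : ℂ) * (4 * A k / c) * A' k' := by
    have h2 : ∀ k k', (m k k' : ℂ) * (4 * A k / c) * A' k' =
        ((∑ i ∈ s, a k i * b k' i : ℤ) : ℂ) * A k * A' k' / c := by
      intro k k'
      rw [hm k k']
      push_cast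
      ring
    simp_rw [h2]
    simp_rw [← Finset.sum_div]
    congr 1
    simp_rw [Finset.sum_mul_sum]
    rw [Finset.sum_comm]
    apply Finset.sum_congr rfl
    intro k _
    rw [Finset.sum_comm]
    apply Finset.sum_congr rfl
    intro k' _
    push_cast
    rw [Finset.sum_mul, Finset.sum_mul]
    apply Finset.sum_congr rfl
    intro i _
    ring
  rw [h1]
  apply memLocalRing_sum
  intro k _
  apply memLocalRing_sum
  intro k' _
  exact memLocalRing_mul (memLocalRing_mul (memLocalRing_intCast hMp.ne_top _) (hA k)) (hA' k')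

end Algebra

section Regular

theorem isIntegral_intCast82 (n : ℤ) : IsIntegral ℤ (n : ℂ) := by
  have := isIntegral_algebraMap (R := ℤ) (A := ℂ) (x := n)
  simpa using this

variable {G : Type u} [Group G] [Fintype G] {H : Type v} [Group H] [Fintype H]
  {p : ℕ} [Fact p.Prime] {M : Ideal AlgInt}

theorem memLocalRing_pow_factorization_mul_div (hM : IsPModular p M) {n : ℕ} (hn : n ≠ 0)
    {w : ℂ} (hw : IsIntegral ℤ w) :
    MemLocalRing M (((p ^ n.factorization p : ℕ) : ℂ) * w / (n : ℂ)) := by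
  haveI hMp := isPModular_isPrime hM
  have hp : p.Prime := Fact.out
  have h1 : MemLocalRing M (((p ^ n.factorization p : ℕ) : ℂ) / (n : ℂ)) := by
    apply memLocalRing_natCast_div_of_factorization_le hM hn
    rw [Nat.factorization_pow]
    simp [hp.factorization_self]
  have h2 := memLocalRing_mul h1 (memLocalRing_of_isIntegral hMp.ne_top hw)
  convert h2 using 1
  ring

/-- **The regular-regular integrality** of a function with the separation property. -/
theorem perfect_regular_regular (hM : IsPModular p M) (s : Finset (IrrCharacter H))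
    (I : IrrCharacter H → IrrCharacter G) (ε : IrrCharacter H → ℤ) (x : G) (y : H)
    (hx : ¬ p ∣ orderOf x) (hy : ¬ p ∣ orderOf y)
    (h1 : ∀ g : G, p ∣ orderOf g →
      ∑ η ∈ s, (ε η : ℂ) * (I η : G → ℂ) g * (η : H → ℂ) y = 0)
    (h2 : ∀ h : H, p ∣ orderOf h →
      ∑ η ∈ s, (ε η : ℂ) * (I η : G → ℂ) x * (η : H → ℂ) h = 0) :
    MemLocalRing M ((∑ η ∈ s, (ε η : ℂ) * (I η : G → ℂ) x * (η : H → ℂ) y) /
      (Nat.card (Subgroup.centralizer ({x} : Set G)) : ℂ)) ∧
    MemLocalRing M ((∑ η ∈ s, (ε η : ℂ) * (I η : G → ℂ) x * (η : H → ℂ) y) /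
      (Nat.card (Subgroup.centralizer ({y} : Set H)) : ℂ)) := by
  constructor
  · obtain ⟨w, hw, hwe⟩ := exists_integral_of_vanish p x hx s
      (fun η => (ε η : ℂ) * (η : H → ℂ) y) I
      (fun η _ => IsIntegral.mul (isIntegral_intCast82 _)
        (isIntegral_irr η y))
      (by
        intro g hg
        rw [← h1 g hg]
        apply Finset.sum_congr rfl
        intro η _
        ring)
    have h3 : ∑ η ∈ s, (ε η : ℂ) * (I η : G → ℂ) x * (η : H → ℂ) y =
        ∑ η ∈ s, (ε η : ℂ) * (η : H → ℂ) y * (I η : G → ℂ) x := by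
      apply Finset.sum_congr rfl
      intro η _
      ring
    rw [h3, hwe]
    exact memLocalRing_pow_factorization_mul_div hM Nat.card_pos.ne' hw
  · obtain ⟨w, hw, hwe⟩ := exists_integral_of_vanish p y hy s
      (fun η => (ε η : ℂ) * (I η : G → ℂ) x) (fun η => η)
      (fun η _ => IsIntegral.mul (isIntegral_intCast82 _)
        (isIntegral_irr (I η) x))
      (by
        intro h hh
        exact h2 h hh)
    rw [hwe]
    exact memLocalRing_pow_factorization_mul_div hM Nat.card_pos.ne' hw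

end Regular

end Cfsg.Agent.Lib.Helper82
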