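import Mathlib
import Cfsg.Agent.Lib.Helper82.IsoPerfect
import Cfsg.Prelude.Def_BlockLocal

/-!
# Perfect isometries between two blocks with four characters and the same local structure

Abstract assembly: two sets `B`, `c` of four irreducible characters (of groups `G`, `H`), both
of "rank one type" or both of "rank three type", are perfectly isometric.
-/

set_option autoImplicit false
set_option linter.unusedSectionVars false
set_option linter.style.haveILetI false

namespace Cfsg.Agent.Lib.Helper82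

open Cfsg Finset Cfsg.Agent.Lib.Helper16 Cfsg.Agent.Lib.Helper78 Cfsg.Agent.Lib.Helper79
open scoped ComplexConjugate

universe u v

section Data

open scoped Classical in
/-- Rank one type. -/
def RankOneData {G : Type u} [Group G] [Fintype G] (M : Ideal AlgInt)
    (B : Set (IrrCharacter G)) : Prop :=
  (∀ χ ∈ B, ∀ ψ ∈ B, ∀ x : G, ¬ 2 ∣ orderOf x → (χ : G → ℂ) x = (ψ : G → ℂ) x) ∧
  (∀ y : G, 2 ∣ orderOf y →
    ∑ χ ∈ Finset.univ.filter (fun χ : IrrCharacter G => χ ∈ B), (χ : G → ℂ) y = 0) ∧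
  ∀ x : G, 2 ∣ orderOf x →
    ∃ (κ : Type u) (_ : Fintype κ) (A : κ → ℂ) (δ : κ → IrrCharacter G → ℤ),
      (∀ k χ, δ k χ = 1 ∨ δ k χ = -1) ∧
      (∀ χ ∈ B, (χ : G → ℂ) x = ∑ k, (δ k χ : ℂ) * A k) ∧
      (∀ k, IsIntegral ℤ (A k)) ∧
      (∀ k, MemLocalRing M (4 * A k /
        (Nat.card (Subgroup.centralizer ({x} : Set G)) : ℂ))) ∧
      (∀ k, ∑ χ ∈ Finset.univ.filter (fun χ : IrrCharacter G => χ ∈ B), δ k χ = 0)

open scoped Classical in
/-- Rank three type. -/
def RankThreeData {G : Type u} [Group G] [Fintype G] (M : Ideal AlgInt)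
    (B : Set (IrrCharacter G)) : Prop :=
  (∀ χ ∈ B, ∀ x : G, MemLocalRing M (4 * (χ : G → ℂ) x /
        (Nat.card (Subgroup.centralizer ({x} : Set G)) : ℂ))) ∧
  ∃ δ : IrrCharacter G → ℤ, (∀ χ, δ χ = 1 ∨ δ χ = -1) ∧
    (∀ x : G, ¬ 2 ∣ orderOf x →
      ∑ χ ∈ Finset.univ.filter (fun χ : IrrCharacter G => χ ∈ B),
        (δ χ : ℂ) * (χ : G → ℂ) x = 0) ∧
    (∀ χ ∈ B, ∀ ψ ∈ B, ∀ y : G, 2 ∣ orderOf y →
      (χ : G → ℂ) y = (δ χ : ℂ) * (δ ψ : ℂ) * (ψ : G → ℂ) y)

end Data

section Main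

variable {G : Type u} [Group G] [Fintype G] {H : Type v} [Group H] [Fintype H]
  {M : Ideal AlgInt}

open scoped Classical in
/-- A bijection between two sets of four irreducible characters. -/
theorem exists_bijOn_of_card_eq {B : Set (IrrCharacter G)} {c : Set (IrrCharacter H)}
    (hB4 : (Finset.univ.filter (fun χ : IrrCharacter G => χ ∈ B)).card = 4)
    (hc4 : (Finset.univ.filter (fun η : IrrCharacter H => η ∈ c)).card = 4) :
    ∃ I : IrrCharacter H → IrrCharacter G, Set.BijOn I c B := by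
  set Bfin := Finset.univ.filter (fun χ : IrrCharacter G => χ ∈ B) with hBfin
  set cfin := Finset.univ.filter (fun η : IrrCharacter H => η ∈ c) with hcfin
  have hne : Bfin.Nonempty := by
    rw [← Finset.card_pos, hB4]; norm_num
  obtain ⟨χ₁, hχ₁⟩ := hne
  have hcard : Fintype.card {η // η ∈ cfin} = Fintype.card {χ // χ ∈ Bfin} := by
    rw [Fintype.card_coe, Fintype.card_coe, hB4, hc4]
  let e₀ : {η // η ∈ cfin} ≃ {χ // χ ∈ Bfin} := Fintype.equivOfCardEq hcard
  have hmemc : ∀ η, η ∈ cfin ↔ η ∈ c := by intro η; simp [hcfin]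
  have hmemB : ∀ χ, χ ∈ Bfin ↔ χ ∈ B := by intro χ; simp [hBfin]
  refine ⟨fun η => if h : η ∈ cfin then (e₀ ⟨η, h⟩ : IrrCharacter G) else χ₁, ?_, ?_, ?_⟩
  · intro η hη
    have h : η ∈ cfin := (hmemc η).mpr hη
    simp only [dif_pos h]
    exact (hmemB _).mp (e₀ ⟨η, h⟩).2
  · intro η hη η' hη' heq
    have h : η ∈ cfin := (hmemc η).mpr hη
    have h' : η' ∈ cfin := (hmemc η').mpr hη'
    simp only [dif_pos h, dif_pos h'] at heq
    have := e₀.injective (Subtype.ext heq)
    exact congrArg Subtype.val this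
  · intro χ hχ
    have h : χ ∈ Bfin := (hmemB χ).mpr hχ
    refine ⟨(e₀.symm ⟨χ, h⟩ : IrrCharacter H), (hmemc _).mp (e₀.symm ⟨χ, h⟩).2, ?_⟩
    simp only [dif_pos (e₀.symm ⟨χ, h⟩).2]
    simp

open scoped Classical in
theorem signedBijectionKernel_eq_sum (c : Set (IrrCharacter H))
    (I : IrrCharacter H → IrrCharacter G) (ε : IrrCharacter H → ℤ) (x : G) (y : H) :
    signedBijectionKernel c I ε x y =
      ∑ η ∈ Finset.univ.filter (fun η : IrrCharacter H => η ∈ c),
        (ε η : ℂ) * (I η : G → ℂ) x * (η : H → ℂ) y := by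
  unfold signedBijectionKernel
  rw [finsum_mem_eq_sum_of_subset (t := Finset.univ.filter (fun η : IrrCharacter H => η ∈ c))
    _ (by intro ψ hψ; simpa using hψ.1) (by intro ψ hψ; simpa using hψ)]

open scoped Classical in
/-- Reindexing along a bijection. -/
theorem sum_bijOn_eq {β : Type*} [AddCommMonoid β] {B : Set (IrrCharacter G)}
    {c : Set (IrrCharacter H)} {I : IrrCharacter H → IrrCharacter G} (hI : Set.BijOn I c B)
    (f : IrrCharacter G → β) :
    ∑ η ∈ Finset.univ.filter (fun η : IrrCharacter H => η ∈ c), f (I η) =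
      ∑ χ ∈ Finset.univ.filter (fun χ : IrrCharacter G => χ ∈ B), f χ := by
  apply Finset.sum_nbij I
  · intro η hη
    simp only [Finset.mem_filter, Finset.mem_univ, true_and] at hη ⊢
    exact hI.1 hη
  · intro η hη η' hη' h
    simp only [Finset.coe_filter, Finset.mem_univ, true_and, Set.mem_setOf_eq] at hη hη'
    exact hI.2.1 hη hη' h
  · intro χ hχ
    simp only [Finset.coe_filter, Finset.mem_univ, true_and, Set.mem_setOf_eq] at hχ
    obtain ⟨η, hη, rfl⟩ := hI.2.2 hχ
    exact ⟨η, by simpa using hη, rfl⟩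
  · intro η _
    rfl

end Main

end Cfsg.Agent.Lib.Helper82
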