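import Mathlib
import Cfsg.Agent.Lib.Helper82.IsoMain

/-!
# The two cases of the perfect isometry for Klein four blocks
-/

set_option autoImplicit false
set_option linter.unusedSectionVars false
set_option linter.style.haveILetI false

namespace Cfsg.Agent.Lib.Helper82

open Cfsg Finset Cfsg.Agent.Lib.Helper16 Cfsg.Agent.Lib.Helper78 Cfsg.Agent.Lib.Helper79
open scoped ComplexConjugate

universe u v

section Cases

variable {G : Type u} [Group G] [Fintype G] {H : Type v} [Group H] [Fintype H]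
  {M : Ideal AlgInt}

open scoped Classical in
/-- **The rank one case.** -/
theorem isPerfectIsometry_rank_one (hM : IsPModular 2 M) {B : Set (IrrCharacter G)}
    {c : Set (IrrCharacter H)}
    (hc4 : (Finset.univ.filter (fun η : IrrCharacter H => η ∈ c)).card = 4)
    (hGB : RankOneData M B) (hHc : RankOneData M c)
    {I : IrrCharacter H → IrrCharacter G} (hI : Set.BijOn I c B) :
    IsPerfectIsometry 2 M c B I (fun _ => 1) := by
  haveI : Fact (Nat.Prime 2) := ⟨Nat.prime_two⟩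
  haveI hMp := isPModular_isPrime hM
  obtain ⟨hR1B, hS1B, hsecB⟩ := hGB
  obtain ⟨hR1c, hS1c, hsecc⟩ := hHc
  set cfin := Finset.univ.filter (fun η : IrrCharacter H => η ∈ c) with hcfin
  have hmemc : ∀ η, η ∈ cfin ↔ η ∈ c := by intro η; simp [hcfin]
  refine ⟨hI, fun η _ => Or.inl rfl, ?_⟩
  have hne : cfin.Nonempty := by
    rw [← Finset.card_pos, hc4]; norm_num
  obtain ⟨η₁, hη₁'⟩ := hne
  have hη₁ : η₁ ∈ c := (hmemc η₁).mp hη₁'
  have hμ : ∀ (x : G) (y : H), signedBijectionKernel c I (fun _ => 1) x y =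
      ∑ η ∈ cfin, (I η : G → ℂ) x * (η : H → ℂ) y := by
    intro x y
    rw [signedBijectionKernel_eq_sum]
    apply Finset.sum_congr rfl
    intro η _
    simp
  have ha1 : ∀ (x : G) (y : H), ¬ 2 ∣ orderOf x → 2 ∣ orderOf y →
      ∑ η ∈ cfin, (I η : G → ℂ) x * (η : H → ℂ) y = 0 := by
    intro x y hx hy
    have h1 : ∀ η ∈ cfin, (I η : G → ℂ) x * (η : H → ℂ) y =
        (I η₁ : G → ℂ) x * (η : H → ℂ) y := by
      intro η hη
      rw [hR1B (I η) (hI.1 ((hmemc η).mp hη)) (I η₁) (hI.1 hη₁) x hx]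
    rw [Finset.sum_congr rfl h1, ← Finset.mul_sum, hS1c y hy, mul_zero]
  have ha2 : ∀ (x : G) (y : H), 2 ∣ orderOf x → ¬ 2 ∣ orderOf y →
      ∑ η ∈ cfin, (I η : G → ℂ) x * (η : H → ℂ) y = 0 := by
    intro x y hx hy
    have h1 : ∀ η ∈ cfin, (I η : G → ℂ) x * (η : H → ℂ) y =
        (I η : G → ℂ) x * (η₁ : H → ℂ) y := by
      intro η hη
      rw [hR1c η ((hmemc η).mp hη) η₁ hη₁ y hy]
    rw [Finset.sum_congr rfl h1, ← Finset.sum_mul,
      sum_bijOn_eq hI (fun χ : IrrCharacter G => (χ : G → ℂ) x), hS1B x hx, zero_mul]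
  intro x y
  rw [hμ]
  by_cases hx : 2 ∣ orderOf x <;> by_cases hy : 2 ∣ orderOf y
  · -- both singular
    obtain ⟨κ, _, A, δ, hδ, hval, hAint, hAdiv, hδ0⟩ := hsecB x hx
    obtain ⟨κ', _, A', δ', hδ', hval', hAint', hAdiv', hδ0'⟩ := hsecc y hy
    have hexp : ∑ η ∈ cfin, (I η : G → ℂ) x * (η : H → ℂ) y =
        ∑ η ∈ cfin, (∑ k, ((δ k (I η) : ℤ) : ℂ) * A k) * (∑ k', ((δ' k' η : ℤ) : ℂ) * A' k') := by
      apply Finset.sum_congr rfl
      intro η hη
      rw [hval (I η) (hI.1 ((hmemc η).mp hη)), hval' η ((hmemc η).mp hη)]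
    have hz : ∀ k, ∑ η ∈ cfin, δ k (I η) = 0 := by
      intro k
      rw [sum_bijOn_eq hI (fun χ : IrrCharacter G => δ k χ)]
      exact hδ0 k
    refine ⟨?_, ?_, Or.inl ?_⟩
    · rw [hexp]
      exact memLocalRing_sum_mul_div cfin hc4 (fun k η => δ k (I η)) δ'
        (fun k η => hδ k (I η)) hδ' hz hδ0' A A' _ hAdiv
        (fun k' => memLocalRing_of_isIntegral hMp.ne_top (hAint' k'))
    · have hexp' : ∑ η ∈ cfin, (I η : G → ℂ) x * (η : H → ℂ) y =
          ∑ η ∈ cfin, (∑ k', ((δ' k' η : ℤ) : ℂ) * A' k') *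
            (∑ k, ((δ k (I η) : ℤ) : ℂ) * A k) := by
        rw [hexp]
        apply Finset.sum_congr rfl
        intro η _
        ring
      rw [hexp']
      exact memLocalRing_sum_mul_div cfin hc4 δ' (fun k η => δ k (I η))
        hδ' (fun k η => hδ k (I η)) hδ0' hz A' A _ hAdiv'
        (fun k => memLocalRing_of_isIntegral hMp.ne_top (hAint k))
    · unfold IsPRegular
      exact ⟨fun h => absurd hx h, fun h => absurd hy h⟩
  · rw [ha2 x y hx hy, zero_div, zero_div]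
    exact ⟨memLocalRing_zero hMp.ne_top, memLocalRing_zero hMp.ne_top, Or.inr rfl⟩
  · rw [ha1 x y hx hy, zero_div, zero_div]
    exact ⟨memLocalRing_zero hMp.ne_top, memLocalRing_zero hMp.ne_top, Or.inr rfl⟩
  · have hrr := perfect_regular_regular hM cfin I (fun _ => 1) x y hx hy
      (by
        intro g hg
        rw [← ha2 g y hg hy]
        apply Finset.sum_congr rfl
        intro η _
        simp)
      (by
        intro h hh
        rw [← ha1 x h hx hh]
        apply Finset.sum_congr rfl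
        intro η _
        simp)
    have hs : ∑ η ∈ cfin, (((fun _ : IrrCharacter H => (1 : ℤ)) η : ℤ) : ℂ) *
        (I η : G → ℂ) x * (η : H → ℂ) y = ∑ η ∈ cfin, (I η : G → ℂ) x * (η : H → ℂ) y := by
      apply Finset.sum_congr rfl
      intro η _
      simp
    rw [hs] at hrr
    refine ⟨hrr.1, hrr.2, Or.inl ?_⟩
    unfold IsPRegular
    exact ⟨fun _ => hy, fun _ => hx⟩

open scoped Classical in
/-- **The rank three case.** -/
theorem isPerfectIsometry_rank_three (hM : IsPModular 2 M) {B : Set (IrrCharacter G)}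
    {c : Set (IrrCharacter H)}
    (hc4 : (Finset.univ.filter (fun η : IrrCharacter H => η ∈ c)).card = 4)
    (hGB : RankThreeData M B) (hHc : RankThreeData M c)
    {I : IrrCharacter H → IrrCharacter G} (hI : Set.BijOn I c B) :
    ∃ ε : IrrCharacter H → ℤ, IsPerfectIsometry 2 M c B I ε := by
  haveI : Fact (Nat.Prime 2) := ⟨Nat.prime_two⟩
  haveI hMp := isPModular_isPrime hM
  obtain ⟨hdivB, δG, hδG, hR3B, hS3B⟩ := hGB
  obtain ⟨hdivc, δH, hδH, hR3c, hS3c⟩ := hHc
  set cfin := Finset.univ.filter (fun η : IrrCharacter H => η ∈ c) with hcfin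
  have hmemc : ∀ η, η ∈ cfin ↔ η ∈ c := by intro η; simp [hcfin]
  have hne : cfin.Nonempty := by
    rw [← Finset.card_pos, hc4]; norm_num
  obtain ⟨η₁, hη₁'⟩ := hne
  have hη₁ : η₁ ∈ c := (hmemc η₁).mp hη₁'
  have hsqG : ∀ χ, (δG χ : ℂ) * (δG χ : ℂ) = 1 := by
    intro χ
    rcases hδG χ with h | h <;> rw [h] <;> norm_num
  have hsqH : ∀ η, (δH η : ℂ) * (δH η : ℂ) = 1 := by
    intro η
    rcases hδH η with h | h <;> rw [h] <;> norm_num
  refine ⟨fun η => δG (I η) * δH η, hI, ?_, ?_⟩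
  · intro η _
    rcases hδG (I η) with h | h <;> rcases hδH η with h' | h' <;> simp [h, h']
  have hμ : ∀ (x : G) (y : H), signedBijectionKernel c I (fun η => δG (I η) * δH η) x y =
      ∑ η ∈ cfin, ((δG (I η) : ℂ) * (δH η : ℂ)) * (I η : G → ℂ) x * (η : H → ℂ) y := by
    intro x y
    rw [signedBijectionKernel_eq_sum]
    apply Finset.sum_congr rfl
    intro η _
    push_cast
    rfl
  have ha1 : ∀ (x : G) (y : H), ¬ 2 ∣ orderOf x → 2 ∣ orderOf y →
      ∑ η ∈ cfin, ((δG (I η) : ℂ) * (δH η : ℂ)) * (I η : G → ℂ) x * (η : H → ℂ) y = 0 := by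
    intro x y hx hy
    have h1 : ∀ η ∈ cfin, ((δG (I η) : ℂ) * (δH η : ℂ)) * (I η : G → ℂ) x * (η : H → ℂ) y =
        ((δG (I η) : ℂ) * (I η : G → ℂ) x) * ((δH η₁ : ℂ) * (η₁ : H → ℂ) y) := by
      intro η hη
      rw [hS3c η ((hmemc η).mp hη) η₁ hη₁ y hy]
      have := hsqH η
      linear_combination ((δG (I η) : ℂ) * (I η : G → ℂ) x * (δH η₁ : ℂ) * (η₁ : H → ℂ) y) * this
    rw [Finset.sum_congr rfl h1, ← Finset.sum_mul,
      sum_bijOn_eq hI (fun χ : IrrCharacter G => (δG χ : ℂ) * (χ : G → ℂ) x), hR3B x hx,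
      zero_mul]
  have ha2 : ∀ (x : G) (y : H), 2 ∣ orderOf x → ¬ 2 ∣ orderOf y →
      ∑ η ∈ cfin, ((δG (I η) : ℂ) * (δH η : ℂ)) * (I η : G → ℂ) x * (η : H → ℂ) y = 0 := by
    intro x y hx hy
    have h1 : ∀ η ∈ cfin, ((δG (I η) : ℂ) * (δH η : ℂ)) * (I η : G → ℂ) x * (η : H → ℂ) y =
        ((δG (I η₁) : ℂ) * (I η₁ : G → ℂ) x) * ((δH η : ℂ) * (η : H → ℂ) y) := by
      intro η hη
      rw [hS3B (I η) (hI.1 ((hmemc η).mp hη)) (I η₁) (hI.1 hη₁) x hx]
      have := hsqG (I η)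
      linear_combination ((δH η : ℂ) * (η : H → ℂ) y * (δG (I η₁) : ℂ) * (I η₁ : G → ℂ) x) * this
    rw [Finset.sum_congr rfl h1, ← Finset.mul_sum, hR3c y hy, mul_zero]
  intro x y
  rw [hμ]
  by_cases hx : 2 ∣ orderOf x <;> by_cases hy : 2 ∣ orderOf y
  · -- both singular
    have h1 : ∀ η ∈ cfin, ((δG (I η) : ℂ) * (δH η : ℂ)) * (I η : G → ℂ) x * (η : H → ℂ) y =
        ((δG (I η₁) : ℂ) * (δH η₁ : ℂ)) * (I η₁ : G → ℂ) x * (η₁ : H → ℂ) y := by
      intro η hη
      rw [hS3B (I η) (hI.1 ((hmemc η).mp hη)) (I η₁) (hI.1 hη₁) x hx,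
        hS3c η ((hmemc η).mp hη) η₁ hη₁ y hy]
      have h2 := hsqG (I η)
      have h3 := hsqH η
      linear_combination ((δG (I η₁) : ℂ) * (I η₁ : G → ℂ) x * (δH η₁ : ℂ) * (η₁ : H → ℂ) y *
        (δH η : ℂ) * (δH η : ℂ)) * h2 +
        ((δG (I η₁) : ℂ) * (I η₁ : G → ℂ) x * (δH η₁ : ℂ) * (η₁ : H → ℂ) y) * h3
    rw [Finset.sum_congr rfl h1, Finset.sum_const, hc4]
    have hu : MemLocalRing M ((δG (I η₁) : ℂ) * (δH η₁ : ℂ)) :=
      memLocalRing_mul (memLocalRing_intCast hMp.ne_top _) (memLocalRing_intCast hMp.ne_top _)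
    have hiG : MemLocalRing M ((I η₁ : G → ℂ) x) :=
      memLocalRing_of_isIntegral hMp.ne_top (isIntegral_irr _ _)
    have hiH : MemLocalRing M ((η₁ : H → ℂ) y) :=
      memLocalRing_of_isIntegral hMp.ne_top (isIntegral_irr _ _)
    refine ⟨?_, ?_, Or.inl ?_⟩
    · have := memLocalRing_mul (memLocalRing_mul hu (hdivB (I η₁) (hI.1 hη₁) x)) hiH
      convert this using 1
      simp only [nsmul_eq_mul]
      push_cast
      ring
    · have := memLocalRing_mul (memLocalRing_mul hu (hdivc η₁ hη₁ y)) hiG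
      convert this using 1
      simp only [nsmul_eq_mul]
      push_cast
      ring
    · unfold IsPRegular
      exact ⟨fun h => absurd hx h, fun h => absurd hy h⟩
  · rw [ha2 x y hx hy, zero_div, zero_div]
    exact ⟨memLocalRing_zero hMp.ne_top, memLocalRing_zero hMp.ne_top, Or.inr rfl⟩
  · rw [ha1 x y hx hy, zero_div, zero_div]
    exact ⟨memLocalRing_zero hMp.ne_top, memLocalRing_zero hMp.ne_top, Or.inr rfl⟩
  · have hrr := perfect_regular_regular hM cfin I (fun η => δG (I η) * δH η) x y hx hy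
      (by
        intro g hg
        rw [← ha2 g y hg hy]
        apply Finset.sum_congr rfl
        intro η _
        push_cast
        rfl)
      (by
        intro h hh
        rw [← ha1 x h hx hh]
        apply Finset.sum_congr rfl
        intro η _
        push_cast
        rfl)
    have hs : ∑ η ∈ cfin, (((fun η : IrrCharacter H => δG (I η) * δH η) η : ℤ) : ℂ) *
        (I η : G → ℂ) x * (η : H → ℂ) y =
        ∑ η ∈ cfin, ((δG (I η) : ℂ) * (δH η : ℂ)) * (I η : G → ℂ) x * (η : H → ℂ) y := by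
      apply Finset.sum_congr rfl
      intro η _
      push_cast
      rfl
    rw [hs] at hrr
    refine ⟨hrr.1, hrr.2, Or.inl ?_⟩
    unfold IsPRegular
    exact ⟨fun _ => hy, fun _ => hx⟩

end Cases

end Cfsg.Agent.Lib.Helper82
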