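import Cfsg.Agent.S0973
import Cfsg.Agent.Lib.Helper82.CentralProductBlock
import Cfsg.Agent.Lib.Helper79.Integrality
import Cfsg.Agent.Lib.Helper16.NormalDefect

/-!
# Characters vanishing on the elements of order `p` have defect zero (helper82)

If `χ ∈ Irr(G)` vanishes on every element of order `p`, then the defect groups of the block of
`χ` are trivial.  The proof takes a root `b` of the block `B` of `χ` in `D C_G(D)`; the Brauer
central character of the member of `b` trivial on `D` at an element `g` of order `p` counts the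
conjugates of `g` in `Z(D)`, and it is congruent to the central character of `χ` at `g`, which is
zero.  Hence `p` divides the number of elements of order `p` in `Z(D)`, which forces `D = 1`.
-/

set_option autoImplicit false
set_option linter.unusedSectionVars false
set_option linter.style.haveILetI false

namespace Cfsg.Agent.Lib.Helper82

open Cfsg Cfsg.Agent.Lib.Helper16

universe u

section Count

variable {G : Type u} [Group G] [Fintype G]

theorem orderOf_eq_of_isConj {g x : G} (h : IsConj g x) : orderOf x = orderOf g := by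
  obtain ⟨c, rfl⟩ := isConj_iff.mp h
  have := (MulAut.conj c).orderOf_eq g
  rwa [MulAut.conj_apply] at this

open scoped Classical in
/-- In a nontrivial `p`-subgroup `D`, the number of elements of order `p` of `D ∩ C_G(D)` is
congruent to `-1` modulo `p`. -/
theorem dvd_card_orderP_center_add_one {p : ℕ} [hp : Fact p.Prime] (D : Subgroup G)
    (hD : IsPGroup p D) (hne : D ≠ ⊥) :
    p ∣ (Finset.univ.filter (fun x : G => x ∈ D ∧ x ∈ Subgroup.centralizer (D : Set G) ∧
      orderOf x = p)).card + 1 := by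
  -- the subgroup of elements of `Z(D)` killed by `p`
  let K : Subgroup G :=
    { carrier := {x | x ∈ D ∧ x ∈ Subgroup.centralizer (D : Set G) ∧ x ^ p = 1}
      mul_mem' := by
        rintro x y ⟨hx1, hx2, hx3⟩ ⟨hy1, hy2, hy3⟩
        refine ⟨D.mul_mem hx1 hy1, Subgroup.mul_mem _ hx2 hy2, ?_⟩
        have hc : Commute x y := (Subgroup.mem_centralizer_iff.mp hx2 y hy1).symm
        rw [hc.mul_pow, hx3, hy3, one_mul]
      one_mem' := ⟨D.one_mem, Subgroup.one_mem _, one_pow _⟩
      inv_mem' := by
        rintro x ⟨hx1, hx2, hx3⟩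
        exact ⟨D.inv_mem hx1, Subgroup.inv_mem _ hx2, by rw [inv_pow, hx3, inv_one]⟩ }
  have hKD : K ≤ D := fun x hx => hx.1
  have hKp : IsPGroup p K := hD.to_le hKD
  -- `K` is nontrivial
  haveI : Nontrivial D := (Subgroup.nontrivial_iff_ne_bot D).mpr hne
  haveI : Finite D := inferInstance
  have hDp' : IsPGroup p (↥D) := hD
  haveI hZn : Nontrivial (Subgroup.center ↥D) := hDp'.center_nontrivial
  have hZp : IsPGroup p (Subgroup.center ↥D) := hDp'.to_subgroup _
  obtain ⟨n, hn0, hn⟩ := hZp.nontrivial_iff_card.mp hZn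
  have hdvd : p ∣ Nat.card (Subgroup.center ↥D) := by
    rw [hn]
    exact dvd_pow_self p hn0.ne'
  obtain ⟨w, hw⟩ := exists_prime_orderOf_dvd_card' p hdvd
  have hwK : ((w : ↥D) : G) ∈ K := by
    refine ⟨(w : ↥D).2, ?_, ?_⟩
    · rw [Subgroup.mem_centralizer_iff]
      intro d hd
      have h1 := Subgroup.mem_center_iff.mp w.2 ⟨d, hd⟩
      exact congrArg (Subtype.val : ↥D → G) h1
    · have h1 : w ^ p = 1 := by rw [← hw]; exact pow_orderOf_eq_one w
      have h2 := congrArg (fun z : Subgroup.center ↥D => ((z : ↥D) : G)) h1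
      simpa using h2
  have hw1 : ((w : ↥D) : G) ≠ 1 := by
    intro h
    have h1 : w = 1 := by
      apply Subtype.ext
      apply Subtype.ext
      simpa using h
    rw [h1, orderOf_one] at hw
    exact hp.out.one_lt.ne hw
  haveI : Nontrivial K := ⟨⟨⟨_, hwK⟩, 1, fun h => hw1 (congrArg (Subtype.val : ↥K → G) h)⟩⟩
  obtain ⟨m, hm0, hm⟩ := hKp.nontrivial_iff_card.mp inferInstance
  -- count
  have hcardK : Nat.card K = (Finset.univ.filter (fun x : G => x ∈ K)).card := by
    rw [Nat.card_eq_fintype_card, Fintype.card_subtype]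
  have hΩ : Finset.univ.filter (fun x : G => x ∈ D ∧ x ∈ Subgroup.centralizer (D : Set G) ∧
      orderOf x = p) = (Finset.univ.filter (fun x : G => x ∈ K)).erase 1 := by
    ext x
    simp only [Finset.mem_filter, Finset.mem_univ, true_and, Finset.mem_erase]
    rw [orderOf_eq_prime_iff]
    constructor
    · rintro ⟨h1, h2, h3, h4⟩
      exact ⟨h4, h1, h2, h3⟩
    · rintro ⟨h4, h1, h2, h3⟩
      exact ⟨h1, h2, h3, h4⟩
  rw [hΩ, Finset.card_erase_of_mem (by simp [K.one_mem]), ← hcardK, hm]
  have : 1 ≤ p ^ m := Nat.one_le_pow _ _ hp.out.pos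
  rw [Nat.sub_add_cancel this]
  exact dvd_pow_self p hm0.ne'

end Count

section Block

variable {G : Type u} [Group G] [Fintype G] {p : ℕ} [hp : Fact p.Prime] {M : Ideal AlgInt}

open scoped Classical in
/-- For a block `b` of `H ≥ D` with normal defect group `D` and `ξ ∈ b` trivial on `D`, the Brauer
central character of `ξ` at an element `g` of order `p` counts the conjugates of `g` lying in
`D ∩ C_G(D)`. -/
theorem brauerCentralChar_eq_card_of_orderOf (hM : IsPModular p M) (D H : Subgroup G) [Fintype H]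
    (hDH : D ≤ H) [hn : (D.subgroupOf H).Normal] {b : Set (IrrCharacter H)} (hb : IsPBlock M b)
    (hbD : IsDefectGroup p M b (D.subgroupOf H)) {ξ : IrrCharacter H} (hξ : ξ ∈ b)
    (hξD : ∀ q ∈ D.subgroupOf H, (ξ : H → ℂ) q = (ξ : H → ℂ) 1) {g : G} (hg : orderOf g = p) :
    brauerCentralChar D H (ξ : H → ℂ) g =
      (((Finset.univ.filter (fun x : G => x ∈ D ∧ x ∈ Subgroup.centralizer (D : Set G) ∧
        orderOf x = p)).filter (fun x => IsConj g x)).card : ℂ) := by
  unfold brauerCentralChar
  rw [finsum_mem_eq_sum_of_subset (t := Finset.univ.filter (fun h : H => IsConj g (h : G) ∧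
      (h : G) ∈ Subgroup.centralizer (D : Set G)))
      _ (by intro x hx; simpa using hx.1) (by intro x hx; simpa using hx)]
  have h1 : (ξ : H → ℂ) 1 ≠ 0 := Cfsg.Agent.Lib.Helper79.irr_apply_one_ne_zero ξ
  have hterm : ∀ h ∈ Finset.univ.filter (fun h : H => IsConj g (h : G) ∧
      (h : G) ∈ Subgroup.centralizer (D : Set G)),
      (ξ : H → ℂ) h / (ξ : H → ℂ) 1 = if (h : G) ∈ D then 1 else 0 := by
    intro h hh
    rw [Finset.mem_filter] at hh
    by_cases hD : (h : G) ∈ D
    · rw [if_pos hD, hξD h (Subgroup.mem_subgroupOf.mpr hD), div_self h1]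
    · rw [if_neg hD]
      have hord : orderOf h = p := by
        rw [← Subgroup.orderOf_coe, orderOf_eq_of_isConj hh.2.1, hg]
      have hpp : IsPPart p h h :=
        ⟨1, mul_one h, Commute.one_right h, ⟨1, by rw [hord, pow_one]⟩, by
          rw [orderOf_one]; exact hp.out.one_lt.ne' ∘ Nat.dvd_one.mp⟩
      rw [vanish_of_defectGroup_normal hM hb hbD hξ hpp
        (fun hc => hD (Subgroup.mem_subgroupOf.mp hc)), zero_div]
  rw [Finset.sum_congr rfl hterm, Finset.sum_boole]
  congr 1
  apply Finset.card_bij (fun (h : H) _ => (h : G))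
  · intro h hh
    simp only [Finset.mem_filter, Finset.mem_univ, true_and] at hh ⊢
    exact ⟨⟨hh.2, hh.1.2, by rw [orderOf_eq_of_isConj hh.1.1, hg]⟩, hh.1.1⟩
  · intro h₁ _ h₂ _ h
    exact Subtype.ext h
  · intro x hx
    simp only [Finset.mem_filter, Finset.mem_univ, true_and] at hx
    refine ⟨⟨x, hDH hx.1.1⟩, ?_, rfl⟩
    simp only [Finset.mem_filter, Finset.mem_univ, true_and]
    exact ⟨⟨hx.2, hx.1.2.1⟩, hx.1.1⟩

/-- If `χ ∈ B` vanishes on every element of order `p`, the defect groups of `B` are trivial. -/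
theorem defectGroup_eq_bot_of_vanish (hM : IsPModular p M) (χ : IrrCharacter G)
    (hvan : ∀ g : G, orderOf g = p → (χ : G → ℂ) g = 0)
    {B : Set (IrrCharacter G)} (hB : IsPBlock M B) (hχ : χ ∈ B) (D : Subgroup G)
    (hD : IsDefectGroup p M B D) : D = ⊥ := by
  classical
  by_contra hne
  have hMp := isPModular_isPrime hM
  have hDp : IsPGroup p D := isPGroup_of_isDefectGroup hD
  obtain ⟨⟨b, hbD, hind⟩, _⟩ := Cfsg.Agent.S0973.result p M hM B hB D hD
  have hDH : D ≤ D ⊔ Subgroup.centralizer (D : Set G) := le_sup_left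
  have hCH : Subgroup.centralizer (D : Set G) ≤ D ⊔ Subgroup.centralizer (D : Set G) :=
    le_sup_right
  have hHN : D ⊔ Subgroup.centralizer (D : Set G) ≤ Subgroup.normalizer (D : Set G) :=
    sup_le Subgroup.le_normalizer (Subgroup.centralizer_le_normalizer _)
  haveI : Fintype ↥(D ⊔ Subgroup.centralizer (D : Set G)) := Fintype.ofFinite _
  haveI hn : (D.subgroupOf (D ⊔ Subgroup.centralizer (D : Set G))).Normal :=
    Subgroup.normal_subgroupOf_of_le_normalizer hHN
  haveI : Fintype ↥(D.subgroupOf (D ⊔ Subgroup.centralizer (D : Set G))) := Fintype.ofFinite _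
  obtain ⟨ξ, hξb, hξD⟩ := exists_mem_block_trivial_on_normal_pGroup hM
    (D.subgroupOf (D ⊔ Subgroup.centralizer (D : Set G))) hDp.comap_subtype hind.1
  have h918 := (Cfsg.Agent.S0918.result p M hM D (D ⊔ Subgroup.centralizer (D : Set G)) hDp hDH
    hCH hHN b hind.1 B hB).mp hind ξ hξb χ hχ
  -- each conjugacy class of elements of order `p` meets `Z(D)` in a multiple of `p` elements
  have hdvd : ∀ g : G, orderOf g = p →
      p ∣ ((Finset.univ.filter (fun x : G => x ∈ D ∧ x ∈ Subgroup.centralizer (D : Set G) ∧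
        orderOf x = p)).filter (fun x => IsConj g x)).card := by
    intro g hg
    have h1 := h918 g
    rw [brauerCentralChar_eq_card_of_orderOf hM D _ hDH hind.1 hbD hξb hξD hg] at h1
    have h2 : centralChar (χ : G → ℂ) g = 0 := by
      unfold centralChar
      rw [hvan g hg, mul_zero, zero_div]
    rw [h2, sub_zero] at h1
    exact (memLocalIdeal_natCast_iff hM _).mp h1
  have hsum : p ∣ (Finset.univ.filter (fun x : G => x ∈ D ∧
      x ∈ Subgroup.centralizer (D : Set G) ∧ orderOf x = p)).card := by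
    rw [Finset.card_eq_sum_card_fiberwise (f := fun x : G => ConjClasses.mk x)
      (t := (Finset.univ.filter (fun x : G => x ∈ D ∧
        x ∈ Subgroup.centralizer (D : Set G) ∧ orderOf x = p)).image
        (fun x : G => ConjClasses.mk x)) (fun x hx => Finset.mem_image_of_mem _ hx)]
    apply Finset.dvd_sum
    intro c hc
    obtain ⟨g, hg, rfl⟩ := Finset.mem_image.mp hc
    have hgp : orderOf g = p := (Finset.mem_filter.mp hg).2.2.2
    have := hdvd g hgp
    have heq : ∀ x : G, ((fun x : G => ConjClasses.mk x) x = ConjClasses.mk g) ↔ IsConj g x := by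
      intro x
      simp only [ConjClasses.mk_eq_mk_iff_isConj]
      exact isConj_comm
    rw [Finset.filter_congr (fun x _ => heq x)]
    exact this
  have h1 := dvd_card_orderP_center_add_one D hDp hne
  have h2 : p ∣ 1 := (Nat.dvd_add_right hsum).mp h1
  exact hp.out.one_lt.ne' (Nat.dvd_one.mp h2)

end Block

end Cfsg.Agent.Lib.Helper82
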