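import Mathlib
import Cfsg.Agent.Lib.Helper82.IsoGram
import Cfsg.Agent.Lib.Helper82.VanishOrderP
import Cfsg.Agent.Lib.Helper82.KleinLocal
import Cfsg.Agent.Lib.Helper74.BlockRankSing
import Cfsg.Agent.Lib.Helper78.WBOCor
import Cfsg.Agent.S4675
import Cfsg.Agent.S0969

/-!
# The two kinds of Klein four blocks

A `2`-block `B` with four characters and a defect group of order four has rank one or three.
In the first case its members agree on the `2`-regular elements and add up to zero on the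
`2`-singular elements; in the second case there are signs `δ` with `∑ δ_χ χ = 0` on the
`2`-regular elements and `δ_χ χ` independent of `χ` on the `2`-singular elements.
-/

set_option autoImplicit false
set_option linter.unusedSectionVars false
set_option linter.style.haveILetI false

namespace Cfsg.Agent.Lib.Helper82

open Cfsg Finset Cfsg.Agent.Lib.Helper16 Cfsg.Agent.Lib.Helper78 Cfsg.Agent.Lib.Helper79
open scoped ComplexConjugate

universe u

section Rank

variable {G : Type u} [Group G] [Fintype G] {M : Ideal AlgInt}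

open scoped Classical in
/-- **Rank one.** -/
theorem rank_one_structure (hM : IsPModular 2 M) {B : Set (IrrCharacter G)} (hB : IsPBlock M B)
    {P : Subgroup G} (hPD : IsDefectGroup 2 M B P) (hP4 : Nat.card P = 4)
    (hB4 : (Finset.univ.filter (fun χ : IrrCharacter G => χ ∈ B)).card = 4)
    (hl : blockRank 2 B = 1) :
    (∀ χ ∈ B, ∀ ψ ∈ B, ∀ x : G, ¬ 2 ∣ orderOf x → (χ : G → ℂ) x = (ψ : G → ℂ) x) ∧
    (∀ y : G, 2 ∣ orderOf y →
      ∑ χ ∈ Finset.univ.filter (fun χ : IrrCharacter G => χ ∈ B), (χ : G → ℂ) y = 0) := by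
  haveI : Fact (Nat.Prime 2) := ⟨Nat.prime_two⟩
  haveI hMp := isPModular_isPrime hM
  set S := Finset.univ.filter (fun χ : IrrCharacter G => χ ∈ B) with hS
  have hmemS : ∀ χ, χ ∈ S ↔ χ ∈ B := by intro χ; simp [hS]
  obtain ⟨φ, d, _, hd, hsum⟩ := Cfsg.Agent.S4675.result 2 M hM B hB P hPD hl
  have hreg1 : ¬ 2 ∣ orderOf (1 : G) := by rw [orderOf_one]; norm_num
  have hsum' : ∑ χ ∈ S, d χ ^ 2 = 4 := by
    rw [← hP4, ← hsum]
    rw [finsum_mem_eq_sum_of_subset (t := S)
      _ (by intro ψ hψ; simpa [hS] using hψ.1) (by intro ψ hψ; simpa [hS] using hψ)]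
  have hdpos : ∀ χ ∈ S, 1 ≤ d χ ^ 2 := by
    intro χ hχ
    have h1 := hd χ ((hmemS χ).mp hχ) 1 hreg1
    have h2 : (χ : G → ℂ) 1 ≠ 0 := IsIrrCharacter.apply_one_ne_zero χ.2
    have h3 : d χ ≠ 0 := by
      intro h0
      rw [h0] at h1
      simp at h1
      exact h2 h1
    have : 1 ≤ d χ := Nat.one_le_iff_ne_zero.mpr h3
    nlinarith
  have hd1 : ∀ χ ∈ S, d χ = 1 := by
    have h0 : ∑ χ ∈ S, (d χ ^ 2 - 1) = 0 := by
      have h1 : ∑ χ ∈ S, (d χ ^ 2 - 1) + ∑ χ ∈ S, 1 = ∑ χ ∈ S, d χ ^ 2 := by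
        rw [← Finset.sum_add_distrib]
        apply Finset.sum_congr rfl
        intro χ hχ
        have := hdpos χ hχ
        omega
      rw [hsum'] at h1
      simp only [Finset.sum_const, smul_eq_mul, mul_one, hB4] at h1
      omega
    have h1 := Finset.sum_eq_zero_iff.mp h0
    intro χ hχ
    have h2 := h1 χ hχ
    have h3 := hdpos χ hχ
    have h4 : d χ ^ 2 = 1 := by omega
    exact (Nat.pow_eq_one.mp h4).resolve_right (by norm_num)
  have hR1 : ∀ χ ∈ B, ∀ x : G, ¬ 2 ∣ orderOf x → (χ : G → ℂ) x = φ x := by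
    intro χ hχ x hx
    have := hd χ hχ x hx
    rw [hd1 χ ((hmemS χ).mpr hχ)] at this
    simpa using this
  refine ⟨fun χ hχ ψ hψ x hx => (hR1 χ hχ x hx).trans (hR1 ψ hψ x hx).symm, ?_⟩
  intro y hy
  have h1 := weak_block_orthogonality_sum hM hB 1 y hreg1 hy
  obtain ⟨χ₁, hχ₁⟩ := IsPBlock_nonempty hMp.ne_top hB
  have hφ1 : φ 1 ≠ 0 := by
    rw [← hR1 χ₁ hχ₁ 1 hreg1]
    exact IsIrrCharacter.apply_one_ne_zero χ₁.2
  have h2 : (∑ χ ∈ S, (χ : G → ℂ) y) * conj (φ 1) = 0 := by
    rw [Finset.sum_mul, ← h1]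
    apply Finset.sum_congr rfl
    intro χ hχ
    rw [hR1 χ ((hmemS χ).mp hχ) 1 hreg1]
  rcases mul_eq_zero.mp h2 with h | h
  · exact h
  · exfalso
    exact hφ1 ((map_eq_zero _).mp h)

/-- Height zero characters in a block of defect two. -/
theorem two_add_factorization_eq (hM : IsPModular 2 M) {B : Set (IrrCharacter G)}
    (hdB : blockDefect 2 B = 2) {χ : IrrCharacter G} (hχ : χ ∈ B)
    (hh : blockHeight 2 B (χ : G → ℂ) = 0) :
    2 + (charDegree (χ : G → ℂ)).factorization 2 = (Nat.card G).factorization 2 := by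
  unfold blockDefect at hdB
  unfold blockHeight at hh
  have h1 : sInf ((fun χ : IrrCharacter G => (charDegree (χ : G → ℂ)).factorization 2) '' B) ≤
      (charDegree (χ : G → ℂ)).factorization 2 := Nat.sInf_le ⟨χ, hχ, rfl⟩
  omega

open scoped Classical in
/-- **Rank three.** -/
theorem rank_three_structure (hM : IsPModular 2 M) {B : Set (IrrCharacter G)} (hB : IsPBlock M B)
    {P : Subgroup G} (hPD : IsDefectGroup 2 M B P) (hP4 : Nat.card P = 4)
    (hB4 : (Finset.univ.filter (fun χ : IrrCharacter G => χ ∈ B)).card = 4)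
    (hl : blockRank 2 B = 3) :
    ∃ δ : IrrCharacter G → ℤ, (∀ χ, δ χ = 1 ∨ δ χ = -1) ∧
      (∀ x : G, ¬ 2 ∣ orderOf x →
        ∑ χ ∈ Finset.univ.filter (fun χ : IrrCharacter G => χ ∈ B),
          (δ χ : ℂ) * (χ : G → ℂ) x = 0) ∧
      (∀ χ ∈ B, ∀ ψ ∈ B, ∀ y : G, 2 ∣ orderOf y →
        (χ : G → ℂ) y = (δ χ : ℂ) * (δ ψ : ℂ) * (ψ : G → ℂ) y) := by
  haveI : Fact (Nat.Prime 2) := ⟨Nat.prime_two⟩
  haveI hMp := isPModular_isPrime hM
  have hdB : blockDefect 2 B = 2 := blockDefect_eq_two_of_card_four hM hB hPD hP4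
  have hh : ∀ χ ∈ B, blockHeight 2 B (χ : G → ℂ) = 0 := by
    intro χ hχ
    by_contra hne
    have := blockHeight_add_two_le hM hB hχ hne
    omega
  set S := Finset.univ.filter (fun χ : IrrCharacter G => χ ∈ B) with hS
  have hmemS : ∀ χ, χ ∈ S ↔ χ ∈ B := by intro χ; simp [hS]
  set X := Finset.univ.filter (fun y : G => 2 ∣ orderOf y) with hX
  have hN0 : (Nat.card G : ℂ) ≠ 0 := by exact_mod_cast Nat.card_pos.ne'
  have hNF : (Fintype.card G : ℂ) = (Nat.card G : ℂ) := by rw [Nat.card_eq_fintype_card]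
  set E : IrrCharacter G → IrrCharacter G → ℂ := fun χ ψ =>
    (Nat.card G : ℂ)⁻¹ * ∑ y ∈ X, (χ : G → ℂ) y * conj ((ψ : G → ℂ) y) with hE
  -- the complement formula
  have hEc : ∀ χ ψ : IrrCharacter G, E χ ψ =
      (if (χ : G → ℂ) = (ψ : G → ℂ) then 1 else 0) -
        classInner (pRegularPart 2 (χ : G → ℂ)) (ψ : G → ℂ) := by
    intro χ ψ
    rw [← classInner_irr χ.2 ψ.2]
    unfold classInner
    rw [← mul_sub]
    show (Nat.card G : ℂ)⁻¹ * ∑ y ∈ X, (χ : G → ℂ) y * conj ((ψ : G → ℂ) y) = _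
    congr 1
    rw [hX, Finset.sum_filter, ← Finset.sum_sub_distrib]
    apply Finset.sum_congr rfl
    intro y _
    split_ifs with hy
    · rw [pRegularPart_apply_of_singular 2 _ hy, zero_mul, sub_zero]
    · rw [pRegularPart_apply_of_regular 2 _ hy, sub_self]
  -- existence of singular nonzeros
  have hnz : ∀ χ ∈ B, ∃ y : G, 2 ∣ orderOf y ∧ (χ : G → ℂ) y ≠ 0 := by
    intro χ hχ
    by_contra hcon
    push Not at hcon
    have hbot := defectGroup_eq_bot_of_vanish hM χ
      (fun g hg => hcon g (by rw [hg])) hB hχ P hPD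
    rw [hbot] at hP4
    simp at hP4
  have key := gram_sign S hB4 X (fun χ : IrrCharacter G => (χ : G → ℂ))
    ((Nat.card G : ℝ)⁻¹) (by
      have : (0 : ℝ) < Nat.card G := by exact_mod_cast Nat.card_pos
      positivity) E
    (by
      intro χ ψ
      rw [hE]
      push_cast
      rfl)
    (by
      intro χ hχ ψ _
      obtain ⟨z, hz⟩ := Cfsg.Agent.S0969.exists_int_inner 2 χ ψ 2
        (two_add_factorization_eq hM hdB ((hmemS χ).mp hχ) (hh χ ((hmemS χ).mp hχ)))
      rw [hEc]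
      by_cases h : (χ : G → ℂ) = (ψ : G → ℂ)
      · refine ⟨4 - z, ?_⟩
        rw [if_pos h]
        push_cast
        rw [← hz]
        ring
      · refine ⟨-z, ?_⟩
        rw [if_neg h]
        push_cast
        rw [← hz]
        ring)
    (by
      intro χ hχ
      obtain ⟨y, hy, hy0⟩ := hnz χ ((hmemS χ).mp hχ)
      rw [hE]
      simp only
      rw [gram_diag_eq]
      apply mul_ne_zero (inv_ne_zero hN0)
      have hpos : 0 < ∑ y ∈ X, Complex.normSq ((χ : G → ℂ) y) := by
        apply Finset.sum_pos'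
        · intro y _; exact Complex.normSq_nonneg _
        · exact ⟨y, Finset.mem_filter.mpr ⟨Finset.mem_univ _, hy⟩,
            Complex.normSq_pos.mpr hy0⟩
      exact_mod_cast hpos.ne')
    (by
      have h1 := Cfsg.Agent.Lib.Helper74.card_mul_blockRank_eq_sub hM hB
      rw [hl, hB4] at h1
      rw [hE]
      simp only
      rw [← Finset.mul_sum, Finset.sum_comm]
      rw [inv_mul_eq_iff_eq_mul₀ hN0, mul_one]
      have h2 : (Nat.card G : ℂ) * ((3 : ℕ) : ℂ) = (Nat.card G : ℂ) * ((4 : ℕ) : ℂ) -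
          ∑ x ∈ X, ∑ χ ∈ S, (χ : G → ℂ) x * conj ((χ : G → ℂ) x) := h1
      push_cast at h2
      linear_combination h2)
    (by
      intro χ hχ
      have hχB := (hmemS χ).mp hχ
      -- reproducing property on the singular elements
      have hrep : ∀ y' ∈ X, ∑ y ∈ X, blockKernel B y' y * (χ : G → ℂ) y =
          (Nat.card G : ℂ) * (χ : G → ℂ) y' := by
        intro y' hy'
        have hy'' := (Finset.mem_filter.mp hy').2
        have h1 := sum_blockKernel_mul_irr B χ y'
        rw [if_pos hχB, hNF] at h1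
        rw [← h1, hX, Finset.sum_filter]
        apply Finset.sum_congr rfl
        intro y _
        split_ifs with hy
        · rfl
        · rw [blockKernel_eq_zero_left hM hB hy hy'', zero_mul]
      have hexp : ∀ ψ ∈ S, E χ ψ * conj (E χ ψ) =
          (Nat.card G : ℂ)⁻¹ * (Nat.card G : ℂ)⁻¹ * ∑ y' ∈ X, ∑ y ∈ X,
            conj ((χ : G → ℂ) y') * (χ : G → ℂ) y *
              ((ψ : G → ℂ) y' * conj ((ψ : G → ℂ) y)) := by
        intro ψ _
        rw [hE]
        simp only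
        rw [map_mul, map_inv₀, Complex.conj_natCast, map_sum]
        have : ∀ a b c : ℂ, a * b * (a * c) = a * a * (c * b) := by intros; ring
        rw [this, Finset.sum_mul_sum]
        congr 1
        apply Finset.sum_congr rfl
        intro y' _
        apply Finset.sum_congr rfl
        intro y _
        rw [map_mul, Complex.conj_conj]
        ring
      rw [Finset.sum_congr rfl hexp, ← Finset.mul_sum, Finset.sum_comm]
      have h3 : ∀ y' ∈ X, ∑ ψ ∈ S, ∑ y ∈ X, conj ((χ : G → ℂ) y') * (χ : G → ℂ) y *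
          ((ψ : G → ℂ) y' * conj ((ψ : G → ℂ) y)) =
          conj ((χ : G → ℂ) y') * ((Nat.card G : ℂ) * (χ : G → ℂ) y') := by
        intro y' hy'
        rw [← hrep y' hy', Finset.sum_comm, Finset.mul_sum]
        apply Finset.sum_congr rfl
        intro y _
        unfold blockKernel
        rw [Finset.sum_mul, Finset.mul_sum]
        apply Finset.sum_congr rfl
        intro ψ _
        ring
      rw [Finset.sum_congr rfl h3, hE]
      simp only
      rw [Finset.mul_sum, Finset.mul_sum]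
      apply Finset.sum_congr rfl
      intro y' _
      field_simp)
  obtain ⟨χ₀, hχ₀⟩ := IsPBlock_nonempty hMp.ne_top hB
  have hχ₀S : χ₀ ∈ S := (hmemS χ₀).mpr hχ₀
  have hex : ∀ χ : IrrCharacter G, ∃ ε : ℤ, (ε = 1 ∨ ε = -1) ∧ (χ ∈ B → ∀ y ∈ X,
      (χ : G → ℂ) y = (ε : ℂ) * (χ₀ : G → ℂ) y) := by
    intro χ
    by_cases hχ : χ ∈ B
    · obtain ⟨ε, hε, h⟩ := key χ ((hmemS χ).mpr hχ) χ₀ hχ₀S
      exact ⟨ε, hε, fun _ => h⟩
    · exact ⟨1, Or.inl rfl, fun h => absurd h hχ⟩
  choose δ hδ1 hδ2 using hex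
  have hδsq : ∀ χ, (δ χ : ℂ) * (δ χ : ℂ) = 1 := by
    intro χ
    rcases hδ1 χ with h | h <;> rw [h] <;> norm_num
  refine ⟨δ, hδ1, ?_, ?_⟩
  · intro x hx
    obtain ⟨y, hy, hy0⟩ := hnz χ₀ hχ₀
    have hyX : y ∈ X := Finset.mem_filter.mpr ⟨Finset.mem_univ _, hy⟩
    have h1 := weak_block_orthogonality_sum hM hB x y hx hy
    have h2 : (χ₀ : G → ℂ) y * conj (∑ χ ∈ S, (δ χ : ℂ) * (χ : G → ℂ) x) = 0 := by
      rw [map_sum, Finset.mul_sum, ← h1]
      apply Finset.sum_congr rfl
      intro χ hχ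
      rw [hδ2 χ ((hmemS χ).mp hχ) y hyX, map_mul, map_intCast]
      ring
    rcases mul_eq_zero.mp h2 with h | h
    · exact absurd h hy0
    · exact (map_eq_zero _).mp h
  · intro χ hχ ψ hψ y hy
    have hyX : y ∈ X := Finset.mem_filter.mpr ⟨Finset.mem_univ _, hy⟩
    rw [hδ2 χ hχ y hyX, hδ2 ψ hψ y hyX]
    have := hδsq ψ
    linear_combination (-(δ χ : ℂ) * (χ₀ : G → ℂ) y) * this

end Rank

end Cfsg.Agent.Lib.Helper82
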