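import Mathlib
import Cfsg.Agent.Lib.Helper82.IsoLocal

/-!
# The structure of a Klein four block on the `2`-singular elements
-/

set_option autoImplicit false
set_option linter.unusedSectionVars false
set_option linter.style.haveILetI false

namespace Cfsg.Agent.Lib.Helper82

open Cfsg Finset Cfsg.Agent.Lib.Helper16 Cfsg.Agent.Lib.Helper78 Cfsg.Agent.Lib.Helper79
open scoped ComplexConjugate

universe u

section Singular

variable {G : Type u} [Group G] [Fintype G] {M : Ideal AlgInt}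

omit [Fintype G] in
theorem comm_of_exp_two {P : Subgroup G} (hexp : ∀ x ∈ P, x * x = 1) :
    ∀ x ∈ P, ∀ y ∈ P, x * y = y * x := by
  intro x hx y hy
  have h1 := hexp (x * y) (P.mul_mem hx hy)
  have h2 := hexp x hx
  have h3 := hexp y hy
  calc x * y = y * y * (x * y) * (x * x) := by rw [h2, h3]; group
    _ = y * (y * x * y * x) * x := by group
    _ = y * (y * (x * y * x * y) * y⁻¹) * x := by group
    _ = y * x := by
      have : x * y * x * y = 1 := by rw [← h1]; group
      rw [this]; group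

/-- Heights in a block of defect two are zero. -/
theorem height_zero_of_defect_two (hM : IsPModular 2 M) {B : Set (IrrCharacter G)}
    (hB : IsPBlock M B) (hdB : blockDefect 2 B = 2) :
    ∀ χ ∈ B, blockHeight 2 B (χ : G → ℂ) = 0 := by
  haveI : Fact (Nat.Prime 2) := ⟨Nat.prime_two⟩
  intro χ hχ
  by_contra hne
  have := blockHeight_add_two_le hM hB hχ hne
  omega

open scoped Classical in
/-- Local facts in the `centralizer {u}` form. -/
theorem local_facts_singleton (hM : IsPModular 2 M) {B : Set (IrrCharacter G)} {P : Subgroup G}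
    {c₀ : Set (IrrCharacter (Subgroup.centralizer (P : Set G)))}
    (hmax : IsMaximalBrauerPair 2 M B P c₀) (hP4 : Nat.card P = 4)
    (hexp : ∀ x ∈ P, x * x = 1)
    (u : G) (hu1 : u ≠ 1) (hu : ∃ k : ℕ, orderOf u = 2 ^ k)
    {b : Set (IrrCharacter (Subgroup.centralizer ({u} : Set G)))}
    (hb : IsInducedBlock M (Subgroup.centralizer ({u} : Set G)) b B) :
    blockDefect 2 b = 2 ∧ blockRank 2 b = 1 ∧ u * u = 1 := by
  haveI : Fact (Nat.Prime 2) := ⟨Nat.prime_two⟩
  have hPab := comm_of_exp_two hexp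
  have h1 := (isInducedBlock_iff_isBrauerPairOf hM u hu b).mp hb
  have h2 := local_block_facts hM hmax hP4 hPab u hu1 hu h1
  refine ⟨?_, ?_, ?_⟩
  · have := h2.1
    unfold toZ at this
    rwa [blockDefect_pullBlock] at this
  · rw [← blockRank_toZ 2 u b]
    exact h2.2
  · obtain ⟨x, hx⟩ := Cfsg.Agent.S4660.result 2 M hM B P (Subgroup.zpowers u) c₀ (toZ u b) hmax h1
    have hQP : (Subgroup.zpowers u).map (MulAut.conj x).toMonoidHom ≤ P :=
      Cfsg.Agent.S4655.le_le hx
    have h3 : x * u * x⁻¹ ∈ P := by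
      apply hQP
      exact Subgroup.mem_map.mpr ⟨u, Subgroup.mem_zpowers u, rfl⟩
    have h4 := hexp _ h3
    have h5 : x * (u * u) * x⁻¹ = 1 := by rw [← h4]; group
    have h6 : u * u = x⁻¹ * (x * (u * u) * x⁻¹) * x := by group
    rw [h6, h5]
    group

open scoped Classical in
/-- **The values on the singular elements.** -/
theorem exists_section_structure (hM : IsPModular 2 M) {B : Set (IrrCharacter G)} {P : Subgroup G}
    {c₀ : Set (IrrCharacter (Subgroup.centralizer (P : Set G)))}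
    (hmax : IsMaximalBrauerPair 2 M B P c₀) (hP4 : Nat.card P = 4)
    (hexp : ∀ x ∈ P, x * x = 1)
    (hB4 : (Finset.univ.filter (fun χ : IrrCharacter G => χ ∈ B)).card = 4)
    {χ₀ : IrrCharacter G} (hχ₀ : χ₀ ∈ B) (x : G) (hx : 2 ∣ orderOf x) :
    ∃ (κ : Type u) (_ : Fintype κ) (A : κ → ℂ) (δ : κ → IrrCharacter G → ℤ),
      (∀ k χ, δ k χ = 1 ∨ δ k χ = -1) ∧
      (∀ χ ∈ B, (χ : G → ℂ) x = ∑ k, (δ k χ : ℂ) * A k) ∧
      (∀ k, IsIntegral ℤ (A k)) ∧
      (∀ k, MemLocalRing M (4 * A k /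
        (Nat.card (Subgroup.centralizer ({x} : Set G)) : ℂ))) ∧
      ((∀ y : G, 2 ∣ orderOf y →
        ∑ χ ∈ Finset.univ.filter (fun χ : IrrCharacter G => χ ∈ B), (χ : G → ℂ) y = 0) →
        ∀ k, ∑ χ ∈ Finset.univ.filter (fun χ : IrrCharacter G => χ ∈ B), δ k χ = 0) := by
  haveI : Fact (Nat.Prime 2) := ⟨Nat.prime_two⟩
  haveI hMp := isPModular_isPrime hM
  have hB : IsPBlock M B := hmax.1.2.1
  have hPD : IsDefectGroup 2 M B P := isDefectGroup_of_isMaximalBrauerPair hM B P c₀ hmax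
  have hdB : blockDefect 2 B = 2 := blockDefect_eq_two_of_card_four hM hB hPD hP4
  have hh := height_zero_of_defect_two hM hB hdB
  obtain ⟨u, s, k, m, hus, hsu, hu1, huk, hsm, h2m⟩ := exists_pPart_decomposition 2 x hx
  have hu : ∃ k : ℕ, orderOf u = 2 ^ k := by
    obtain ⟨j, _, hj⟩ := (Nat.dvd_prime_pow Nat.prime_two).mp (orderOf_dvd_of_pow_eq_one huk)
    exact ⟨j, hj⟩
  haveI : Fintype ↥(Subgroup.centralizer ({u} : Set G)) := Fintype.ofFinite _
  have hH : ∀ g : G, g ∈ Subgroup.centralizer ({u} : Set G) ↔ Commute u g := by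
    intro g
    rw [Subgroup.mem_centralizer_singleton_iff]
    constructor
    · intro h; exact h.symm
    · intro h; exact h.eq.symm
  have hsH : s ∈ Subgroup.centralizer ({u} : Set G) := (hH s).mpr hsu.symm
  obtain ⟨sH, hsH'⟩ : ∃ sH : ↥(Subgroup.centralizer ({u} : Set G)), (sH : G) = s :=
    ⟨⟨s, hsH⟩, rfl⟩
  have hs : ¬ 2 ∣ orderOf sH := by
    rw [← Subgroup.orderOf_coe, hsH']
    intro h
    exact h2m (h.trans (orderOf_dvd_of_pow_eq_one hsm))
  have huH : u ∈ Subgroup.centralizer ({u} : Set G) := (hH u).mpr (Commute.refl u)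
  obtain ⟨z, hzu⟩ : ∃ z : ↥(Subgroup.centralizer ({u} : Set G)), (z : G) = u := ⟨⟨u, huH⟩, rfl⟩
  have hzc : z ∈ Subgroup.center ↥(Subgroup.centralizer ({u} : Set G)) := by
    rw [Subgroup.mem_center_iff]
    intro h
    apply Subtype.ext
    simp only [Subgroup.coe_mul, hzu]
    exact ((hH h).mp h.2).eq.symm
  set K := blocksIn M (inducingSet M (Subgroup.centralizer ({u} : Set G)) B) with hK
  have hKind : ∀ b ∈ K, IsInducedBlock M (Subgroup.centralizer ({u} : Set G)) b B := by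
    intro b hb
    obtain ⟨ξ, hξ, rfl⟩ := mem_blocksIn.mp hb
    exact hξ
  have hex : ∀ b : Set (IrrCharacter ↥(Subgroup.centralizer ({u} : Set G))), b ∈ K →
      ∃ δ : IrrCharacter G → ℤ, (∀ χ, δ χ = 1 ∨ δ χ = -1) ∧
        ∀ χ ∈ B, ∀ s : ↥(Subgroup.centralizer ({u} : Set G)), ¬ 2 ∣ orderOf s →
          secPart u (Subgroup.centralizer ({u} : Set G)) b (χ : G → ℂ) s =
            (δ χ : ℂ) * secPart u (Subgroup.centralizer ({u} : Set G)) b (χ₀ : G → ℂ) s := by
    intro b hb
    obtain ⟨h1, h2, h3⟩ := local_facts_singleton hM hmax hP4 hexp u hu1 hu (hKind b hb)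
    exact exists_sign_of_rank_one_subsection hM hB4 hdB hh u h3 _ hH (hKind b hb) h1 h2 hχ₀
  choose! δ hδ1 hδ2 using hex
  refine ⟨{b // b ∈ K}, inferInstance,
    fun k => secPart u (Subgroup.centralizer ({u} : Set G)) k.1 (χ₀ : G → ℂ) sH,
    fun k => δ k.1, ?_, ?_, ?_, ?_, ?_⟩
  · intro k χ
    exact hδ1 k.1 k.2 χ
  · intro χ hχ
    have h1 := blockPart_inducingSet_irr hM u hu hB χ sH hs
    rw [if_pos hχ, hsH', hus] at h1
    rw [← h1, blockPart_eq_sum_blocksIn _ (inducingSet_closed _ B), ← hK,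
      ← Finset.sum_coe_sort K]
    apply Finset.sum_congr rfl
    intro k _
    exact hδ2 k.1 k.2 χ hχ sH hs
  · intro k
    have := Cfsg.Agent.Lib.Helper75.isIntegral_secPart (Subgroup.centralizer ({u} : Set G)) k.1
      χ₀ hzc sH
    rwa [hzu] at this
  · intro k
    obtain ⟨h1, _, _⟩ := local_facts_singleton hM hmax hP4 hexp u hu1 hu (hKind k.1 k.2)
    have := memLocalRing_four_mul_secPart_div hM u hu _ hH h1 χ₀ sH hs
    rwa [hsH', hus] at this
  · intro hS1 k
    obtain ⟨h1, h2, h3⟩ := local_facts_singleton hM hmax hP4 hexp u hu1 hu (hKind k.1 k.2)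
    apply sum_sign_eq_zero hM hS1 u hu1 hu _ hH (hKind k.1 k.2).1 (δ k.1) (hδ2 k.1 k.2)
    -- nonvanishing
    by_contra hcon
    push Not at hcon
    have hz2 : z ^ 2 ^ 1 = 1 := by
      apply Subtype.ext
      simp only [Subgroup.coe_pow, hzu, Subgroup.coe_one, pow_one]
      rw [pow_two, h3]
    have hne := Cfsg.Agent.Lib.Helper75.secM_ne_zero_of_height_zero hM
      (Subgroup.centralizer ({u} : Set G)) (hKind k.1 k.2) (h1.trans hdB.symm) hχ₀ hχ₀
      (hh χ₀ hχ₀) hzc (by rw [hzu]; exact hH) hz2 (by rw [hzu]; exact hu)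
    apply hne
    rw [hzu]
    unfold secM
    rw [Finset.sum_eq_zero, mul_zero]
    intro s' hs'
    have hs'' := (Finset.mem_filter.mp hs').2
    have h0 : secPart u (Subgroup.centralizer ({u} : Set G)) k.1 (χ₀ : G → ℂ) s' = 0 := by
      by_contra h
      exact h (hcon s' hs'')
    rw [h0, zero_mul]

end Singular

end Cfsg.Agent.Lib.Helper82
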