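import Mathlib
import Cfsg.Agent.Lib.Helper82.IsoCases
import Cfsg.Agent.Lib.Helper82.IsoRank
import Cfsg.Agent.Lib.Helper82.IsoSingular

/-!
# The local data of a Klein four block
-/

set_option autoImplicit false
set_option linter.unusedSectionVars false
set_option linter.style.haveILetI false

namespace Cfsg.Agent.Lib.Helper82

open Cfsg Finset Cfsg.Agent.Lib.Helper16 Cfsg.Agent.Lib.Helper78 Cfsg.Agent.Lib.Helper79
open scoped ComplexConjugate

universe u

section Build

variable {G : Type u} [Group G] [Fintype G] {M : Ideal AlgInt}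

open scoped Classical in
theorem rankOneData_of (hM : IsPModular 2 M) {B : Set (IrrCharacter G)} {P : Subgroup G}
    {c₀ : Set (IrrCharacter (Subgroup.centralizer (P : Set G)))}
    (hmax : IsMaximalBrauerPair 2 M B P c₀) (hP4 : Nat.card P = 4)
    (hexp : ∀ x ∈ P, x * x = 1)
    (hB4 : (Finset.univ.filter (fun χ : IrrCharacter G => χ ∈ B)).card = 4)
    (hl : blockRank 2 B = 1) : RankOneData M B := by
  haveI : Fact (Nat.Prime 2) := ⟨Nat.prime_two⟩
  haveI hMp := isPModular_isPrime hM
  have hB : IsPBlock M B := hmax.1.2.1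
  have hPD : IsDefectGroup 2 M B P := isDefectGroup_of_isMaximalBrauerPair hM B P c₀ hmax
  obtain ⟨hR1, hS1⟩ := rank_one_structure hM hB hPD hP4 hB4 hl
  obtain ⟨χ₀, hχ₀⟩ := IsPBlock_nonempty hMp.ne_top hB
  refine ⟨hR1, hS1, ?_⟩
  intro x hx
  obtain ⟨κ, hκ, A, δ, h1, h2, h3, h4, h5⟩ :=
    exists_section_structure hM hmax hP4 hexp hB4 hχ₀ x hx
  exact ⟨κ, hκ, A, δ, h1, h2, h3, h4, h5 hS1⟩

open scoped Classical in
theorem rankThreeData_of (hM : IsPModular 2 M) {B : Set (IrrCharacter G)} {P : Subgroup G}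
    {c₀ : Set (IrrCharacter (Subgroup.centralizer (P : Set G)))}
    (hmax : IsMaximalBrauerPair 2 M B P c₀) (hP4 : Nat.card P = 4)
    (hB4 : (Finset.univ.filter (fun χ : IrrCharacter G => χ ∈ B)).card = 4)
    (hl : blockRank 2 B = 3) : RankThreeData M B := by
  haveI : Fact (Nat.Prime 2) := ⟨Nat.prime_two⟩
  haveI hMp := isPModular_isPrime hM
  have hB : IsPBlock M B := hmax.1.2.1
  have hPD : IsDefectGroup 2 M B P := isDefectGroup_of_isMaximalBrauerPair hM B P c₀ hmax
  have hdB : blockDefect 2 B = 2 := blockDefect_eq_two_of_card_four hM hB hPD hP4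
  refine ⟨?_, rank_three_structure hM hB hPD hP4 hB4 hl⟩
  intro χ hχ x
  have h1 := memLocalRing_pow_mul_apply_div hM hχ x
  rw [hdB] at h1
  convert h1 using 2
  norm_num

end Build

end Cfsg.Agent.Lib.Helper82
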