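import Mathlib
import Cfsg.Agent.S4637
import Cfsg.Agent.Lib.Helper16.PairLocal
import Cfsg.Agent.Lib.Helper16.FirstMain
import Cfsg.Agent.Lib.Helper16.StabGroup
import Cfsg.Agent.Lib.Helper16.InducedCent

/-!
# A Klein four block and its Brauer correspondent have the same invariants
-/

set_option autoImplicit false
set_option linter.unusedSectionVars false
set_option linter.style.haveILetI false

namespace Cfsg.Agent.Lib.Helper82

open Cfsg Finset Cfsg.Agent.Lib.Helper16 Cfsg.Agent.Lib.Helper78 Cfsg.Agent.Lib.Helper79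
  Cfsg.Agent.Lib.Helper77
open scoped ComplexConjugate

universe u

section Transport

variable {G : Type u} [Group G]

theorem mem_normalizer_subgroupOf_self (P : Subgroup G)
    (r : ↥(Subgroup.normalizer (P : Set G))) :
    r ∈ Subgroup.normalizer ((P.subgroupOf (Subgroup.normalizer (P : Set G)) :
      Subgroup ↥(Subgroup.normalizer (P : Set G))) : Set ↥(Subgroup.normalizer (P : Set G))) := by
  rw [Subgroup.mem_normalizer_iff]
  intro h
  rw [Subgroup.mem_subgroupOf, Subgroup.mem_subgroupOf]
  have := (Subgroup.mem_normalizer_iff.mp r.2) (h : G)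
  simpa using this

/-- Stabilizers under `centEquiv`, converse direction. -/
theorem stabilizesBlock_pullBlock_centEquiv_of (P : Subgroup G)
    (e : Set (IrrCharacter (Subgroup.centralizer (P : Set G))))
    (r : ↥(Subgroup.normalizer (P : Set G)))
    (h : StabilizesBlock (Subgroup.centralizer (P : Set G)) e (r : G)) :
    StabilizesBlock (Subgroup.centralizer ((P.subgroupOf (Subgroup.normalizer (P : Set G)) :
      Subgroup ↥(Subgroup.normalizer (P : Set G))) : Set ↥(Subgroup.normalizer (P : Set G))))
      (pullBlock (centEquiv P) e) r := by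
  obtain ⟨_, h2⟩ := h
  have hr := mem_normalizer_subgroupOf_self P r
  refine ⟨Cfsg.Agent.Lib.Helper77.normalizer_le_normalizer_centralizer' _ hr, ?_⟩
  intro χ hχ
  rw [mem_pullBlock_iff] at hχ
  obtain ⟨ξ', hξ', hc⟩ := h2 _ hχ
  refine ⟨irrPull (centEquiv P) ξ', irrPull_mem_pullBlock _ hξ', ?_⟩
  intro k k' hk
  have := hc (centEquiv P k) (centEquiv P k') (by
    rw [centEquiv_coe, centEquiv_coe, hk]
    rfl)
  rw [irrPull_apply, MulEquiv.symm_apply_apply] at this
  rw [irrPull_apply]
  exact this

end Transport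

section Setup

variable {G : Type u} [Group G] [Fintype G] {M : Ideal AlgInt}

open scoped Classical in
/-- **The setup for a Klein four block and its Brauer correspondent.** -/
theorem klein_setup (hM : IsPModular 2 M) {B : Set (IrrCharacter G)} (hB : IsPBlock M B)
    {P : Subgroup G} (hPD : IsDefectGroup 2 M B P) (hV : IsKleinFour P)
    [Fintype ↥(Subgroup.normalizer (P : Set G))]
    (c : Set (IrrCharacter (Subgroup.normalizer (P : Set G))))
    (hcD : IsDefectGroup 2 M c (P.subgroupOf (Subgroup.normalizer (P : Set G))))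
    (hc : IsInducedBlock M (Subgroup.normalizer (P : Set G)) c B) :
    ∃ c₀ : Set (IrrCharacter (Subgroup.centralizer (P : Set G))),
      IsMaximalBrauerPair 2 M B P c₀ ∧
      IsMaximalBrauerPair 2 M c (P.subgroupOf (Subgroup.normalizer (P : Set G)))
        (pullBlock (centEquiv P) c₀) ∧
      (Finset.univ.filter (fun χ : IrrCharacter G => χ ∈ B)).card = 4 ∧
      (Finset.univ.filter
        (fun η : IrrCharacter (Subgroup.normalizer (P : Set G)) => η ∈ c)).card = 4 ∧
      (blockRank 2 B = 1 ∨ blockRank 2 B = 3) ∧ blockRank 2 c = blockRank 2 B := by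
  haveI : Fact (Nat.Prime 2) := ⟨Nat.prime_two⟩
  haveI hMp := isPModular_isPrime hM
  have hPp : IsPGroup 2 P := isPGroup_of_isDefectGroup hPD
  have hP4 : Nat.card P = 4 := hV.card_four
  have hPab : ∀ x ∈ P, ∀ y ∈ P, x * y = y * x := by
    intro x hx y hy
    have := mul_comm_of_exponent_two hV.exponent_two (⟨x, hx⟩ : P) ⟨y, hy⟩
    exact congrArg Subtype.val this
  have hPC : P ≤ Subgroup.centralizer (P : Set G) := by
    intro y hy
    rw [Subgroup.mem_centralizer_iff]
    intro q hq
    exact hPab q hq y hy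
  obtain ⟨c₀, hmax⟩ := exists_isMaximalBrauerPair_of_isDefectGroup hM hB hPD
  obtain ⟨b, hbpair, hbind⟩ := exists_local_block_of_isBrauerPairOf hM B P c₀ hmax.1
  have hbc : c = b := firstMain_unique hM P hPp B hB hc.1 hcD hc hbind.1 hbind
  rw [← hbc] at hbpair
  have hmaxN : IsMaximalBrauerPair 2 M c (P.subgroupOf (Subgroup.normalizer (P : Set G)))
      (pullBlock (centEquiv P) c₀) := isMaximalBrauerPair_of_isDefectGroup hM hbpair hcD
  -- the Klein four group inside the normalizer
  have hV' : IsKleinFour ↥(P.subgroupOf (Subgroup.normalizer (P : Set G))) := by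
    have e := Subgroup.subgroupOfEquivOfLe (Subgroup.le_normalizer (H := P))
    constructor
    · rw [Nat.card_congr e.toEquiv]
      exact hV.card_four
    · rw [Monoid.exponent_eq_of_mulEquiv e]
      exact hV.exponent_two
  have hPC' : P.subgroupOf (Subgroup.normalizer (P : Set G)) ≤
      Subgroup.centralizer ((P.subgroupOf (Subgroup.normalizer (P : Set G)) :
        Subgroup ↥(Subgroup.normalizer (P : Set G))) :
        Set ↥(Subgroup.normalizer (P : Set G))) := by
    intro y hy
    rw [Subgroup.mem_centralizer_iff]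
    intro q hq
    apply Subtype.ext
    exact hPab (q : G) (Subgroup.mem_subgroupOf.mp hq) (y : G) (Subgroup.mem_subgroupOf.mp hy)
  -- the two applications of the count
  have hindG : IsInducedBlock M (Subgroup.centralizer (P : Set G)) c₀ B :=
    Cfsg.Agent.Lib.Helper16.isInducedBlock_of_isBrauerPairOf hM hPC hmax.1
  have hindN := Cfsg.Agent.Lib.Helper16.isInducedBlock_of_isBrauerPairOf hM hPC' hbpair
  obtain ⟨heG, hkG, hlG⟩ := Cfsg.Agent.S4637.result M hM B hB P hPD hV c₀ hindG
    (stabSubgroup P c₀) (mem_stabSubgroup_iff P c₀) _ rfl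
  obtain ⟨heN, hkN, hlN⟩ := Cfsg.Agent.S4637.result M hM c hc.1
    (P.subgroupOf (Subgroup.normalizer (P : Set G))) hcD hV' (pullBlock (centEquiv P) c₀) hindN
    (stabSubgroup _ (pullBlock (centEquiv P) c₀)) (mem_stabSubgroup_iff _ _) _ rfl
  have hcardB : (Finset.univ.filter (fun χ : IrrCharacter G => χ ∈ B)).card = 4 := by
    rw [← hkG, Nat.card_eq_fintype_card, Fintype.card_subtype]
  have hcardc : (Finset.univ.filter
      (fun η : IrrCharacter (Subgroup.normalizer (P : Set G)) => η ∈ c)).card = 4 := by
    rw [← hkN, Nat.card_eq_fintype_card, Fintype.card_subtype]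
  refine ⟨c₀, hmax, hmaxN, hcardB, hcardc, by rw [hlG]; exact heG, ?_⟩
  -- the inertial indices agree
  have hiff : (Subgroup.centralizer (P : Set G)).relIndex (stabSubgroup P c₀) = 1 ↔
      (Subgroup.centralizer ((P.subgroupOf (Subgroup.normalizer (P : Set G)) :
        Subgroup ↥(Subgroup.normalizer (P : Set G))) :
        Set ↥(Subgroup.normalizer (P : Set G)))).relIndex
        (stabSubgroup _ (pullBlock (centEquiv P) c₀)) = 1 := by
    rw [Subgroup.relIndex_eq_one, Subgroup.relIndex_eq_one]
    constructor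
    · intro h n hn
      rw [mem_stabSubgroup_iff] at hn
      have h1 := stabilizesBlock_of_pullBlock_centEquiv P c₀ n hn.2
      have h2 : (n : G) ∈ stabSubgroup P c₀ := (mem_stabSubgroup_iff P c₀ _).mpr ⟨n.2, h1⟩
      exact mk_mem_centralizer_subgroupOf P (h h2)
    · intro h g hg
      rw [mem_stabSubgroup_iff] at hg
      have h1 := stabilizesBlock_pullBlock_centEquiv_of P c₀ ⟨g, hg.1⟩ hg.2
      have h2 : (⟨g, hg.1⟩ : ↥(Subgroup.normalizer (P : Set G))) ∈
          stabSubgroup _ (pullBlock (centEquiv P) c₀) := by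
        rw [mem_stabSubgroup_iff]
        exact ⟨mem_normalizer_subgroupOf_self P _, h1⟩
      exact coe_mem_centralizer_of_mem_centralizer_subgroupOf P _ (h h2)
  rw [hlG, hlN]
  rcases heG with h1 | h3 <;> rcases heN with h1' | h3'
  · rw [h1, h1']
  · exfalso
    have := hiff.mp h1
    omega
  · exfalso
    have := hiff.mpr h1'
    omega
  · rw [h3, h3']

end Setup

end Cfsg.Agent.Lib.Helper82
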