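/-
Stabilizers of covered blocks (helper82): if `N ⊴ G` has `p`-power index and the block `B` of `G`
covering the block `c` of `N` has a defect group inside `N`, then the stabilizer of `c` is `N`.
-/
import Mathlib
import Cfsg.Agent.Lib.Helper82.KnorrGen
import Cfsg.Agent.Lib.Helper16.BrauerOver
import Cfsg.Agent.S0964

set_option autoImplicit false
set_option linter.unusedSectionVars false

namespace Cfsg.Agent.Lib.Helper82

open Cfsg Cfsg.Agent.Lib.Helper16 Cfsg.Agent.Lib.Helper78 Cfsg.Agent.Lib.Helper76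

universe u

section Ascend

variable {G : Type u} [Group G] (N : Subgroup G) [hN : N.Normal] (K : Subgroup G)

/-- A set of irreducible characters of `N` moved to `N` seen as a subgroup of `K`. -/
def ascendBlock (hNK : N ≤ K) (c : Set (IrrCharacter N)) :
    Set (IrrCharacter ↥(N.subgroupOf K)) :=
  pullBlock (Subgroup.subgroupOfEquivOfLe hNK) c

theorem descendBlock_ascendBlock (hNK : N ≤ K) (c : Set (IrrCharacter N)) :
    descendBlock N K hNK (ascendBlock N K hNK c) = c := by
  ext θ
  rw [mem_descendBlock]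
  unfold ascendBlock
  rw [mem_pullBlock_iff, irrPull_symm_irrPull]

theorem isPBlock_ascendBlock {M : Ideal AlgInt} (hNK : N ≤ K) {c : Set (IrrCharacter N)}
    (h : IsPBlock M c) : IsPBlock M (ascendBlock N K hNK c) :=
  isPBlock_pullBlock _ h

theorem mem_blockStab_ascendBlock_iff (hNK : N ≤ K) (c : Set (IrrCharacter N)) (x : K) :
    x ∈ blockStab (N.subgroupOf K) (ascendBlock N K hNK c) ↔ (x : G) ∈ blockStab N c := by
  rw [mem_blockStab, mem_blockStab]
  have e : ∀ θ : IrrCharacter N,
      irrPull (Subgroup.subgroupOfEquivOfLe hNK) (conjIrrN N (x : G) θ) =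
      conjIrrN (N.subgroupOf K) x (irrPull (Subgroup.subgroupOfEquivOfLe hNK) θ) := by
    intro θ
    apply Subtype.ext
    funext n
    rw [irrPull_apply, conjIrrN_apply, conjIrrN_apply, irrPull_apply]
    rfl
  have hmem : ∀ θ : IrrCharacter N,
      irrPull (Subgroup.subgroupOfEquivOfLe hNK) θ ∈ ascendBlock N K hNK c ↔ θ ∈ c := by
    intro θ
    unfold ascendBlock
    rw [mem_pullBlock_iff, irrPull_symm_irrPull]
  constructor
  · intro h θ
    have := h (irrPull (Subgroup.subgroupOfEquivOfLe hNK) θ)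
    rw [← e, hmem, hmem] at this
    exact this
  · intro h θK
    have h1 := h (irrPull (Subgroup.subgroupOfEquivOfLe hNK).symm θK)
    rw [← hmem, ← hmem (conjIrrN N (x : G) _), e] at h1
    have h2 : irrPull (Subgroup.subgroupOfEquivOfLe hNK)
        (irrPull (Subgroup.subgroupOfEquivOfLe hNK).symm θK) = θK :=
      irrPull_irrPull_symm _ θK
    rw [h2] at h1
    exact h1

end Ascend

section Stab

variable {G : Type u} [Group G] [Fintype G] {p : ℕ} [hp : Fact p.Prime] {M : Ideal AlgInt}
  (N : Subgroup G) [hN : N.Normal] [Fintype N]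

/-- If `N` has `p`-power index, the `G`-stable block `c` of `N` is covered by `B` and `B` has a
defect group inside `N`, then `N = G`. -/
theorem eq_top_of_stable_of_defect_le (hM : IsPModular p M) (hidx : ∃ k : ℕ, N.index = p ^ k)
    {c : Set (IrrCharacter N)} (hc : IsPBlock M c) (hst : IsGStable N c)
    {B : Set (IrrCharacter G)} (hB : IsPBlock M B) (hcov : Covers N B c) (P : Subgroup G)
    (hP : IsDefectGroup p M B P) (hPN : P ≤ N) : N = ⊤ := by
  classical
  have hpp : p.Prime := hp.out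
  obtain ⟨B₀, -, huniq⟩ := Cfsg.Agent.S0966.result p M hM N hidx c hc
  have h970 := Cfsg.Agent.S0970.result p M hM N c hc
    (by
      intro g θ₁ hθ₁ θ' hθ'
      have : θ' = conjIrrN N g θ₁ := Subtype.ext (funext hθ')
      rw [this]
      exact hst θ₁ hθ₁ g)
    B hB hcov
    (by
      intro B'' hB'' hcov''
      have e1 : B'' = B₀ := huniq B'' ⟨hB'', hcov''⟩
      have e2 : B = B₀ := huniq B ⟨hB, hcov⟩
      rw [e1, ← e2])
    P hP
  have h1 := h970.1
  rw [sup_eq_right.mpr hPN] at h1
  obtain ⟨k, hk⟩ := hidx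
  rw [hk] at h1
  have hk0 : k = 0 := by
    by_contra h0
    exact h1 (dvd_pow_self p h0)
  rw [hk0, pow_zero] at hk
  exact Subgroup.index_eq_one.mp hk

/-- If `N` has `p`-power index, the block `c` of `N` is covered by `B` and `B` has a defect group
inside `N`, then the stabilizer of `c` in `G` is `N`. -/
theorem blockStab_eq_of_defect_le (hM : IsPModular p M) (hidx : ∃ k : ℕ, N.index = p ^ k)
    {c : Set (IrrCharacter N)} (hc : IsPBlock M c)
    {B : Set (IrrCharacter G)} (hB : IsPBlock M B) (hcov : Covers N B c) (P : Subgroup G)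
    (hP : IsDefectGroup p M B P) (hPN : P ≤ N) : blockStab N c = N := by
  classical
  have hMp := isPModular_isPrime hM
  have hpp : p.Prime := hp.out
  set T := blockStab N c with hTdef
  have : Fintype T := Fintype.ofFinite _
  have hstab : IsBlockStab N T c := isBlockStab_blockStab N hc
  have hNT : N ≤ T := Cfsg.Agent.Lib.Helper77.le_of_isBlockStab N c T hstab
  obtain ⟨B', hB', hcov', hind⟩ := fongReynolds_surjective hNT hstab hc hB hcov
  obtain ⟨D', hD'⟩ := exists_isDefectGroup p hB'
  have hD'B := (fongReynolds_defect_height hM hNT hstab hc hB' hcov' hind).1 D' hD'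
  obtain ⟨x, hx⟩ := Cfsg.Agent.S4434.defectGroups_conj p M hM B hB P _ hP hD'B
  have hD'N : D'.map T.subtype ≤ N := by
    rw [hx]
    rintro _ ⟨a, ha, rfl⟩
    simp only [MulEquiv.coe_toMonoidHom, MulAut.conj_apply]
    exact hN.conj_mem a (hPN ha) x
  have : Fintype ↥(N.subgroupOf T) := Fintype.ofFinite _
  have hidxT : ∃ k : ℕ, (N.subgroupOf T).index = p ^ k := by
    obtain ⟨k, hk⟩ := hidx
    have h1 : N.relIndex T ∣ N.index := Subgroup.relIndex_dvd_index_of_normal N T
    rw [hk] at h1
    obtain ⟨j, -, hj⟩ := (Nat.dvd_prime_pow hpp).mp h1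
    exact ⟨j, hj⟩
  have hstT : IsGStable (N.subgroupOf T) (ascendBlock N T hNT c) := by
    intro θ hθ g
    have hg := (mem_blockStab_ascendBlock_iff N T hNT c g).mpr g.2
    exact ((mem_blockStab _ _ g).mp hg θ).mp hθ
  have hcovT : Covers (N.subgroupOf T) B' (ascendBlock N T hNT c) := by
    obtain ⟨ψ, hψ, θ, hθ, hne⟩ := hcov'
    refine ⟨ψ, hψ, irrPull (Subgroup.subgroupOfEquivOfLe hNT) θ, irrPull_mem_pullBlock _ hθ, ?_⟩
    have h1 := Cfsg.Agent.Lib.Helper81.classInner_comp_equiv_gen
      (Subgroup.subgroupOfEquivOfLe hNT).toEquiv (Cfsg.Agent.Lib.Helper75.resNT N T hNT (ψ : T → ℂ))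
      (θ : N → ℂ)
    rw [← h1] at hne
    exact hne
  have hDN : D' ≤ N.subgroupOf T := by
    intro d hd
    rw [Subgroup.mem_subgroupOf]
    exact hD'N ⟨d, hd, rfl⟩
  have htop := eq_top_of_stable_of_defect_le (N.subgroupOf T) hM hidxT
    (isPBlock_ascendBlock N T hNT hc) hstT hB' hcovT D' hD' hDN
  apply le_antisymm _ hNT
  intro t ht
  have h2 : (⟨t, ht⟩ : T) ∈ N.subgroupOf T := by
    rw [htop]
    exact Subgroup.mem_top _
  exact h2

theorem ascendBlock_descendBlock {G : Type u} [Group G] (N : Subgroup G) [N.Normal]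
    (K : Subgroup G) (hNK : N ≤ K) (cK : Set (IrrCharacter ↥(N.subgroupOf K))) :
    ascendBlock N K hNK (descendBlock N K hNK cK) = cK := by
  unfold ascendBlock descendBlock
  exact pullBlock_pullBlock_symm _ cK

/-- For a block `c`, an element stabilizing `c` in the sense of the Prelude lies in `blockStab`. -/
theorem mem_blockStab_of_stabilizesBlock [hMp : M.IsPrime] {c : Set (IrrCharacter N)}
    (hc : IsPBlock M c) {x : G} (hx : StabilizesBlock N c x) : x ∈ blockStab N c := by
  classical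
  have : Fintype (blockStab N c) := Fintype.ofFinite _
  have hstab : IsBlockStab N (blockStab N c) c := isBlockStab_blockStab N hc
  have h1 : x⁻¹ ∈ blockStab N c := by
    rw [hstab x⁻¹]
    intro χ hχ
    obtain ⟨χ', hχ', hconj⟩ := hx.2 χ hχ
    have e : conjIrrN N x⁻¹ χ = χ' := by
      apply Subtype.ext
      funext k'
      rw [conjIrrN_apply]
      symm
      apply hconj
      show (k' : G) = x * (x⁻¹ * (k' : G) * x⁻¹⁻¹) * x⁻¹
      group
    rw [e]
    exact hχ'
  have := (blockStab N c).inv_mem h1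
  rwa [inv_inv] at this

/-- **Stabilizers of covered blocks.**  Let `N ≤ L` be normal subgroups of `G` with `L / N` a
`p`-group, `B` a block of `G` covering the block `c` of `N`, and suppose a defect group of `B`
lies in `N`.  Then every element of `L` stabilizing `c` lies in `N`. -/
theorem blockStab_inf_eq (hM : IsPModular p M) (L : Subgroup G) [hL : L.Normal] (hNL : N ≤ L)
    (hLN : ∃ k : ℕ, (N.subgroupOf L).index = p ^ k)
    {B : Set (IrrCharacter G)} (hB : IsPBlock M B) {c : Set (IrrCharacter N)} (hc : IsPBlock M c)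
    (hcov : Covers N B c) (D : Subgroup G) (hD : IsDefectGroup p M B D) (hDN : D ≤ N) :
    blockStab N c ⊓ L = N := by
  classical
  have hMp := isPModular_isPrime hM
  have : Fintype L := Fintype.ofFinite _
  have : Fintype (blockStab N c) := Fintype.ofFinite _
  have hstab : IsBlockStab N (blockStab N c) c := isBlockStab_blockStab N hc
  have hNT : N ≤ blockStab N c := Cfsg.Agent.Lib.Helper77.le_of_isBlockStab N c _ hstab
  apply le_antisymm _ (le_inf hNT hNL)
  -- the block of `L`
  obtain ⟨bL, P₁, hbL, hcovL, hP₁, hP₁L, hbLP₁⟩ := knorr_le L hM hB D hD (hDN.trans hNL)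
  obtain ⟨s, hs⟩ := Cfsg.Agent.S4434.defectGroups_conj p M hM B hB D P₁ hD hP₁
  have hP₁N : P₁ ≤ N := by
    rw [hs]
    rintro _ ⟨a, ha, rfl⟩
    simp only [MulEquiv.coe_toMonoidHom, MulAut.conj_apply]
    exact hN.conj_mem a (hDN ha) s
  have : Fintype ↥(N.subgroupOf L) := Fintype.ofFinite _
  obtain ⟨ψ, hψ⟩ := IsPBlock_nonempty hMp.ne_top hbL
  obtain ⟨θL, hθL⟩ := exists_constituent (N.subgroupOf L) ψ
  set cL := blockOf M (θL : ↥(N.subgroupOf L) → ℂ) with hcLdef
  have hcL : IsPBlock M cL := isPBlock_blockOf θL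
  have hθLc : θL ∈ cL := self_mem_blockOf hMp.ne_top θL
  have hcovNL : Covers (N.subgroupOf L) bL cL := ⟨ψ, hψ, θL, hθLc, hθL⟩
  have hP₁NL : P₁.subgroupOf L ≤ N.subgroupOf L := by
    intro a ha
    rw [Subgroup.mem_subgroupOf] at ha ⊢
    exact hP₁N ha
  have hstabL := blockStab_eq_of_defect_le (N.subgroupOf L) hM hLN hcL hbL hcovNL
    (P₁.subgroupOf L) hbLP₁ hP₁NL
  -- the block `c'` of `N`
  set c' := descendBlock N L hNL cL with hc'def
  have hc' : IsPBlock M c' := isPBlock_descendBlock N L hNL hcL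
  obtain ⟨χ', hχ'B, hχ'⟩ := Cfsg.Agent.S4432.result p M hM L B hB bL hbL hcovL ψ hψ
  have hθ'mem : irrPull (Subgroup.subgroupOfEquivOfLe hNL).symm θL ∈ c' :=
    irrPull_mem_pullBlock _ hθLc
  have hne' := classInner_descend_ne_zero N L hNL χ' ψ θL hχ' hθL
  obtain ⟨χ, hχ, θ, hθ, hne⟩ := hcov
  obtain ⟨g, θ'', hθ'', hconj⟩ := Cfsg.Agent.S0964.result p M hM N B hB c' hc' χ' hχ'B _ hθ'mem
    hne' χ hχ θ hne
  have e1 : θ = conjIrrN N g θ'' := Subtype.ext (funext hconj)
  have hcc : c' = conjBlockN N g c := by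
    have h1 : θ'' ∈ conjBlockN N g c := by
      rw [mem_conjBlockN, ← e1]
      exact hθ
    rw [IsPBlock_eq_blockOf hc' hθ'', IsPBlock_eq_blockOf (isPBlock_conjBlockN N g hc) h1]
  -- conclusion
  intro x hx
  obtain ⟨hxT, hxL⟩ := Subgroup.mem_inf.mp hx
  have hy : (MulAut.conj g).toMonoidHom x ∈ blockStab N c' := by
    rw [hcc]
    exact map_conj_le_blockStab_conjBlockN N g (le_refl _) ⟨x, hxT, rfl⟩
  have hyL : (MulAut.conj g).toMonoidHom x ∈ L := by
    simp only [MulEquiv.coe_toMonoidHom, MulAut.conj_apply]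
    exact hL.conj_mem x hxL g
  have hy2 : (⟨_, hyL⟩ : L) ∈ blockStab (N.subgroupOf L) cL := by
    rw [← ascendBlock_descendBlock N L hNL cL, mem_blockStab_ascendBlock_iff]
    exact hy
  rw [hstabL, Subgroup.mem_subgroupOf] at hy2
  have := hN.conj_mem _ hy2 g⁻¹
  simpa [MulAut.conj_apply, mul_assoc] using this

end Stab

end Cfsg.Agent.Lib.Helper82
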