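import Cfsg.Agent.Lib.Helper82.KleinCount
import Cfsg.Agent.Lib.Helper79.BlockAux
import Cfsg.Agent.S4511

/-!
# A lower bound for `k(B)` when the inertial quotient is trivial (helper82)

Let `(P, c)` be a maximal `B`-pair with `P` abelian and `N_G(P, c) = C_G(P)`.  The `|P|`
subsections `(u, f_u)`, `u ∈ P`, are pairwise non-conjugate, so Brauer's count gives
`l(B) + (|P| - 1) ≤ k(B)`.
-/

set_option autoImplicit false

namespace Cfsg.Agent.Lib.Helper82

open Cfsg MonoidAlgebra Cfsg.Agent.Lib.Helper77 Cfsg.Agent.Lib.Helper16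
  Cfsg.Agent.Lib.Helper79
open scoped ComplexConjugate

universe u

variable {G : Type u} [Group G] [Fintype G] {M : Ideal AlgInt}

namespace NilAbel

/-- Representatives of the conjugacy classes of `p`-elements, the identity among them. -/
theorem exists_reps (p : ℕ) : ∃ X : Finset G, (∀ x ∈ X, ∃ k : ℕ, orderOf x = p ^ k) ∧
    (∀ g : G, (∃ k : ℕ, orderOf g = p ^ k) → ∃! x, x ∈ X ∧ IsConj g x) ∧ (1 : G) ∈ X := by
  classical
  set rep : G → G := fun g => Quotient.out (ConjClasses.mk g) with hrep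
  have hrepconj : ∀ g : G, IsConj g (rep g) := by
    intro g
    rw [← ConjClasses.mk_eq_mk_iff_isConj]
    exact (Quotient.out_eq (ConjClasses.mk g)).symm
  have hordconj : ∀ g x : G, IsConj g x → orderOf x = orderOf g := by
    intro g x hgx
    obtain ⟨y, hy⟩ := isConj_iff.mp hgx
    rw [← hy]
    have := orderOf_injective (MulAut.conj y).toMonoidHom (MulAut.conj y).injective g
    simpa [MulAut.conj_apply] using this
  refine ⟨(Finset.univ.filter (fun g : G => ∃ k : ℕ, orderOf g = p ^ k)).image rep, ?_, ?_, ?_⟩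
  · intro x hx
    obtain ⟨g, hg, rfl⟩ := Finset.mem_image.mp hx
    obtain ⟨k, hk⟩ := (Finset.mem_filter.mp hg).2
    exact ⟨k, by rw [hordconj g _ (hrepconj g), hk]⟩
  · intro g hg
    refine ⟨rep g, ⟨Finset.mem_image.mpr ⟨g, Finset.mem_filter.mpr ⟨Finset.mem_univ _, hg⟩, rfl⟩,
      hrepconj g⟩, ?_⟩
    rintro x ⟨hxX, hgx⟩
    obtain ⟨g', _, rfl⟩ := Finset.mem_image.mp hxX
    have h1 : IsConj g g' := hgx.trans (hrepconj g').symm
    show Quotient.out (ConjClasses.mk g') = Quotient.out (ConjClasses.mk g)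
    rw [ConjClasses.mk_eq_mk_iff_isConj.mpr h1]
  · have h2 : IsConj (1 : G) (rep 1) := hrepconj 1
    have h3 : rep 1 = 1 := by
      obtain ⟨y, hy⟩ := isConj_iff.mp h2
      rw [← hy]; group
    have : (1 : G) = rep 1 := h3.symm
    rw [this]
    exact Finset.mem_image.mpr ⟨1, Finset.mem_filter.mpr ⟨Finset.mem_univ _, 0, by simp⟩, rfl⟩

variable {B : Set (IrrCharacter G)} {P : Subgroup G}
  {c : Set (IrrCharacter (Subgroup.centralizer (P : Set G)))}

/-- The nonidentity elements of `P` give pairwise distinct subsections. -/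
theorem card_sub_one_le_sum_ncard [DecidableEq G] {p : ℕ} [Fact p.Prime] (hM : IsPModular p M)
    (hmax : IsMaximalBrauerPair p M B P c)
    (hPab : ∀ x ∈ P, ∀ y ∈ P, x * y = y * x)
    (hT1 : ∀ t : G, conjPair t (⟨P, c⟩ : BrauerPairIdx G) = ⟨P, c⟩ →
      t ∈ Subgroup.centralizer (P : Set G))
    (X : Finset G) (hX : ∀ x ∈ X, ∃ k : ℕ, orderOf x = p ^ k)
    (hXrep : ∀ g : G, (∃ k : ℕ, orderOf g = p ^ k) → ∃! x, x ∈ X ∧ IsConj g x) :
    Nat.card P - 1 ≤ ∑ x ∈ X.erase 1, (indSet M B x).ncard := by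
  classical
  have hp : p.Prime := Fact.out
  have hPe : IsBrauerPair p M P c := hmax.1.1
  have hPp : IsPGroup p P := hPe.1
  -- the nonidentity elements of `P`
  set Pn : Finset G := Finset.univ.filter (fun u : G => u ∈ P ∧ u ≠ 1) with hPn
  have hPncard : Pn.card = Nat.card P - 1 := by
    have h1 : Nat.card P = (Finset.univ.filter (fun u : G => u ∈ P)).card := by
      rw [Nat.card_eq_fintype_card, Fintype.card_subtype]
    have h2 : Pn = (Finset.univ.filter (fun u : G => u ∈ P)).erase 1 := by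
      ext u
      simp only [hPn, Finset.mem_filter, Finset.mem_univ, true_and, Finset.mem_erase]
      tauto
    rw [h2, Finset.card_erase_of_mem, h1]
    exact Finset.mem_filter.mpr ⟨Finset.mem_univ _, P.one_mem⟩
  have hord : ∀ u ∈ Pn, ∃ k : ℕ, orderOf u = p ^ k := by
    intro u hu
    have huP : u ∈ P := (Finset.mem_filter.mp hu).2.1
    obtain ⟨k, hk⟩ := hPp ⟨u, huP⟩
    have h1 : orderOf u ∣ p ^ k := by
      rw [← Subgroup.orderOf_mk u huP]
      exact orderOf_dvd_of_pow_eq_one hk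
    obtain ⟨j, _, hj⟩ := (Nat.dvd_prime_pow hp).mp h1
    exact ⟨j, hj⟩
  -- representatives
  have hrep : ∀ u : G, ∃ x : G, u ∈ Pn → x ∈ X.erase 1 ∧ IsConj u x := by
    intro u
    by_cases hu : u ∈ Pn
    · obtain ⟨x, ⟨hxX, hconj⟩, _⟩ := hXrep u (hord u hu)
      refine ⟨x, fun _ => ⟨Finset.mem_erase.mpr ⟨?_, hxX⟩, hconj⟩⟩
      rintro rfl
      have : u = 1 := by
        obtain ⟨y, hy⟩ := isConj_iff.mp hconj
        have : u = y⁻¹ * (y * u * y⁻¹) * y := by group
        rw [this, hy]; group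
      exact (Finset.mem_filter.mp hu).2.2 this
    · exact ⟨1, fun h => absurd h hu⟩
  choose ρ hρ using hrep
  have hfib : ∀ x ∈ X.erase 1, (Pn.filter (fun u => ρ u = x)).card ≤ (indSet M B x).ncard := by
    intro x hx
    have hxX : x ∈ X := (Finset.mem_erase.mp hx).2
    set F := Pn.filter (fun u => ρ u = x) with hF
    have hex : ∀ u ∈ F, ∃ (γ : G)
        (f : Set (IrrCharacter (Subgroup.centralizer (Subgroup.zpowers u : Set G))))
        (b : Set (IrrCharacter (Subgroup.centralizer ({x} : Set G)))),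
        γ * u * γ⁻¹ = x ∧ SubpairLE p M (Subgroup.zpowers u) f P c ∧ b ∈ indSet M B x ∧
        (⟨Subgroup.zpowers x, toZ x b⟩ : BrauerPairIdx G) =
          conjPair γ ⟨Subgroup.zpowers u, f⟩ := by
      intro u hu
      obtain ⟨huPn, hρu⟩ := Finset.mem_filter.mp hu
      have huP : u ∈ P := (Finset.mem_filter.mp huPn).2.1
      have hconj : IsConj u x := by
        rw [← hρu]
        exact (hρ u huPn).2
      obtain ⟨γ, hγ⟩ := isConj_iff.mp hconj
      have hQP : Subgroup.zpowers u ≤ P := Subgroup.zpowers_le.mpr huP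
      obtain ⟨f, hf, hfle⟩ := Cfsg.Agent.S4655.exists_le hM
        (Nat.card P - Nat.card (Subgroup.zpowers u)) (⟨P, c⟩ : BrauerPairIdx G) hPe _ hQP le_rfl
      have hfB : IsBrauerPairOf p M B (Subgroup.zpowers u) f :=
        (Cfsg.Agent.S4658.chain_iff p M hM B _ _ hfle).mp hmax.1
      have hfB' := isBrauerPairOf_conj hfB γ
      have ha1 : (conjPair γ (⟨Subgroup.zpowers u, f⟩ : BrauerPairIdx G)).1 =
          Subgroup.zpowers x := by
        show (Subgroup.zpowers u).map (MulAut.conj γ).toMonoidHom = _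
        rw [map_conj_zpowers, hγ]
      obtain ⟨b, hb, hbeq⟩ := exists_block_of_pair hM x (hX x hxX)
        (conjPair γ (⟨Subgroup.zpowers u, f⟩ : BrauerPairIdx G)) ha1 hfB'
      exact ⟨γ, f, b, hγ, hfle, hb, hbeq⟩
    choose γ f b hγ hf hb hbeq using hex
    have hfin : (indSet M B x).Finite := Set.toFinite _
    rw [Set.ncard_eq_toFinset_card _ hfin, ← Finset.card_attach]
    apply Finset.card_le_card_of_injOn (fun u => b u.1 u.2)
    · intro u _
      exact (Set.Finite.mem_toFinset hfin).mpr (hb u.1 u.2)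
    · intro u _ v _ huv
      simp only at huv
      have hpair : conjPair (γ u.1 u.2) (⟨Subgroup.zpowers u.1, f u.1 u.2⟩ : BrauerPairIdx G) =
          conjPair (γ v.1 v.2) ⟨Subgroup.zpowers v.1, f v.1 v.2⟩ := by
        rw [← hbeq u.1 u.2, ← hbeq v.1 v.2, huv]
      have hvP : v.1 ∈ P :=
        (Finset.mem_filter.mp (Finset.mem_filter.mp v.2).1).2.1
      have := eq_of_conjPair_eq hM hmax hPab hT1 hvP (hf u.1 u.2) (hf v.1 v.2)
        (by rw [hγ u.1 u.2, hγ v.1 v.2]) hpair
      exact Subtype.ext this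
  calc Nat.card P - 1 = Pn.card := hPncard.symm
    _ = ∑ x ∈ X.erase 1, (Pn.filter (fun u => ρ u = x)).card :=
        Finset.card_eq_sum_card_fiberwise (fun u hu => (hρ u hu).1)
    _ ≤ ∑ x ∈ X.erase 1, (indSet M B x).ncard := Finset.sum_le_sum hfib

omit [Fintype G] in
/-- A sum of positive terms over a finite set is at least its cardinality. -/
theorem ncard_le_finsum_mem {α : Type*} [Finite α] (S : Set α) (f : α → ℕ)
    (h : ∀ b ∈ S, 1 ≤ f b) : S.ncard ≤ ∑ᶠ b ∈ S, f b := by
  classical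
  have hfin : S.Finite := Set.toFinite S
  rw [finsum_mem_eq_finite_toFinset_sum _ hfin, Set.ncard_eq_toFinset_card S hfin]
  rw [Finset.card_eq_sum_ones]
  apply Finset.sum_le_sum
  intro b hb
  exact h b ((Set.Finite.mem_toFinset hfin).mp hb)

/-- **Lower bound**: with abelian `P` and trivial inertial quotient,
`l(B) + (|P| - 1) ≤ k(B)`. -/
theorem rank_add_card_sub_one_le {p : ℕ} [Fact p.Prime] (hM : IsPModular p M)
    (hmax : IsMaximalBrauerPair p M B P c)
    (hPab : ∀ x ∈ P, ∀ y ∈ P, x * y = y * x)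
    (hT1 : ∀ t : G, conjPair t (⟨P, c⟩ : BrauerPairIdx G) = ⟨P, c⟩ →
      t ∈ Subgroup.centralizer (P : Set G)) :
    blockRank p B + (Nat.card P - 1) ≤ Nat.card B := by
  classical
  have hMp := isPModular_isPrime hM
  have hB : IsPBlock M B := hmax.1.2.1
  obtain ⟨X, hX, hXrep, h1X⟩ := exists_reps (G := G) p
  have hcount := Cfsg.Agent.S4511.result p M hM B hB X hX hXrep
  rw [← Finset.add_sum_erase X _ h1X] at hcount
  have hone : ∑ᶠ b ∈ {b : Set (IrrCharacter ↥(Subgroup.centralizer ({(1 : G)} : Set G))) |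
      IsInducedBlock M (Subgroup.centralizer ({(1 : G)} : Set G)) b B}, blockRank p b =
      blockRank p B := finsum_indSet_one hM hB
  rw [hone] at hcount
  have h1 := card_sub_one_le_sum_ncard hM hmax hPab hT1 X hX hXrep
  have h2 : ∑ x ∈ X.erase 1, (indSet M B x).ncard ≤
      ∑ x ∈ X.erase 1, ∑ᶠ b ∈ {b : Set (IrrCharacter ↥(Subgroup.centralizer ({x} : Set G))) |
        IsInducedBlock M (Subgroup.centralizer ({x} : Set G)) b B}, blockRank p b := by
    apply Finset.sum_le_sum
    intro x _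
    have : Finite (IrrCharacter ↥(Subgroup.centralizer ({x} : Set G))) := finite_irrCharacter
    apply ncard_le_finsum_mem
    intro b hb
    exact one_le_blockRank p (IsPBlock_nonempty hMp.ne_top hb.1)
  omega

end NilAbel

end Cfsg.Agent.Lib.Helper82
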