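import Cfsg.Agent.Lib.Helper82.NilAbelCount
import Cfsg.Agent.Lib.Helper82.NilAbelLocal
import Cfsg.Agent.Lib.Helper78.DefectOrder
import Cfsg.Agent.S4539
import Cfsg.Agent.S4669

/-!
# Theorem N: abelian defect group and trivial inertial quotient give `l(B) = 1` (helper82)

Let `(P, c)` be a maximal `B`-pair with `P` abelian and `N_G(P, c) = C_G(P)`.  Then `B` has a
single irreducible Brauer character, and `k(B) = |P|`.  Induction on `|G|`: if `P` is central this
is S4669; otherwise take `u ∈ P` non-central: the local block at `u` has rank one by induction,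
so `k(B) ≤ |P|` (S4539), while Brauer's count gives `l(B) + |P| - 1 ≤ k(B)`.
-/

set_option autoImplicit false

namespace Cfsg.Agent.Lib.Helper82

open Cfsg MonoidAlgebra Cfsg.Agent.Lib.Helper77 Cfsg.Agent.Lib.Helper16
  Cfsg.Agent.Lib.Helper78 Cfsg.Agent.Lib.Helper79
open scoped ComplexConjugate

universe u

variable {M : Ideal AlgInt}

namespace NilAbel

section Upper

variable {G : Type u} [Group G] [Fintype G] {B : Set (IrrCharacter G)} {P : Subgroup G}
  {c : Set (IrrCharacter (Subgroup.centralizer (P : Set G)))}

/-- If the local block at some `u ∈ P` has rank one, then `k(B) ≤ |P|` (by S4539). -/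
theorem card_le_of_local_rank_one {p : ℕ} [Fact p.Prime] (hM : IsPModular p M)
    (hmax : IsMaximalBrauerPair p M B P c)
    (hPab : ∀ x ∈ P, ∀ y ∈ P, x * y = y * x)
    (hT1 : ∀ t : G, conjPair t (⟨P, c⟩ : BrauerPairIdx G) = ⟨P, c⟩ →
      t ∈ Subgroup.centralizer (P : Set G))
    {u : G} (huP : u ∈ P)
    (hl : ∀ f : Set (IrrCharacter (Subgroup.centralizer (Subgroup.zpowers u : Set G))),
      TrivInertial p M f (P.subgroupOf (Subgroup.centralizer (Subgroup.zpowers u : Set G))) →
        blockRank p f = 1) :
    Nat.card B ≤ Nat.card P := by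
  classical
  have hp : p.Prime := Fact.out
  have hB : IsPBlock M B := hmax.1.2.1
  have hPD : IsDefectGroup p M B P := isDefectGroup_of_isMaximalBrauerPair hM B P c hmax
  have hcard : Nat.card P = p ^ blockDefect p B := card_defectGroup hM hB hPD
  have hPp : IsPGroup p P := hmax.1.1.1
  have hQP : Subgroup.zpowers u ≤ P := Subgroup.zpowers_le.mpr huP
  obtain ⟨f, hle, hfB, hTIf⟩ := exists_local_block hM hmax hPab hT1 hQP
  have hlf : blockRank p f = 1 := hl f hTIf
  have hu : ∃ k : ℕ, orderOf u = p ^ k := by
    obtain ⟨k, hk⟩ := hPp ⟨u, huP⟩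
    have h1 : orderOf u ∣ p ^ k := by
      rw [← Subgroup.orderOf_mk u huP]
      exact orderOf_dvd_of_pow_eq_one hk
    obtain ⟨j, _, hj⟩ := (Nat.dvd_prime_pow hp).mp h1
    exact ⟨j, hj⟩
  obtain ⟨b, hb, hbeq⟩ := exists_block_of_pair hM u hu
    (⟨Subgroup.zpowers u, f⟩ : BrauerPairIdx G) rfl hfB
  have hbf : toZ u b = f := pairIdx_snd_eq hbeq
  have hlb : blockRank p b = 1 := by
    rw [← blockRank_toZ p u b, hbf]
    exact hlf
  obtain ⟨c', hmax', _, _⟩ := hTIf
  have : Fintype ↥(Subgroup.centralizer (Subgroup.zpowers u : Set G)) := Fintype.ofFinite _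
  have hfD : IsDefectGroup p M f
      (P.subgroupOf (Subgroup.centralizer (Subgroup.zpowers u : Set G))) :=
    isDefectGroup_of_isMaximalBrauerPair hM f _ c' hmax'
  have hbD : IsDefectGroup p M b (P.subgroupOf (Subgroup.centralizer ({u} : Set G))) := by
    rw [← isDefectGroup_pullBlock_subgroupCongr (centralizer_zpowers_eq u) b P]
    have : pullBlock (MulEquiv.subgroupCongr (centralizer_zpowers_eq u)) b = f := hbf
    rw [this]
    exact hfD
  have hk := Cfsg.Agent.S4539.result p M hM B hB P hPD u huP (fun d hd => hPab d hd u huP) b hb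
    hbD (by omega)
  rw [hcard]
  exact hk

end Upper

/-- **Theorem N**, by induction on the order of the group. -/
theorem blockRank_eq_one_aux {p : ℕ} [Fact p.Prime] (hM : IsPModular p M) :
    ∀ (n : ℕ) (G : Type u) [Group G] [Fintype G], Nat.card G = n →
      ∀ (B : Set (IrrCharacter G)) (P : Subgroup G), TrivInertial p M B P →
        blockRank p B = 1 := by
  intro n
  induction n using Nat.strong_induction_on with
  | _ n ih =>
    intro G _ _ hn B P hTI
    classical
    obtain ⟨c, hmax, hPab, hT1⟩ := hTI
    have hMp := isPModular_isPrime hM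
    have hB : IsPBlock M B := hmax.1.2.1
    have hPD : IsDefectGroup p M B P := isDefectGroup_of_isMaximalBrauerPair hM B P c hmax
    by_cases hPZ : P ≤ Subgroup.center G
    · exact Cfsg.Agent.S4669.result p M hM B hB P hPD hPZ
    · obtain ⟨u, huP, huZ⟩ := SetLike.not_le_iff_exists.mp hPZ
      have hlow := rank_add_card_sub_one_le hM hmax hPab hT1
      have h1 := one_le_blockRank p (IsPBlock_nonempty hMp.ne_top hB)
      have hPpos : 0 < Nat.card P := Nat.card_pos
      have : Fintype ↥(Subgroup.centralizer (Subgroup.zpowers u : Set G)) := Fintype.ofFinite _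
      have hlt : Nat.card ↥(Subgroup.centralizer (Subgroup.zpowers u : Set G)) < n := by
        rw [← hn]
        have hne : Subgroup.centralizer (Subgroup.zpowers u : Set G) ≠ ⊤ := by
          intro htop
          apply huZ
          rw [Subgroup.mem_center_iff]
          intro g
          have hg : g ∈ Subgroup.centralizer (Subgroup.zpowers u : Set G) := by
            rw [htop]; exact Subgroup.mem_top g
          exact (Subgroup.mem_centralizer_iff.mp hg u (Subgroup.mem_zpowers u)).symm
        have h2 := Subgroup.card_le_card_group (Subgroup.centralizer (Subgroup.zpowers u : Set G))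
        rcases Nat.lt_or_ge (Nat.card ↥(Subgroup.centralizer (Subgroup.zpowers u : Set G)))
          (Nat.card G) with h3 | h3
        · exact h3
        · exact absurd (Subgroup.card_eq_iff_eq_top _ |>.mp (le_antisymm h2 h3)) hne
      have hupper := card_le_of_local_rank_one hM hmax hPab hT1 huP
        (fun f hf => ih _ hlt _ rfl f _ hf)
      omega

variable {G : Type u} [Group G] [Fintype G] {B : Set (IrrCharacter G)} {P : Subgroup G}

/-- **Theorem N**: a block with abelian defect group and trivial inertial quotient has a single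
irreducible Brauer character. -/
theorem blockRank_eq_one {p : ℕ} [Fact p.Prime] (hM : IsPModular p M)
    (h : TrivInertial p M B P) : blockRank p B = 1 :=
  blockRank_eq_one_aux hM _ G rfl B P h

/-- A block with abelian defect group `P` and trivial inertial quotient has `|P|` characters. -/
theorem card_eq_card {p : ℕ} [Fact p.Prime] (hM : IsPModular p M)
    (h : TrivInertial p M B P) : Nat.card B = Nat.card P := by
  classical
  have hl := blockRank_eq_one hM h
  obtain ⟨c, hmax, hPab, hT1⟩ := h
  have hlow := rank_add_card_sub_one_le hM hmax hPab hT1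
  have hPpos : 0 < Nat.card P := Nat.card_pos
  have hupper := card_le_of_local_rank_one hM hmax hPab hT1 P.one_mem
    (fun f hf => by
      have : Fintype ↥(Subgroup.centralizer (Subgroup.zpowers (1 : G) : Set G)) :=
        Fintype.ofFinite _
      exact blockRank_eq_one hM hf)
  omega

end NilAbel

end Cfsg.Agent.Lib.Helper82
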