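import Mathlib
import Cfsg.Prelude.Def_Blocks
import Cfsg.Prelude.Def_Transfer
import Cfsg.Agent.Lib.Helper3.PrincipalLin

/-!
# A normal `p`-complement criterion from the principal block (helper82, for S4711)

If no non-principal member of the principal `p`-block of `X` has the principal character of a
Sylow `p`-subgroup `Q` as a constituent of its restriction to `Q`, then the principal block has
dimension `|Q|`, every linear character of `Q` extends to `X`, and `X` has a normal
`p`-complement.
-/

set_option autoImplicit false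
set_option linter.unusedSectionVars false

namespace Cfsg.Agent.Lib.Helper82.PLenOne

open Cfsg
open Cfsg.Agent.Lib
open Cfsg.Agent.Lib.Helper3.PrincipalLin
open scoped ComplexConjugate

universe u

section npc

variable {X : Type u} [Group X] [Fintype X] {p : ℕ} [Fact p.Prime]

theorem mult_triv_one (Q : Subgroup X) [Fintype Q] :
    mult Q (triv X) (1 : Q →* ℂˣ) = 1 := by
  have h := mult_spec Q (triv X) (1 : Q →* ℂˣ)
  unfold classInner at h
  have hc : (Nat.card Q : ℂ) ≠ 0 := by exact_mod_cast Nat.card_pos.ne'
  have h1 : ∑ x : Q, ((triv X : IrrCharacter X) : X → ℂ) x *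
      conj (((1 : Q →* ℂˣ) x : ℂˣ) : ℂ) = (Nat.card Q : ℂ) := by
    simp [triv, Nat.card_eq_fintype_card]
  rw [h1, inv_mul_cancel₀ hc] at h
  exact_mod_cast h.symm

open Classical in
/-- If the principal character of the Sylow `p`-subgroup `Q` is a constituent of the restriction
of no non-principal member of the principal block, then every linear character of `Q` is the
restriction of a linear character of `X` lying in the principal block. -/
theorem exists_linear_of_mult_eq_zero {M : Ideal AlgInt} (hM : IsPModular p M) (Q : Sylow p X)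
    [Fintype Q]
    (h : ∀ θ ∈ principalBlock M X, θ ≠ triv X → mult (Q : Subgroup X) θ (1 : Q →* ℂˣ) = 0)
    (μ : Q →* ℂˣ) :
    ∃ χ ∈ principalBlock M X, charDegree (χ : X → ℂ) = 1 ∧
      ∀ x : Q, (χ : X → ℂ) x = ((μ x : ℂˣ) : ℂ) := by
  have h1 := sum_deg_mult_mul_card hM (Q : Subgroup X) Q.2 (1 : Q →* ℂˣ)
  have hμ := sum_deg_mult_mul_card hM (Q : Subgroup X) Q.2 μ
  have hc : (Nat.card Q : ℂ) ≠ 0 := by exact_mod_cast Nat.card_pos.ne'
  have heq : (∑ χ : IrrCharacter X, if χ ∈ principalBlock M X then
        (charDegree (χ : X → ℂ) : ℂ) * mult (Q : Subgroup X) χ μ else 0) =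
      ∑ χ : IrrCharacter X, if χ ∈ principalBlock M X then
        (charDegree (χ : X → ℂ) : ℂ) * mult (Q : Subgroup X) χ (1 : Q →* ℂˣ) else 0 := by
    apply mul_right_cancel₀ hc
    rw [h1, hμ]
  -- the right-hand side is `1`
  have hone : (∑ χ : IrrCharacter X, if χ ∈ principalBlock M X then
        (charDegree (χ : X → ℂ) : ℂ) * mult (Q : Subgroup X) χ (1 : Q →* ℂˣ) else 0) = 1 := by
    rw [Finset.sum_eq_single (triv X)]
    · rw [if_pos (triv_mem hM), charDegree_triv, mult_triv_one]
      norm_num
    · intro χ _ hχ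
      split_ifs with hB
      · rw [h χ hB hχ]
        simp
      · rfl
    · intro hh
      exact absurd (Finset.mem_univ _) hh
  rw [hone] at heq
  have hnat : (∑ χ : IrrCharacter X, if χ ∈ principalBlock M X then
        charDegree (χ : X → ℂ) * mult (Q : Subgroup X) χ μ else 0) = 1 := by
    have : ((∑ χ : IrrCharacter X, if χ ∈ principalBlock M X then
        charDegree (χ : X → ℂ) * mult (Q : Subgroup X) χ μ else 0 : ℕ) : ℂ) = ((1 : ℕ) : ℂ) := by
      rw [Nat.cast_one, ← heq, Nat.cast_sum]
      refine Finset.sum_congr rfl fun χ _ => ?_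
      split_ifs <;> simp
    exact_mod_cast this
  -- some term is nonzero
  have hex : ∃ χ : IrrCharacter X, (if χ ∈ principalBlock M X then
        charDegree (χ : X → ℂ) * mult (Q : Subgroup X) χ μ else 0) ≠ 0 := by
    by_contra hcon
    push Not at hcon
    rw [Finset.sum_eq_zero (fun χ _ => hcon χ)] at hnat
    exact zero_ne_one hnat
  obtain ⟨χ, hχ⟩ := hex
  have hB : χ ∈ principalBlock M X := by
    by_contra hB
    rw [if_neg hB] at hχ
    exact hχ rfl
  rw [if_pos hB] at hχ
  have hle : charDegree (χ : X → ℂ) * mult (Q : Subgroup X) χ μ ≤ 1 := by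
    rw [← hnat]
    have := Finset.single_le_sum (f := fun χ : IrrCharacter X => if χ ∈ principalBlock M X then
        charDegree (χ : X → ℂ) * mult (Q : Subgroup X) χ μ else 0)
      (fun _ _ => Nat.zero_le _) (Finset.mem_univ χ)
    simpa only [if_pos hB] using this
  have hprod : charDegree (χ : X → ℂ) * mult (Q : Subgroup X) χ μ = 1 := by omega
  have hdeg : charDegree (χ : X → ℂ) = 1 := Nat.eq_one_of_mul_eq_one_right hprod
  have hm : mult (Q : Subgroup X) χ μ = 1 := Nat.eq_one_of_mul_eq_one_left hprod
  refine ⟨χ, hB, hdeg, ?_⟩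
  by_contra hne
  have := mult_of_degree_one (Q : Subgroup X) χ μ hdeg hne
  omega

end npc

section npc2

variable {X : Type u} [Group X] [Finite X] {p : ℕ} [Fact p.Prime]

/-- **Criterion.** If the principal character of a Sylow `p`-subgroup `Q` of `X` is a constituent
of the restriction of no non-principal member of the principal `p`-block, then `X` has a normal
`p`-complement. -/
theorem hasNormalPComplement_of_mult_eq_zero {M : Ideal AlgInt} (hM : IsPModular p M)
    (Q : Sylow p X) [Fintype Q]
    (h : ∀ θ ∈ principalBlock M X, θ ≠ triv X → mult (Q : Subgroup X) θ (1 : Q →* ℂˣ) = 0) :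
    HasNormalPComplement p X := by
  have : Fintype X := Fintype.ofFinite X
  apply Helper9.hasNormalPComplement_of_focalSubgroup_le_frattini Q
  apply focalSubgroup_le_frattini_of_extend Q
  intro μ _
  obtain ⟨χ, -, hχ1, hχμ⟩ := exists_linear_of_mult_eq_zero hM Q h μ
  have h2 : (χ : X → ℂ) 1 = 1 := by
    rw [Helper79.irr_apply_one_eq_charDegree χ, hχ1, Nat.cast_one]
  obtain ⟨φ, hφ⟩ := Helper77.exists_monoidHom_of_degree_one
    (Helper78.IsIrrCharacter.isCharacter χ.2) h2
  refine ⟨φ, fun x => ?_⟩
  apply Units.ext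
  rw [← hφ, hχμ]

end npc2

end Cfsg.Agent.Lib.Helper82.PLenOne
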