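import Mathlib
import Cfsg.Prelude.Def_Blocks
import Cfsg.Prelude.Def_Local
import Cfsg.Agent.Lib.Helper82.PLenOneNpc
import Cfsg.Agent.Lib.Helper75.PrincipalLambda
import Cfsg.Agent.Lib.Helper16.NormalSub
import Cfsg.Agent.Lib.Helper63.PLen2
import Cfsg.Agent.Lib.Helper77.Deflation
import Cfsg.Agent.Lib.Helper81.IrrTwist

/-!
# `p`-length one and restriction of the principal block to a Sylow normalizer (helper82, S4711)

Isaacs–Smith: `G` has `p`-length `1` iff every member of the principal `p`-block restricts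
irreducibly to `N_G(P)`, `P` a Sylow `p`-subgroup.
-/

set_option autoImplicit false
set_option linter.unusedSectionVars false

namespace Cfsg.Agent.Lib.Helper82.PLenOne

open Cfsg
open Cfsg.Agent.Lib
open Cfsg.Agent.Lib.Helper3.PrincipalLin
open scoped ComplexConjugate

universe u

section clifford

variable {G : Type u} [Group G] [Fintype G]

/-- If `χ` restricts irreducibly to the normalizer of `P`, then either `P` lies in the kernel of
`χ` or the principal character of `P` is not a constituent of `χ` restricted to `P`. -/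
theorem apply_eq_or_sum_eq_zero (P : Subgroup G) [Fintype P] (χ : IrrCharacter G)
    (hirr : IsIrrCharacter ↥(Subgroup.normalizer (P : Set G))
      (fun n : ↥(Subgroup.normalizer (P : Set G)) => (χ : G → ℂ) n)) :
    (∀ x ∈ P, (χ : G → ℂ) x = (χ : G → ℂ) 1) ∨ ∑ x : P, (χ : G → ℂ) x = 0 := by
  classical
  by_cases hs : ∑ x : P, (χ : G → ℂ) x = 0
  · exact Or.inr hs
  left
  set NN := Subgroup.normalizer (P : Set G) with hNN
  have hle : P ≤ NN := Subgroup.le_normalizer
  set Q' : Subgroup ↥NN := P.subgroupOf NN with hQ'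
  have hQn : Q'.Normal := Subgroup.normal_in_normalizer
  have : Fintype ↥NN := Fintype.ofFinite _
  have : Fintype ↥Q' := Fintype.ofFinite _
  let ψ : IrrCharacter ↥NN := ⟨_, hirr⟩
  let e : ↥Q' ≃ ↥P := (Subgroup.subgroupOfEquivOfLe hle).toEquiv
  have he : ∀ n : ↥Q', ((e n : ↥P) : G) = ((n : ↥NN) : G) := fun n => rfl
  have hsum : ∑ n : ↥Q', (ψ : ↥NN → ℂ) n = ∑ x : P, (χ : G → ℂ) x := by
    apply Fintype.sum_equiv e
    intro n
    show (χ : G → ℂ) ((n : ↥NN) : G) = (χ : G → ℂ) ((e n : ↥P) : G)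
    rw [he]
  have hne : classInner (fun n : ↥Q' => (ψ : ↥NN → ℂ) n) (Helper16.oneIrr Q' : ↥Q' → ℂ) ≠ 0 := by
    unfold classInner
    have h1 : ∑ n : ↥Q', (ψ : ↥NN → ℂ) n * conj ((Helper16.oneIrr Q' : ↥Q' → ℂ) n) =
        ∑ x : P, (χ : G → ℂ) x := by
      rw [← hsum]
      refine Finset.sum_congr rfl fun n _ => ?_
      show (ψ : ↥NN → ℂ) n * conj (1 : ℂ) = _
      rw [map_one, mul_one]
    rw [h1]
    have hc : (Nat.card ↥Q' : ℂ) ≠ 0 := by exact_mod_cast Nat.card_pos.ne'
    exact mul_ne_zero (inv_ne_zero hc) hs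
  intro x hx
  have hxN : x ∈ NN := hle hx
  have hxQ : (⟨x, hxN⟩ : ↥NN) ∈ Q' := by
    rw [hQ', Subgroup.mem_subgroupOf]
    exact hx
  have := Helper16.eq_apply_one_of_classInner_res_oneIrr_ne_zero Q' ψ hne ⟨⟨x, hxN⟩, hxQ⟩
  exact this

end clifford

section cover

variable {G : Type u} [Group G] [Fintype G] {p : ℕ} [Fact p.Prime]

/-- Under the irreducibility hypothesis, no non-principal member of the principal block of the
normal closure `G₁` of the Sylow `p`-subgroup `P` has the principal character of `P` as a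
constituent on `P`. -/
theorem mult_eq_zero_of_irr {M : Ideal AlgInt} (hM : IsPModular p M) (P : Sylow p G)
    (hirr : ∀ χ ∈ principalBlock M G,
      IsIrrCharacter ↥(Subgroup.normalizer ((P : Subgroup G) : Set G))
        (fun n : ↥(Subgroup.normalizer ((P : Subgroup G) : Set G)) => (χ : G → ℂ) n))
    (G1 : Subgroup G) [hG1n : G1.Normal] (hPG1 : (P : Subgroup G) ≤ G1)
    (hmin : ∀ K : Subgroup G, K.Normal → (P : Subgroup G) ≤ K → G1 ≤ K)
    (θ : IrrCharacter ↥G1) (hθ : θ ∈ principalBlock M ↥G1) (hne : θ ≠ triv ↥G1)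
    (Q : Subgroup ↥G1) [Fintype ↥Q] (hQ : ∀ y : ↥G1, y ∈ Q ↔ (y : G) ∈ (P : Subgroup G)) :
    mult Q θ (1 : ↥Q →* ℂˣ) = 0 := by
  classical
  have : Fintype ↥G1 := Fintype.ofFinite _
  have : Fintype ↥(P : Subgroup G) := Fintype.ofFinite _
  obtain ⟨χ, hχB, hχθ⟩ := Helper75.exists_principal_over hM G1 θ hθ
  have hχc : IsCharacter G (χ : G → ℂ) := Helper78.IsIrrCharacter.isCharacter χ.2
  rcases apply_eq_or_sum_eq_zero (P : Subgroup G) χ (hirr χ hχB) with hker | hsum
  · exfalso
    obtain ⟨K, hKn, hK, -, -⟩ := Helper77.exists_kernel hχc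
    have hPK : (P : Subgroup G) ≤ K := fun x hx => (hK x).mpr (hker x hx)
    have hG1K : G1 ≤ K := hmin K hKn hPK
    have hfun : (fun n : ↥G1 => (χ : G → ℂ) n) =
        ((χ : G → ℂ) 1) • ((triv ↥G1 : IrrCharacter ↥G1) : ↥G1 → ℂ) := by
      funext n
      show (χ : G → ℂ) n = (χ : G → ℂ) 1 * 1
      rw [mul_one]
      exact (hK n).mp (hG1K n.2)
    apply hχθ
    rw [hfun, Helper78.classInner_smul_left,
      Helper78.classInner_irr_ne (triv ↥G1).2 θ.2 (fun h => hne (Subtype.ext h.symm)), mul_zero]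
  · -- decompose the restriction to `G1`
    have hres : IsCharacter ↥G1 (fun n : ↥G1 => (χ : G → ℂ) n) := Helper75.isCharacter_res G1 hχc
    have heq := Helper78.IsCharacter.eq_sum_irr hres
    let e : ↥Q ≃ ↥(P : Subgroup G) :=
      { toFun := fun y => ⟨((y : ↥G1) : G), (hQ y).mp y.2⟩
        invFun := fun x => ⟨⟨(x : G), hPG1 x.2⟩, (hQ _).mpr x.2⟩
        left_inv := fun y => rfl
        right_inv := fun x => rfl }
    have hsumQ : ∑ y : ↥Q, (χ : G → ℂ) ((y : ↥G1) : G) = 0 := by
      rw [← hsum]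
      apply Fintype.sum_equiv e
      intro y
      rfl
    have hexp : ∑ y : ↥Q, (χ : G → ℂ) ((y : ↥G1) : G) =
        ∑ φ : IrrCharacter ↥G1, ((Helper75.resMult G1 χ φ * (Nat.card ↥Q * mult Q φ 1) : ℕ) : ℂ) := by
      have h1 : ∀ y : ↥Q, (χ : G → ℂ) ((y : ↥G1) : G) =
          ∑ φ : IrrCharacter ↥G1, (Helper75.resMult G1 χ φ : ℂ) * (φ : ↥G1 → ℂ) (y : ↥G1) := by
        intro y
        have h2 := congrFun heq (y : ↥G1)
        rw [Finset.sum_apply] at h2
        rw [h2]
        refine Finset.sum_congr rfl fun φ _ => ?_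
        rw [Pi.smul_apply, smul_eq_mul, Helper75.resMult_spec]
      rw [Finset.sum_congr rfl fun y _ => h1 y, Finset.sum_comm]
      refine Finset.sum_congr rfl fun φ _ => ?_
      rw [← Finset.mul_sum]
      have h3 := sum_eq_card_mul_mult Q φ (1 : ↥Q →* ℂˣ)
      have h4 : ∑ x : ↥Q, (φ : ↥G1 → ℂ) x * conj ((((1 : ↥Q →* ℂˣ) x : ℂˣ)) : ℂ) =
          ∑ x : ↥Q, (φ : ↥G1 → ℂ) x := by
        refine Finset.sum_congr rfl fun x _ => ?_
        simp
      rw [h4] at h3
      rw [h3]
      push_cast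
      ring
    rw [hexp] at hsumQ
    have hnat : ∑ φ : IrrCharacter ↥G1,
        Helper75.resMult G1 χ φ * (Nat.card ↥Q * mult Q φ 1) = 0 := by
      have : ((∑ φ : IrrCharacter ↥G1,
          Helper75.resMult G1 χ φ * (Nat.card ↥Q * mult Q φ 1) : ℕ) : ℂ) = ((0 : ℕ) : ℂ) := by
        rw [Nat.cast_sum, Nat.cast_zero]
        exact hsumQ
      exact_mod_cast this
    have hterm := (Finset.sum_eq_zero_iff.mp hnat) θ (Finset.mem_univ θ)
    have hm : Helper75.resMult G1 χ θ ≠ 0 := (Helper75.resMult_ne_zero_iff G1 χ θ).mpr hχθ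
    have hcard : Nat.card ↥Q ≠ 0 := Nat.card_pos.ne'
    rcases Nat.mul_eq_zero.mp hterm with h | h
    · exact absurd h hm
    · rcases Nat.mul_eq_zero.mp h with h | h
      · exact absurd h hcard
      · exact h

end cover

section main

variable {G : Type u} [Group G] [Finite G] {p : ℕ} [Fact p.Prime]

/-- A group with a normal `p`-complement has `p`-length at most one. -/
theorem pLengthLE_of_hasNormalPComplement {X : Type u} [Group X] [Finite X]
    (h : HasNormalPComplement p X) : PLengthLE p 1 X := by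
  have hp : p.Prime := Fact.out
  obtain ⟨Q, K, hKn, hc⟩ := h
  have hcard : Nat.card K * Nat.card Q = Nat.card X := hc.card_mul_card
  have hQcard : Nat.card Q = p ^ (Nat.card X).factorization p := Sylow.card_eq_multiplicity Q
  have hcop : (Nat.card K).Coprime p := by
    rw [Nat.coprime_comm, hp.coprime_iff_not_dvd]
    rintro ⟨c, hc'⟩
    have h1 : p ^ ((Nat.card X).factorization p + 1) ∣ Nat.card X := by
      refine ⟨c, ?_⟩
      rw [pow_succ, ← hQcard, ← hcard, hc']
      ring
    have h2 := (hp.pow_dvd_iff_le_factorization Nat.card_pos.ne').mp h1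
    omega
  have h0 : PLengthLE p 0 ↥K := Helper63.PLengthLE.zero_of_coprime hcop
  have hidx : K.index = Nat.card Q := hc.symm.index_eq_card
  have hpq : IsPGroup p (X ⧸ K) := by
    apply IsPGroup.of_card (n := (Nat.card X).factorization p)
    rw [← Subgroup.index_eq_card, hidx, hQcard]
  have h1 : PLengthLE p 1 (X ⧸ K) := Helper63.PLengthLE.one_of_isPGroup hpq
  have := Helper63.PLengthLE.extension K h0 h1
  simpa using this

/-- **Isaacs–Smith, the hard direction.** If every member of the principal `p`-block restricts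
irreducibly to the normalizer of a Sylow `p`-subgroup, then `G` has `p`-length at most one. -/
theorem pLengthLE_of_irr {M : Ideal AlgInt} (hM : IsPModular p M) (P : Sylow p G)
    (hirr : ∀ χ ∈ principalBlock M G,
      IsIrrCharacter ↥(Subgroup.normalizer ((P : Subgroup G) : Set G))
        (fun n : ↥(Subgroup.normalizer ((P : Subgroup G) : Set G)) => (χ : G → ℂ) n)) :
    PLengthLE p 1 G := by
  classical
  have hp : p.Prime := Fact.out
  have : Fintype G := Fintype.ofFinite G
  let G1 : Subgroup G := Subgroup.normalClosure ((P : Subgroup G) : Set G)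
  have hG1n : G1.Normal := Subgroup.normalClosure_normal
  have hPG1 : (P : Subgroup G) ≤ G1 := Subgroup.le_normalClosure
  have hmin : ∀ K : Subgroup G, K.Normal → (P : Subgroup G) ≤ K → G1 ≤ K := by
    intro K hK hPK
    exact Subgroup.normalClosure_le_normal hPK
  let Q : Sylow p ↥G1 := P.subtype hPG1
  have : Fintype Q := Fintype.ofFinite _
  have hQ : ∀ y : ↥G1, y ∈ (Q : Subgroup ↥G1) ↔ (y : G) ∈ (P : Subgroup G) := by
    intro y
    show y ∈ ((P.subtype hPG1 : Sylow p ↥G1) : Subgroup ↥G1) ↔ _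
    rw [Sylow.coe_subtype]
    exact Subgroup.mem_subgroupOf
  have hnpc : HasNormalPComplement p ↥G1 :=
    hasNormalPComplement_of_mult_eq_zero hM Q (fun θ hθ hne =>
      mult_eq_zero_of_irr hM P hirr G1 hPG1 hmin θ hθ hne (Q : Subgroup ↥G1) hQ)
  have h1 : PLengthLE p 1 ↥G1 := pLengthLE_of_hasNormalPComplement hnpc
  have h0 : PLengthLE p 0 (G ⧸ G1) := by
    apply Helper63.PLengthLE.zero_of_coprime
    rw [← Subgroup.index_eq_card]
    have hdvd : G1.index ∣ (P : Subgroup G).index := Subgroup.index_dvd_of_le hPG1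
    have hnd : ¬ p ∣ (P : Subgroup G).index := P.not_dvd_index
    rw [Nat.coprime_comm, hp.coprime_iff_not_dvd]
    exact fun h => hnd (h.trans hdvd)
  have := Helper63.PLengthLE.extension G1 h1 h0
  simpa using this

/-- A `p`-subgroup lies in every normal subgroup of index prime to `p`. -/
theorem le_of_normal_of_coprime_index (P : Sylow p G) (B : Subgroup G) [hB : B.Normal]
    (hidx : (B.index).Coprime p) : (P : Subgroup G) ≤ B := by
  intro x hx
  obtain ⟨k, hk⟩ := P.2 ⟨x, hx⟩
  have hxk : x ^ p ^ k = 1 := by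
    have := congrArg Subtype.val hk
    simpa using this
  have h1 : orderOf ((QuotientGroup.mk' B) x) ∣ p ^ k := by
    apply orderOf_dvd_of_pow_eq_one
    rw [← map_pow, hxk, map_one]
  have h2 : orderOf ((QuotientGroup.mk' B) x) ∣ B.index := by
    rw [Subgroup.index_eq_card]
    exact orderOf_dvd_natCard _
  have h3 : (orderOf ((QuotientGroup.mk' B) x)).Coprime (p ^ k) :=
    Nat.Coprime.coprime_dvd_left h2 (hidx.pow_right k)
  have h4 : orderOf ((QuotientGroup.mk' B) x) = 1 := Nat.Coprime.eq_one_of_dvd h3 h1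
  rw [orderOf_eq_one_iff] at h4
  exact (QuotientGroup.eq_one_iff x).mp h4

/-- **Isaacs–Smith, the easy direction.** In a group of `p`-length at most one, every member of
the principal `p`-block restricts irreducibly to the normalizer of a Sylow `p`-subgroup. -/
theorem irr_of_pLengthLE {M : Ideal AlgInt} (hM : IsPModular p M) (P : Sylow p G)
    (h : PLengthLE p 1 G) (χ : IrrCharacter G) (hχ : χ ∈ principalBlock M G) :
    IsIrrCharacter ↥(Subgroup.normalizer ((P : Subgroup G) : Set G))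
      (fun n : ↥(Subgroup.normalizer ((P : Subgroup G) : Set G)) => (χ : G → ℂ) n) := by
  classical
  have hp : p.Prime := Fact.out
  have : Fintype G := Fintype.ofFinite G
  obtain ⟨V, hV, htop⟩ := (Helper63.pLengthLE_iff (p := p) (G := G) 1).1 h
  have htop' : V 3 = ⊤ := htop
  have hAn : (V 1).Normal := hV.normal 1
  have hBn : (V 2).Normal := hV.normal 2
  have hAB : V 1 ≤ V 2 := hV.mono (by norm_num)
  have hA : (Nat.card (V 1)).Coprime p := by
    have := hV.even 0 ⟨0, rfl⟩
    rw [hV.zero, Subgroup.relIndex_bot_left] at this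
    exact this
  obtain ⟨m, hm⟩ := hV.odd 1 (by decide)
  have hB : ((V 2).index).Coprime p := by
    have := hV.even 2 ⟨1, rfl⟩
    rw [show (2 + 1 : ℕ) = 3 from rfl, htop', Subgroup.relIndex_top_right] at this
    exact this
  have hPB : (P : Subgroup G) ≤ V 2 := le_of_normal_of_coprime_index P (V 2) hB
  -- `V 2 = V 1 ⊔ P`
  have hSB : V 1 ⊔ (P : Subgroup G) ≤ V 2 := sup_le hAB hPB
  have hS1 := Subgroup.relIndex_mul_relIndex (V 1) (V 1 ⊔ (P : Subgroup G)) (V 2) le_sup_left hSB
  have hS2 := Subgroup.relIndex_mul_relIndex (P : Subgroup G) (V 1 ⊔ (P : Subgroup G)) (V 2)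
    le_sup_right hSB
  have hS3 := Subgroup.relIndex_mul_index hPB
  have hnd : ¬ p ∣ (P : Subgroup G).index := P.not_dvd_index
  have hone : (V 1 ⊔ (P : Subgroup G)).relIndex (V 2) = 1 := by
    have hd : (V 1 ⊔ (P : Subgroup G)).relIndex (V 2) ∣ p ^ m := by
      rw [← hm, ← hS1]
      exact dvd_mul_left _ _
    obtain ⟨j, -, hj⟩ := (Nat.dvd_prime_pow hp).mp hd
    rcases Nat.eq_zero_or_pos j with h0 | hpos
    · rw [hj, h0, pow_zero]
    · exfalso
      apply hnd
      rw [← hS3, ← hS2, hj]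
      exact Dvd.dvd.mul_right (Dvd.dvd.mul_left (dvd_pow_self p hpos.ne') _) _
  have hBS : V 2 ≤ V 1 ⊔ (P : Subgroup G) := Subgroup.relIndex_eq_one.mp hone
  -- Frattini
  have hfr : Subgroup.normalizer ((P : Subgroup G) : Set G) ⊔ V 2 = ⊤ :=
    Sylow.normalizer_sup_eq_top' P hPB
  set NN := Subgroup.normalizer ((P : Subgroup G) : Set G) with hNN
  have hPN : (P : Subgroup G) ≤ NN := Subgroup.le_normalizer
  have htopNA : NN ⊔ V 1 = ⊤ := by
    rw [eq_top_iff, ← hfr]
    apply sup_le le_sup_left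
    exact hBS.trans (sup_le le_sup_right (hPN.trans le_sup_left))
  -- the kernel
  have : Fintype ↥(V 1) := Fintype.ofFinite _
  have hpA : ¬ p ∣ Nat.card (V 1) := by
    rw [← hp.coprime_iff_not_dvd, Nat.coprime_comm]
    exact hA
  have hker : ∀ n ∈ V 1, (χ : G → ℂ) n = (χ : G → ℂ) 1 := by
    intro n hn
    have h1 : SameBlock M ((triv G : IrrCharacter G) : G → ℂ) (χ : G → ℂ) := hχ
    exact Helper16.eq_apply_one_of_sameBlock_of_not_dvd (V 1) hM hpA h1 (fun _ _ => rfl) n hn
  -- the surjection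
  let φ : ↥NN →* G ⧸ V 1 := (QuotientGroup.mk' (V 1)).comp NN.subtype
  have hφ : Function.Surjective φ := by
    intro q
    obtain ⟨g, rfl⟩ := QuotientGroup.mk'_surjective (V 1) q
    have hg : g ∈ NN ⊔ V 1 := by rw [htopNA]; exact Subgroup.mem_top g
    obtain ⟨y, hy, z, hz, rfl⟩ := Subgroup.mem_sup_of_normal_right.mp hg
    refine ⟨⟨y, hy⟩, ?_⟩
    show (QuotientGroup.mk' (V 1)) y = (QuotientGroup.mk' (V 1)) (y * z)
    have hz1 : (QuotientGroup.mk' (V 1)) z = 1 := (QuotientGroup.eq_one_iff z).mpr hz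
    rw [map_mul, hz1, mul_one]
  have hirr := Helper81.isIrrCharacter_comp_surjective (Helper77.deflate (V 1) χ hker).2 φ hφ
  have hfun : ((Helper77.deflate (V 1) χ hker : IrrCharacter (G ⧸ V 1)) : G ⧸ V 1 → ℂ) ∘ φ =
      fun n : ↥NN => (χ : G → ℂ) n := by
    funext n
    exact Helper77.deflate_mk (V 1) χ hker (n : G)
  rw [hfun] at hirr
  exact hirr

end main

end Cfsg.Agent.Lib.Helper82.PLenOne
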