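import Mathlib
import Cfsg.Agent.Lib.Helper16.CenterSubsec
import Cfsg.Agent.Lib.Helper75.MajorSubCongr2
import Cfsg.Agent.Lib.Helper82.SubsecKernel
import Cfsg.Agent.Lib.Helper82.KleinCount

/-!
# Characters of a block do not vanish on the sections of the central elements of a defect group

Let `B` be a block with an abelian defect group `P` and `u ∈ P`.  Then `(u, b_u)` is a major
subsection, hence every `χ ∈ B` takes a nonzero value at some `u s` with `s` a `p`-regular element
of `C_G(u)` (helper82, for S4640).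
-/

set_option autoImplicit false
set_option linter.unusedSectionVars false
set_option linter.style.haveILetI false

namespace Cfsg.Agent.Lib.Helper82

open Cfsg Finset Cfsg.Agent.Lib.Helper16 Cfsg.Agent.Lib.Helper78 Cfsg.Agent.Lib.Helper75
open scoped ComplexConjugate

universe u

section SplitMajor

variable {G : Type u} [Group G] [Fintype G] {p : ℕ} [Fact p.Prime] {M : Ideal AlgInt}

/-- If `χ (u c) = 0` for all `p`-regular `c ∈ H`, the `(u, b)`-part of `χ` vanishes at the
`p`-regular elements. -/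
theorem secPart_eq_zero_of_vanish (hM : IsPModular p M) (u : G) (H : Subgroup G) [Fintype H]
    {b : Set (IrrCharacter H)} (hb : IsPBlock M b) (χ : G → ℂ)
    (hχ : ∀ c : H, ¬ p ∣ orderOf c → χ (u * (c : G)) = 0) (s : H) (hs : ¬ p ∣ orderOf s) :
    secPart u H b χ s = 0 := by
  unfold secPart
  rw [blockPart_eq_sum_blockKernel]
  apply mul_eq_zero_of_right
  apply Finset.sum_eq_zero
  intro c _
  by_cases hc : p ∣ orderOf c
  · rw [blockKernel_eq_zero_right hM hb hs hc, mul_zero]
  · rw [hχ c hc, zero_mul]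

/-- If `χ (u c) = 0` for all `p`-regular `c ∈ H`, the contributions of `(u, b)` to `χ` vanish. -/
theorem secM_eq_zero_of_vanish (hM : IsPModular p M) (u : G) (H : Subgroup G) [Fintype H]
    {b : Set (IrrCharacter H)} (hb : IsPBlock M b) (χ ψ : G → ℂ)
    (hχ : ∀ c : H, ¬ p ∣ orderOf c → χ (u * (c : G)) = 0) :
    secM p u H b χ ψ = 0 := by
  classical
  unfold secM
  apply mul_eq_zero_of_right
  apply Finset.sum_eq_zero
  intro s hs
  simp only [Finset.mem_filter, Finset.mem_univ, true_and] at hs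
  rw [secPart_eq_zero_of_vanish hM u H hb χ hχ s hs, zero_mul]

/-- **Nonvanishing on major sections.**  Let `B` be a block with abelian defect group `P`,
`u ∈ P` and `χ ∈ B`.  Then `χ (u s) ≠ 0` for some `p`-regular `s` commuting with `u`. -/
theorem exists_pRegular_apply_ne_zero (hM : IsPModular p M) {B : Set (IrrCharacter G)}
    (hB : IsPBlock M B) {P : Subgroup G} (hP : IsDefectGroup p M B P)
    (hPab : ∀ x ∈ P, ∀ y ∈ P, x * y = y * x) {u : G} (hu : u ∈ P) {χ : IrrCharacter G}
    (hχ : χ ∈ B) :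
    ∃ s : G, Commute u s ∧ ¬ p ∣ orderOf s ∧ (χ : G → ℂ) (u * s) ≠ 0 := by
  classical
  have hMp := isPModular_isPrime hM
  obtain ⟨β, hmax⟩ := exists_isMaximalBrauerPair_of_isDefectGroup hM hB hP
  have hQP : Subgroup.zpowers u ≤ P := (Subgroup.zpowers_le).mpr hu
  have hPC : P ≤ Subgroup.centralizer ((Subgroup.zpowers u : Subgroup G) : Set G) := by
    intro x hx
    rw [Subgroup.mem_centralizer_iff]
    intro y hy
    exact hPab y (hQP hy) x hx
  obtain ⟨f, -, hind, hdef⟩ := exists_major_of_le_center hM hB hP hmax (Subgroup.zpowers u) hQP hPC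
  set H : Subgroup G := Subgroup.centralizer ((Subgroup.zpowers u : Subgroup G) : Set G) with hHdef
  have hH : ∀ g : G, g ∈ H ↔ Commute u g := by
    intro g
    rw [hHdef, Subgroup.mem_centralizer_iff]
    constructor
    · intro h
      exact (h u (Subgroup.mem_zpowers u))
    · intro h y hy
      obtain ⟨k, rfl⟩ := Subgroup.mem_zpowers_iff.mp hy
      exact ((h.zpow_left k).eq)
  have huH : u ∈ H := (hH u).mpr (Commute.refl u)
  -- a height zero character
  obtain ⟨ψ, hψ, hψ0⟩ : ∃ ψ : IrrCharacter G, ψ ∈ B ∧ blockHeight p B (ψ : G → ℂ) = 0 := by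
    obtain ⟨χ₁, hχ₁⟩ := IsPBlock_nonempty hMp.ne_top hB
    have hSne : ((fun ψ : IrrCharacter G =>
        (charDegree (ψ : G → ℂ)).factorization p) '' B).Nonempty := ⟨_, ⟨χ₁, hχ₁, rfl⟩⟩
    obtain ⟨ψ₀, hψ₀B, hψ₀⟩ := Nat.sInf_mem hSne
    refine ⟨ψ₀, hψ₀B, ?_⟩
    unfold blockHeight
    have : (charDegree (ψ₀ : G → ℂ)).factorization p =
      sInf ((fun ψ : IrrCharacter G => (charDegree (ψ : G → ℂ)).factorization p) '' B) := hψ₀
    omega
  have hPp : IsPGroup p P := IsPGroup.of_card (card_defectGroup hM hB hP)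
  obtain ⟨k, hk⟩ := (IsPGroup.iff_orderOf.mp hPp) ⟨u, hu⟩
  have huk : orderOf u = p ^ k := by
    rw [← hk]
    exact (Subgroup.orderOf_mk u hu).symm
  have hzc : (⟨u, huH⟩ : H) ∈ Subgroup.center H := by
    rw [Subgroup.mem_center_iff]
    intro g
    apply Subtype.ext
    simp only [Subgroup.coe_mul]
    exact (((hH g).mp g.2).eq).symm
  have hzk : (⟨u, huH⟩ : H) ^ p ^ k = 1 := by
    apply Subtype.ext
    simp only [Subgroup.coe_pow, Subgroup.coe_one]
    rw [← huk]
    exact pow_orderOf_eq_one u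
  have hne := secM_ne_zero_of_height_zero hM H hind hdef hχ hψ hψ0 (z := ⟨u, huH⟩) hzc hH hzk
    ⟨k, huk⟩
  by_contra hcon
  push Not at hcon
  apply hne
  apply secM_eq_zero_of_vanish hM u H hind.1
  intro c hc
  have hc' : ¬ p ∣ orderOf (c : G) := by
    rwa [Subgroup.orderOf_coe]
  exact hcon (c : G) ((hH c).mp c.2) hc'

end SplitMajor

end Cfsg.Agent.Lib.Helper82
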