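import Mathlib
import Cfsg.Agent.Lib.Helper82.SplitMajor
import Cfsg.Agent.Lib.Helper82.KnorrStab
import Cfsg.Agent.Lib.Helper16.PIndex
import Cfsg.Agent.S0970
import Cfsg.Agent.S0966
import Cfsg.Agent.S0964

/-!
# Blocks with abelian defect groups over a stable block of a normal subgroup of `p`-power index

Setting (S4640): `N ⊴ G` of `p`-power index, `b` a `G`-stable block of `N`, `B` a block of `G`
covering `b` with an abelian defect group `P`.  Then `G = N P`, `P ∩ N` is a defect group of `b`,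
and no nontrivial linear character of `G / N` fixes a member of `B` (helper82).
-/

set_option autoImplicit false
set_option linter.unusedSectionVars false
set_option linter.style.haveILetI false

namespace Cfsg.Agent.Lib.Helper82

open Cfsg Finset Cfsg.Agent.Lib.Helper16 Cfsg.Agent.Lib.Helper78
open scoped ComplexConjugate

universe u

section SplitSetup

variable {G : Type u} [Group G] [Fintype G] (p : ℕ) [Fact p.Prime] (M : Ideal AlgInt)
  (N : Subgroup G) [hN : N.Normal] [Fintype N]

/-- The hypotheses of the splitting theorem. -/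
structure SplitData (b : Set (IrrCharacter N)) (B : Set (IrrCharacter G)) (P : Subgroup G) :
    Prop where
  hM : IsPModular p M
  hidx : ∃ k : ℕ, N.index = p ^ k
  hb : IsPBlock M b
  hstab : ∀ g : G, StabilizesBlock N b g
  hB : IsPBlock M B
  hcov : ∃ χ ∈ B, ∃ θ ∈ b, classInner (fun n : N => (χ : G → ℂ) n) (θ : N → ℂ) ≠ 0
  hPD : IsDefectGroup p M B P
  hPab : ∀ x ∈ P, ∀ y ∈ P, x * y = y * x

variable {p M N}
variable {b : Set (IrrCharacter N)} {B : Set (IrrCharacter G)} {P : Subgroup G}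

theorem SplitData.isGStable (h : SplitData p M N b B P) : IsGStable N b := by
  have hMp := isPModular_isPrime h.hM
  intro θ hθ g
  have h1 : g ∈ blockStab N b := mem_blockStab_of_stabilizesBlock N h.hb (h.hstab g)
  exact ((mem_blockStab N b g).mp h1 θ).mp hθ

theorem SplitData.inv (h : SplitData p M N b B P) :
    ∀ g : G, ∀ θ ∈ b, ∀ θ' : IrrCharacter N,
      (∀ n : N, (θ' : N → ℂ) n = (θ : N → ℂ) ⟨g * n * g⁻¹, hN.conj_mem n n.2 g⟩) → θ' ∈ b := by
  intro g θ hθ θ' hθ'
  have : θ' = conjIrrN N g θ := Subtype.ext (funext hθ')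
  rw [this]
  exact h.isGStable θ hθ g

/-- `B` is the only block of `G` covering `b`. -/
theorem SplitData.unique (h : SplitData p M N b B P) {B' : Set (IrrCharacter G)}
    (hB' : IsPBlock M B')
    (hcov' : ∃ χ ∈ B', ∃ θ ∈ b, classInner (fun n : N => (χ : G → ℂ) n) (θ : N → ℂ) ≠ 0) :
    B' = B := by
  obtain ⟨B₀, -, huniq⟩ := Cfsg.Agent.S0966.result p M h.hM N h.hidx b h.hb
  rw [huniq B' ⟨hB', hcov'⟩, huniq B ⟨h.hB, h.hcov⟩]

theorem SplitData.s0970 (h : SplitData p M N b B P) :
    ¬ p ∣ (P ⊔ N).index ∧ IsDefectGroup p M b ((P ⊓ N).subgroupOf N) ∧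
      blockDefect p B = blockDefect p b + N.index.factorization p :=
  Cfsg.Agent.S0970.result p M h.hM N b h.hb h.inv B h.hB h.hcov
    (by
      intro B'' hB'' hcov''
      rw [h.unique hB'' hcov''])
    P h.hPD

/-- `G = N P`. -/
theorem SplitData.sup_eq_top (h : SplitData p M N b B P) : N ⊔ P = ⊤ := by
  have hpp : p.Prime := Fact.out
  have h1 := h.s0970.1
  obtain ⟨k, hk⟩ := h.hidx
  have h2 : (P ⊔ N).index ∣ N.index := Subgroup.index_dvd_of_le le_sup_right
  rw [hk] at h2
  obtain ⟨j, -, hj⟩ := (Nat.dvd_prime_pow hpp).mp h2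
  have hj0 : j = 0 := by
    by_contra h0
    apply h1
    rw [hj]
    exact dvd_pow_self p h0
  rw [hj0, pow_zero] at hj
  rw [sup_comm]
  exact Subgroup.index_eq_one.mp hj

theorem SplitData.isDefectGroup (h : SplitData p M N b B P) :
    IsDefectGroup p M b ((P ⊓ N).subgroupOf N) := h.s0970.2.1

/-- `p`-regular elements lie in `N`. -/
theorem SplitData.mem_of_pRegular (h : SplitData p M N b B P) {g : G} (hg : ¬ p ∣ orderOf g) :
    g ∈ N := by
  obtain ⟨k, hk⟩ := h.hidx
  exact mem_of_not_dvd_orderOf_of_index N hk hg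

/-- Every element of `G` is a product of an element of `N` and an element of `P`. -/
theorem SplitData.exists_mul (h : SplitData p M N b B P) (g : G) :
    ∃ n ∈ N, ∃ x ∈ P, g = n * x := by
  have hg : g ∈ N ⊔ P := by
    rw [h.sup_eq_top]
    exact Subgroup.mem_top g
  rw [Subgroup.mem_sup_of_normal_left] at hg
  obtain ⟨n, hn, x, hx, rfl⟩ := hg
  exact ⟨n, hn, x, hx, rfl⟩

/-- **Free action.**  A linear character of `G` trivial on `N` that fixes a member of `B` under
multiplication is trivial. -/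
theorem SplitData.hom_eq_one (h : SplitData p M N b B P) {χ : IrrCharacter G} (hχ : χ ∈ B)
    (ν : G →* ℂˣ) (hν : N ≤ ν.ker)
    (hmul : ∀ g : G, ((ν g : ℂˣ) : ℂ) * (χ : G → ℂ) g = (χ : G → ℂ) g) : ν = 1 := by
  ext g
  obtain ⟨n, hn, x, hx, rfl⟩ := h.exists_mul g
  have hn1 : ν n = 1 := MonoidHom.mem_ker.mp (hν hn)
  rw [map_mul, hn1, one_mul, MonoidHom.one_apply]
  by_contra hne
  obtain ⟨s, hs, hsp, hval⟩ := exists_pRegular_apply_ne_zero h.hM h.hB h.hPD h.hPab hx hχ
  have hsN : s ∈ N := h.mem_of_pRegular hsp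
  have hs1 : ν s = 1 := MonoidHom.mem_ker.mp (hν hsN)
  have h1 := hmul (x * s)
  rw [map_mul, hs1, mul_one] at h1
  have h2 : (((ν x : ℂˣ) : ℂ) - 1) * (χ : G → ℂ) (x * s) = 0 := by
    rw [sub_mul, h1, one_mul, sub_self]
  rcases mul_eq_zero.mp h2 with h3 | h3
  · apply hne
    apply congrArg Units.val
    apply Units.ext
    rw [Units.val_one]
    exact sub_eq_zero.mp h3
  · exact hval h3

end SplitSetup

end Cfsg.Agent.Lib.Helper82
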