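import Mathlib
import Cfsg.Agent.Lib.Helper82.SplitSetup
import Cfsg.Agent.Lib.Helper78.FiniteAbelianDual
import Cfsg.Agent.Lib.Helper81.Gallagher
import Cfsg.Agent.Lib.Helper75.Clifford

/-!
# Restriction to a normal subgroup of `p`-power index: irreducibility (helper82, for S4640)
-/

set_option autoImplicit false
set_option linter.unusedSectionVars false
set_option linter.style.haveILetI false

namespace Cfsg.Agent.Lib.Helper82

open Cfsg Finset Cfsg.Agent.Lib.Helper16 Cfsg.Agent.Lib.Helper78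
open scoped ComplexConjugate

universe u

section Abstract

variable {G : Type u} [Group G] [Fintype G] (N : Subgroup G) [Fintype N]

open scoped Classical in
/-- The norm of the restriction of `χ` to the kernel `N` of a surjection `π` onto a finite abelian
group is the sum of the inner products of `χ` with its twists by the characters of the image. -/
theorem classInner_res_self_eq_sum {A : Type*} [CommGroup A] [Fintype A]
    [Fintype (A →* ℂˣ)] (π : G →* A)
    (hπ : Function.Surjective π) (hker : π.ker = N) (χ : G → ℂ) :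
    classInner (fun n : N => χ n) (fun n : N => χ n) =
      ∑ ψ : A →* ℂˣ, classInner (fun g => ((ψ (π g) : ℂˣ) : ℂ) * χ g) χ := by
  have hcard : (Nat.card G : ℂ) = (Nat.card A : ℂ) * (Nat.card N : ℂ) := by
    have h1 : Nat.card G = Nat.card A * Nat.card N := by
      have h2 := Subgroup.card_eq_card_quotient_mul_card_subgroup π.ker
      have h3 : Nat.card (G ⧸ π.ker) = Nat.card A :=
        Nat.card_congr (QuotientGroup.quotientKerEquivOfSurjective π hπ).toEquiv
      rw [h3, hker] at h2
      exact h2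
    rw [h1, Nat.cast_mul]
  have hA0 : (Nat.card A : ℂ) ≠ 0 := by exact_mod_cast Nat.card_pos.ne'
  have hN0 : (Nat.card N : ℂ) ≠ 0 := by exact_mod_cast Nat.card_pos.ne'
  unfold classInner
  rw [← Finset.mul_sum, Finset.sum_comm]
  have h1 : ∀ g : G, ∑ ψ : A →* ℂˣ, ((ψ (π g) : ℂˣ) : ℂ) * χ g * conj (χ g) =
      if g ∈ N then (Nat.card A : ℂ) * (χ g * conj (χ g)) else 0 := by
    intro g
    have h2 : ∑ ψ : A →* ℂˣ, ((ψ (π g) : ℂˣ) : ℂ) * χ g * conj (χ g) =
        (∑ ψ : A →* ℂˣ, ((ψ (π g) : ℂˣ) : ℂ)) * (χ g * conj (χ g)) := by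
      rw [Finset.sum_mul]
      apply Finset.sum_congr rfl
      intro ψ _
      ring
    rw [h2, dual_sum_apply]
    have h3 : π g = 1 ↔ g ∈ N := by
      rw [← hker, MonoidHom.mem_ker]
    by_cases hg : g ∈ N
    · rw [if_pos hg, if_pos (h3.mpr hg), Nat.card_eq_fintype_card]
    · rw [if_neg hg, if_neg (fun h => hg (h3.mp h)), zero_mul]
  rw [Finset.sum_congr rfl (fun g _ => h1 g), ← Finset.sum_filter]
  have h4 : ∑ g ∈ Finset.univ.filter (fun g : G => g ∈ N),
      (Nat.card A : ℂ) * (χ g * conj (χ g)) =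
      (Nat.card A : ℂ) * ∑ n : N, χ n * conj (χ n) := by
    rw [← Finset.mul_sum]
    congr 1
    rw [← Finset.sum_subtype (Finset.univ.filter (fun g : G => g ∈ N)) (by simp)
      (fun g => χ g * conj (χ g))]
  rw [h4, hcard]
  field_simp

end Abstract

section SplitRes

variable {G : Type u} [Group G] [Fintype G] {p : ℕ} [Fact p.Prime] {M : Ideal AlgInt}
  {N : Subgroup G} [hN : N.Normal] [Fintype N]
  {b : Set (IrrCharacter N)} {B : Set (IrrCharacter G)} {P : Subgroup G}

/-- `G / N` is commutative. -/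
theorem SplitData.quot_comm (h : SplitData p M N b B P) (a c : G ⧸ N) : a * c = c * a := by
  obtain ⟨g, rfl⟩ := QuotientGroup.mk_surjective a
  obtain ⟨g', rfl⟩ := QuotientGroup.mk_surjective c
  obtain ⟨n, hn, x, hx, rfl⟩ := h.exists_mul g
  obtain ⟨n', hn', x', hx', rfl⟩ := h.exists_mul g'
  have e1 : ((n * x : G) : G ⧸ N) = (x : G ⧸ N) := by
    rw [QuotientGroup.mk_mul, (QuotientGroup.eq_one_iff n).mpr hn, one_mul]
  have e2 : ((n' * x' : G) : G ⧸ N) = (x' : G ⧸ N) := by
    rw [QuotientGroup.mk_mul, (QuotientGroup.eq_one_iff n').mpr hn', one_mul]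
  rw [e1, e2, ← QuotientGroup.mk_mul, ← QuotientGroup.mk_mul, h.hPab x hx x' hx']

/-- The commutative group structure on `G / N`. -/
@[reducible] noncomputable def SplitData.commGroup (h : SplitData p M N b B P) :
    CommGroup (G ⧸ N) :=
  { (inferInstance : Group (G ⧸ N)) with mul_comm := h.quot_comm }

/-- **Irreducible restriction.**  Every member of `B` restricts irreducibly to `N`. -/
theorem SplitData.res_irr (h : SplitData p M N b B P) {χ : IrrCharacter G} (hχ : χ ∈ B) :
    IsIrrCharacter N (fun n : N => (χ : G → ℂ) n) := by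
  classical
  letI : CommGroup (G ⧸ N) := h.commGroup
  have : Fintype (G ⧸ N) := Fintype.ofFinite _
  have : Finite ((G ⧸ N) →* ℂˣ) := inferInstance
  have : Fintype ((G ⧸ N) →* ℂˣ) := Fintype.ofFinite _
  have hchar : IsCharacter N (fun n : N => (χ : G → ℂ) n) :=
    Cfsg.Agent.Lib.Helper75.isCharacter_res N (IsIrrCharacter.isCharacter χ.2)
  rw [isIrrCharacter_iff_classInner_self hchar]
  rw [classInner_res_self_eq_sum N (QuotientGroup.mk' N) (QuotientGroup.mk'_surjective N)
    (QuotientGroup.ker_mk' N) (χ : G → ℂ)]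
  have hterm : ∀ ψ : (G ⧸ N) →* ℂˣ,
      classInner (fun g => ((ψ (QuotientGroup.mk' N g) : ℂˣ) : ℂ) * (χ : G → ℂ) g) (χ : G → ℂ) =
        if ψ = 1 then 1 else 0 := by
    intro ψ
    have hirr : IsIrrCharacter G
        (fun g => (((ψ.comp (QuotientGroup.mk' N)) g : ℂˣ) : ℂ) * (χ : G → ℂ) g) :=
      Cfsg.Agent.Lib.Helper81.isIrrCharacter_monoidHom_mul (ψ.comp (QuotientGroup.mk' N)) χ.2
    have h1 := classInner_irr hirr χ.2
    simp only [MonoidHom.comp_apply] at h1
    rw [h1]
    by_cases hψ : ψ = 1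
    · rw [if_pos hψ, if_pos]
      funext g
      rw [hψ, MonoidHom.one_apply, Units.val_one, one_mul]
    · rw [if_neg hψ, if_neg]
      intro heq
      apply hψ
      have h2 : ψ.comp (QuotientGroup.mk' N) = 1 := by
        apply h.hom_eq_one hχ
        · intro n hn
          rw [MonoidHom.mem_ker, MonoidHom.comp_apply, QuotientGroup.mk'_apply,
            (QuotientGroup.eq_one_iff n).mpr hn, map_one]
        · intro g
          exact congrFun heq g
      apply MonoidHom.ext
      intro a
      obtain ⟨g, rfl⟩ := QuotientGroup.mk_surjective a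
      have := congrArg (fun f : G →* ℂˣ => f g) h2
      simp only [MonoidHom.comp_apply, QuotientGroup.mk'_apply, MonoidHom.one_apply] at this
      rw [this, MonoidHom.one_apply]
  rw [Finset.sum_congr rfl (fun ψ _ => hterm ψ)]
  simp

/-- A character of `G` lying over a member of `b` belongs to `B`. -/
theorem SplitData.mem_of_over (h : SplitData p M N b B P) (χ : IrrCharacter G)
    {θ : IrrCharacter N} (hθ : θ ∈ b)
    (hover : classInner (fun n : N => (χ : G → ℂ) n) (θ : N → ℂ) ≠ 0) : χ ∈ B := by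
  have hMp := isPModular_isPrime h.hM
  have h1 : blockOf M (χ : G → ℂ) = B :=
    h.unique (isPBlock_blockOf χ) ⟨χ, self_mem_blockOf hMp.ne_top χ, θ, hθ, hover⟩
  rw [← h1]
  exact self_mem_blockOf hMp.ne_top χ

/-- The constituents of the restrictions of the members of `B` lie in `b`. -/
theorem SplitData.constituent_mem (h : SplitData p M N b B P) {χ : IrrCharacter G} (hχ : χ ∈ B)
    {ψ : IrrCharacter N}
    (hψ : classInner (fun n : N => (χ : G → ℂ) n) (ψ : N → ℂ) ≠ 0) : ψ ∈ b := by
  obtain ⟨χ₀, hχ₀, θ₀, hθ₀, hne⟩ := h.hcov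
  obtain ⟨g, θ', hθ', hconj⟩ :=
    Cfsg.Agent.S0964.result p M h.hM N B h.hB b h.hb χ₀ hχ₀ θ₀ hθ₀ hne χ hχ ψ hψ
  have e1 : ψ = conjIrrN N g θ' := Subtype.ext (funext hconj)
  rw [e1]
  exact h.isGStable θ' hθ' g

/-- Every member of `B` restricts to a member of `b`. -/
theorem SplitData.res_mem (h : SplitData p M N b B P) {χ : IrrCharacter G} (hχ : χ ∈ B) :
    ∃ θ ∈ b, ∀ n : N, (χ : G → ℂ) n = (θ : N → ℂ) n := by
  obtain ⟨ψ, hψ⟩ := exists_constituent N χ
  have hψb := h.constituent_mem hχ hψ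
  have hirr := h.res_irr hχ
  have h1 := classInner_irr hirr ψ.2
  rw [h1] at hψ
  have h2 : (fun n : N => (χ : G → ℂ) n) = (ψ : N → ℂ) := by
    by_contra hne
    rw [if_neg hne] at hψ
    exact hψ rfl
  exact ⟨ψ, hψb, fun n => congrFun h2 n⟩

end SplitRes

end Cfsg.Agent.Lib.Helper82
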