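import Mathlib
import Cfsg.Agent.Lib.Helper82.SplitRes
import Cfsg.Agent.Lib.Helper3.RealExt

/-!
# Restriction to a normal subgroup of `p`-power index: counting (helper82, for S4640)
-/

set_option autoImplicit false
set_option linter.unusedSectionVars false
set_option linter.style.haveILetI false

namespace Cfsg.Agent.Lib.Helper82

open Cfsg Finset Cfsg.Agent.Lib.Helper16 Cfsg.Agent.Lib.Helper78
open scoped ComplexConjugate

universe u

section SplitCount

variable {G : Type u} [Group G] [Fintype G] {p : ℕ} [Fact p.Prime] {M : Ideal AlgInt}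
  {N : Subgroup G} [hN : N.Normal] [Fintype N]
  {b : Set (IrrCharacter N)} {B : Set (IrrCharacter G)} {P : Subgroup G}

/-- Every member of `b` is the restriction of a member of `B`. -/
theorem SplitData.exists_ext (h : SplitData p M N b B P) {θ : IrrCharacter N} (hθ : θ ∈ b) :
    ∃ χ ∈ B, ∀ n : N, (χ : G → ℂ) n = (θ : N → ℂ) n := by
  obtain ⟨χ, hχ⟩ := exists_irr_over N θ
  have hχB := h.mem_of_over χ hθ hχ
  refine ⟨χ, hχB, ?_⟩
  have hirr := h.res_irr hχB
  have h1 := classInner_irr hirr θ.2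
  rw [h1] at hχ
  have h2 : (fun n : N => (χ : G → ℂ) n) = (θ : N → ℂ) := by
    by_contra hne
    rw [if_neg hne] at hχ
    exact hχ rfl
  exact fun n => congrFun h2 n

/-- The twist of a member of `B` by a character of `G / N`. -/
noncomputable def twistIrrQ (ψ : (G ⧸ N) →* ℂˣ) (χ : IrrCharacter G) : IrrCharacter G :=
  ⟨fun g => (((ψ.comp (QuotientGroup.mk' N)) g : ℂˣ) : ℂ) * (χ : G → ℂ) g,
    Cfsg.Agent.Lib.Helper81.isIrrCharacter_monoidHom_mul (ψ.comp (QuotientGroup.mk' N)) χ.2⟩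

theorem twistIrrQ_apply (ψ : (G ⧸ N) →* ℂˣ) (χ : IrrCharacter G) (g : G) :
    (twistIrrQ ψ χ : G → ℂ) g = ((ψ (g : G ⧸ N) : ℂˣ) : ℂ) * (χ : G → ℂ) g := rfl

theorem twistIrrQ_apply_mem (ψ : (G ⧸ N) →* ℂˣ) (χ : IrrCharacter G) (n : N) :
    (twistIrrQ ψ χ : G → ℂ) n = (χ : G → ℂ) n := by
  rw [twistIrrQ_apply, (QuotientGroup.eq_one_iff (n : G)).mpr n.2, map_one, Units.val_one, one_mul]

/-- **The fibres of restriction.**  Every member of `b` is the restriction of exactly `[G : N]`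
members of `B`. -/
theorem SplitData.card_fiber (h : SplitData p M N b B P) {θ : IrrCharacter N} (hθ : θ ∈ b) :
    Nat.card {χ : IrrCharacter G // χ ∈ B ∧ ∀ n : N, (χ : G → ℂ) n = (θ : N → ℂ) n} =
      N.index := by
  classical
  letI : CommGroup (G ⧸ N) := h.commGroup
  obtain ⟨χ₀, hχ₀, hres₀⟩ := h.exists_ext hθ
  have hθθ : classInner (θ : N → ℂ) (θ : N → ℂ) ≠ 0 := by
    rw [classInner_irr_self θ.2]
    exact one_ne_zero
  -- the map from the dual group to the fibre
  have hmem : ∀ ψ : (G ⧸ N) →* ℂˣ, twistIrrQ ψ χ₀ ∈ B ∧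
      ∀ n : N, (twistIrrQ ψ χ₀ : G → ℂ) n = (θ : N → ℂ) n := by
    intro ψ
    have h1 : ∀ n : N, (twistIrrQ ψ χ₀ : G → ℂ) n = (θ : N → ℂ) n := by
      intro n
      rw [twistIrrQ_apply_mem, hres₀]
    refine ⟨h.mem_of_over _ hθ ?_, h1⟩
    have h2 : (fun n : N => (twistIrrQ ψ χ₀ : G → ℂ) n) = (θ : N → ℂ) := funext h1
    rw [h2]
    exact hθθ
  let Φ : ((G ⧸ N) →* ℂˣ) →
      {χ : IrrCharacter G // χ ∈ B ∧ ∀ n : N, (χ : G → ℂ) n = (θ : N → ℂ) n} :=
    fun ψ => ⟨twistIrrQ ψ χ₀, hmem ψ⟩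
  have hinj : Function.Injective Φ := by
    intro ψ ψ' hΦ
    have h1 : twistIrrQ ψ χ₀ = twistIrrQ ψ' χ₀ := congrArg Subtype.val hΦ
    have h2 : (ψ * ψ'⁻¹).comp (QuotientGroup.mk' N) = 1 := by
      apply h.hom_eq_one hχ₀
      · intro n hn
        rw [MonoidHom.mem_ker, MonoidHom.comp_apply, QuotientGroup.mk'_apply,
          (QuotientGroup.eq_one_iff n).mpr hn, map_one]
      · intro g
        have h3 := congrArg (fun χ : IrrCharacter G => (χ : G → ℂ) g) h1
        simp only [twistIrrQ_apply] at h3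
        rw [MonoidHom.comp_apply, QuotientGroup.mk'_apply, MonoidHom.mul_apply,
          MonoidHom.inv_apply, Units.val_mul, mul_comm ((ψ (g : G ⧸ N) : ℂˣ) : ℂ), mul_assoc, h3,
          ← mul_assoc, ← Units.val_mul, inv_mul_cancel, Units.val_one, one_mul]
    have h4 : ψ * ψ'⁻¹ = 1 := by
      apply MonoidHom.ext
      intro a
      obtain ⟨g, rfl⟩ := QuotientGroup.mk_surjective a
      have := congrArg (fun f : G →* ℂˣ => f g) h2
      simp only [MonoidHom.comp_apply, QuotientGroup.mk'_apply, MonoidHom.one_apply] at this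
      rw [this, MonoidHom.one_apply]
    exact mul_inv_eq_one.mp h4
  have hsurj : Function.Surjective Φ := by
    rintro ⟨χ, hχ, hres⟩
    have hirr₀ : IsIrrCharacter N (fun n : N => (χ₀ : G → ℂ) n) := h.res_irr hχ₀
    obtain ⟨ν, hν, hmul⟩ := Cfsg.Agent.Lib.Helper3.RealExt.exists_hom_of_extensions N χ₀.2 χ.2
      hirr₀ (fun n => by rw [hres, hres₀])
    refine ⟨QuotientGroup.lift N ν hν, ?_⟩
    apply Subtype.ext
    apply Subtype.ext
    funext g
    show (twistIrrQ (QuotientGroup.lift N ν hν) χ₀ : G → ℂ) g = (χ : G → ℂ) g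
    rw [twistIrrQ_apply, hmul g, QuotientGroup.lift_mk]
  have hcard : Nat.card {χ : IrrCharacter G // χ ∈ B ∧ ∀ n : N, (χ : G → ℂ) n = (θ : N → ℂ) n} =
      Nat.card ((G ⧸ N) →* ℂˣ) :=
    (Nat.card_congr (Equiv.ofBijective Φ ⟨hinj, hsurj⟩)).symm
  rw [hcard]
  have := hasEnoughRoots_exponent (A := G ⧸ N)
  rw [CommGroup.card_monoidHom_of_hasEnoughRootsOfUnity (G ⧸ N) ℂ, Subgroup.index_eq_card]

/-- `k(B) = [G : N] k(b)`. -/
theorem SplitData.card_eq (h : SplitData p M N b B P) :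
    Nat.card B = N.index * Nat.card b := by
  classical
  have hfinb : Finite b := Set.toFinite b |>.to_subtype
  have : Fintype b := Fintype.ofFinite _
  let E : B ≃ Σ θ : b, {χ : IrrCharacter G // χ ∈ B ∧
      ∀ n : N, (χ : G → ℂ) n = ((θ : IrrCharacter N) : N → ℂ) n} :=
    { toFun := fun χ =>
        ⟨⟨Classical.choose (h.res_mem χ.2), (Classical.choose_spec (h.res_mem χ.2)).1⟩,
          ⟨χ.1, χ.2, (Classical.choose_spec (h.res_mem χ.2)).2⟩⟩
      invFun := fun x => ⟨x.2.1, x.2.2.1⟩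
      left_inv := fun χ => rfl
      right_inv := by
        rintro ⟨⟨θ, hθ⟩, ⟨χ, hχ, hres⟩⟩
        have hspec := Classical.choose_spec (h.res_mem hχ)
        have e : Classical.choose (h.res_mem hχ) = θ := by
          apply Subtype.ext
          funext n
          rw [← hspec.2 n, hres n]
        simp only
        congr 1
        · exact Subtype.ext e
        · subst e
          rfl }
  rw [Nat.card_congr E, Nat.card_sigma]
  have h1 : ∀ θ : b, Nat.card {χ : IrrCharacter G // χ ∈ B ∧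
      ∀ n : N, (χ : G → ℂ) n = ((θ : IrrCharacter N) : N → ℂ) n} = N.index :=
    fun θ => h.card_fiber θ.2
  rw [Finset.sum_congr rfl (fun θ _ => h1 θ), Finset.sum_const, Finset.card_univ, smul_eq_mul,
    Nat.card_eq_fintype_card, mul_comm]

end SplitCount

end Cfsg.Agent.Lib.Helper82
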