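import Mathlib
import Cfsg.Agent.Lib.Helper82.SplitCount
import Cfsg.Prelude.Def_BlockRank

/-!
# Restriction to a normal subgroup of `p`-power index: the `p`-regular rank (helper82, S4640)
-/

set_option autoImplicit false
set_option linter.unusedSectionVars false
set_option linter.style.haveILetI false

namespace Cfsg.Agent.Lib.Helper82

open Cfsg Finset Cfsg.Agent.Lib.Helper16 Cfsg.Agent.Lib.Helper78
open scoped ComplexConjugate

universe u

section SplitRank

variable {G : Type u} [Group G]

open scoped Classical in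
/-- Extension by zero of functions on a subgroup, as a linear map. -/
noncomputable def extZeroLin (N : Subgroup G) : (N → ℂ) →ₗ[ℂ] (G → ℂ) where
  toFun f := fun g => if h : g ∈ N then f ⟨g, h⟩ else 0
  map_add' f f' := by
    funext g
    by_cases h : g ∈ N
    · simp [h]
    · simp [h]
  map_smul' c f := by
    funext g
    by_cases h : g ∈ N
    · simp [h]
    · simp [h]

theorem extZeroLin_apply_mem (N : Subgroup G) (f : N → ℂ) (n : N) :
    extZeroLin N f (n : G) = f n := by
  classical
  show (if h : (n : G) ∈ N then f ⟨(n : G), h⟩ else 0) = f n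
  rw [dif_pos n.2]

theorem extZeroLin_apply_not_mem (N : Subgroup G) (f : N → ℂ) {g : G} (hg : g ∉ N) :
    extZeroLin N f g = 0 := by
  classical
  show (if h : g ∈ N then f ⟨g, h⟩ else 0) = 0
  rw [dif_neg hg]

theorem extZeroLin_injective (N : Subgroup G) : Function.Injective (extZeroLin N) := by
  intro f f' h
  funext n
  rw [← extZeroLin_apply_mem N f n, ← extZeroLin_apply_mem N f' n, h]

variable [Fintype G] {p : ℕ} [Fact p.Prime] {M : Ideal AlgInt}
  {N : Subgroup G} [hN : N.Normal] [Fintype N]
  {b : Set (IrrCharacter N)} {B : Set (IrrCharacter G)} {P : Subgroup G}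

/-- Extension by zero of the `p`-regular part of the restriction. -/
theorem SplitData.extZero_pRegularPart (h : SplitData p M N b B P) (χ : G → ℂ) (θ : N → ℂ)
    (hres : ∀ n : N, χ n = θ n) :
    extZeroLin N (pRegularPart p θ) = pRegularPart p χ := by
  classical
  funext g
  by_cases hg : g ∈ N
  · have e : g = ((⟨g, hg⟩ : N) : G) := rfl
    rw [e, extZeroLin_apply_mem]
    unfold pRegularPart
    have hiff : IsPRegular p (⟨g, hg⟩ : N) ↔ IsPRegular p ((⟨g, hg⟩ : N) : G) := by
      unfold IsPRegular
      rw [Subgroup.orderOf_coe]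
    by_cases hr : IsPRegular p (⟨g, hg⟩ : N)
    · rw [if_pos hr, if_pos (hiff.mp hr), hres]
    · rw [if_neg hr, if_neg (fun h' => hr (hiff.mpr h'))]
  · rw [extZeroLin_apply_not_mem N _ hg]
    unfold pRegularPart
    rw [if_neg]
    intro hr
    exact hg (h.mem_of_pRegular hr)

/-- `l(B) = l(b)`. -/
theorem SplitData.blockRank_eq (h : SplitData p M N b B P) :
    blockRank p B = blockRank p b := by
  classical
  unfold blockRank
  have himage : (fun χ : IrrCharacter G => pRegularPart p (χ : G → ℂ)) '' B =
      (extZeroLin N) '' ((fun θ : IrrCharacter N => pRegularPart p (θ : N → ℂ)) '' b) := by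
    ext f
    constructor
    · rintro ⟨χ, hχ, rfl⟩
      obtain ⟨θ, hθ, hres⟩ := h.res_mem hχ
      exact ⟨_, ⟨θ, hθ, rfl⟩, h.extZero_pRegularPart _ _ hres⟩
    · rintro ⟨_, ⟨θ, hθ, rfl⟩, rfl⟩
      obtain ⟨χ, hχ, hres⟩ := h.exists_ext hθ
      exact ⟨χ, hχ, (h.extZero_pRegularPart _ _ hres).symm⟩
  rw [himage, ← Submodule.map_span]
  exact (LinearEquiv.finrank_eq
    (Submodule.equivMapOfInjective (extZeroLin N) (extZeroLin_injective N) _)).symm

end SplitRank

end Cfsg.Agent.Lib.Helper82
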